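import Groth.Agent.DRingPC.Amplitude
import Mathlib.CategoryTheory.Monoidal.Tor
import Mathlib.Algebra.Category.ModuleCat.Monoidal.Basic
import Mathlib.Algebra.Homology.HomologySequence
import Mathlib.CategoryTheory.Abelian.Projective.Extend

/-!
Tor dimension of modules through dimension shifting.
-/

set_option autoImplicit false
set_option linter.style.haveILetI false
universe u

open CategoryTheory CategoryTheory.Limits CategoryTheory.MonoidalCategory
open CategoryTheory.Pretriangulated Groth.Agent.PCohLib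

attribute [local instance] HasDerivedCategory.standard

namespace Groth.Agent.DRingPC

variable {A : Type u} [CommRing A]

/-- `M ⊗ P` for a resolution `P`. -/
noncomputable def tensorRes (M : ModuleCat.{u} A) {N : ModuleCat.{u} A} (P : ProjectiveResolution N) :
    ChainComplex (ModuleCat.{u} A) ℕ :=
  (((tensoringLeft (ModuleCat.{u} A)).obj M).mapHomologicalComplex _).obj P.complex

noncomputable def torIso (M : ModuleCat.{u} A) {N : ModuleCat.{u} A} (P : ProjectiveResolution N) (p : ℕ) :
    ((CategoryTheory.Tor (ModuleCat.{u} A) p).obj M).obj N ≅ (tensorRes M P).homology p :=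
  P.isoLeftDerivedObj ((tensoringLeft (ModuleCat.{u} A)).obj M) p

lemma torIsZero_iff (M : ModuleCat.{u} A) {N : ModuleCat.{u} A} (P : ProjectiveResolution N) (p : ℕ) :
    Subsingleton ↑(((CategoryTheory.Tor (ModuleCat.{u} A) p).obj M).obj N) ↔
      IsZero ((tensorRes M P).homology p) := by
  rw [subsingleton_iff_isZero]
  exact ⟨fun h => h.of_iso (torIso M P p).symm, fun h => h.of_iso (torIso M P p)⟩

lemma isZero_tensorRes_of_flat (M : ModuleCat.{u} A) [Module.Flat A M] {N : ModuleCat.{u} A}
    (P : ProjectiveResolution N) (p : ℕ) : IsZero ((tensorRes M P).homology (p + 1)) := by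
  rw [← HomologicalComplex.exactAt_iff_isZero_homology,
    HomologicalComplex.exactAt_iff' _ (p + 2) (p + 1) p (by simp) (by simp),
    ShortComplex.ShortExact.moduleCat_exact_iff_function_exact]
  exact Module.Flat.lTensor_exact M
    ((ShortComplex.ShortExact.moduleCat_exact_iff_function_exact _).1 (P.exact_succ p))

noncomputable def tensorResSC {S : ShortComplex (ModuleCat.{u} A)} {N : ModuleCat.{u} A}
    (P : ProjectiveResolution N) : ShortComplex (ChainComplex (ModuleCat.{u} A) ℕ) :=
  ShortComplex.mk ((NatTrans.mapHomologicalComplex ((tensoringLeft _).map S.f) _).app P.complex)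
    ((NatTrans.mapHomologicalComplex ((tensoringLeft _).map S.g) _).app P.complex) (by
      ext i : 1
      show S.f ▷ _ ≫ S.g ▷ _ = 0
      rw [← comp_whiskerRight, S.zero, MonoidalPreadditive.zero_whiskerRight])

lemma tensorResSC_shortExact {S : ShortComplex (ModuleCat.{u} A)} (hS : S.ShortExact)
    {N : ModuleCat.{u} A} (P : ProjectiveResolution N) : (tensorResSC (S := S) P).ShortExact := by
  refine HomologicalComplex.shortExact_of_degreewise_shortExact _ fun i => ?_
  haveI : Module.Projective A (P.complex.X i) :=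
    (IsProjective.iff_projective _).2 (P.projective i)
  have hex := rTensor_exact (P.complex.X i)
    ((ShortComplex.ShortExact.moduleCat_exact_iff_function_exact S).1 hS.exact)
    ((ModuleCat.epi_iff_surjective _).1 hS.epi_g)
  exact
    { exact := (ShortComplex.ShortExact.moduleCat_exact_iff_function_exact _).2 hex
      mono_f := (ModuleCat.mono_iff_injective _).2
        (Module.Flat.rTensor_preserves_injective_linearMap (M := P.complex.X i) S.f.hom
          ((ModuleCat.mono_iff_injective _).1 hS.mono_f))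
      epi_g := (ModuleCat.epi_iff_surjective _).2
        (LinearMap.rTensor_surjective _ ((ModuleCat.epi_iff_surjective _).1 hS.epi_g)) }

/-- `Tor` dimension `≤ n`, for objects. -/
def TD (n : ℕ) (M : ModuleCat.{u} A) : Prop :=
  ∀ (N : ModuleCat.{u} A) (p : ℕ), n < p →
    Subsingleton ↑(((CategoryTheory.Tor (ModuleCat.{u} A) p).obj M).obj N)

lemma td_iff (n : ℕ) (M : Type u) [AddCommGroup M] [Module A M] :
    DRing.HasTorDimLE A n M ↔ TD n (ModuleCat.of A M) :=
  ⟨fun h N p hp => h N p hp, fun h N _ _ p hp => h (ModuleCat.of A N) p hp⟩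

lemma td_shift {S : ShortComplex (ModuleCat.{u} A)} (hS : S.ShortExact) (hF : Module.Flat A S.X₂)
    (n : ℕ) : TD (n + 1) S.X₃ ↔ TD n S.X₁ := by
  constructor
  · intro h N p hp
    obtain ⟨q, rfl⟩ : ∃ q, p = q + 1 := ⟨p - 1, by lia⟩
    let P := projectiveResolution N
    have hT := tensorResSC_shortExact hS P
    rw [torIsZero_iff _ P]
    refine (hT.homology_exact₁ (q + 2) (q + 1) (by simp)).isZero_of_both_zeros ?_ ?_
    · exact ((torIsZero_iff _ P _).1 (h N (q + 2) (by lia))).eq_of_src _ _
    · exact (isZero_tensorRes_of_flat S.X₂ P q).eq_of_tgt _ _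
  · intro h N p hp
    obtain ⟨q, rfl⟩ : ∃ q, p = q + 2 := ⟨p - 2, by lia⟩
    let P := projectiveResolution N
    have hT := tensorResSC_shortExact hS P
    rw [torIsZero_iff _ P]
    refine (hT.homology_exact₃ (q + 2) (q + 1) (by simp)).isZero_of_both_zeros ?_ ?_
    · exact (isZero_tensorRes_of_flat S.X₂ P (q + 1)).eq_of_src _ _
    · exact ((torIsZero_iff _ P _).1 (h N (q + 1) (by lia))).eq_of_tgt _ _

lemma td_of_flat {M : ModuleCat.{u} A} [Module.Flat A M] (n : ℕ) : TD n M := fun N p hp => by
  obtain ⟨q, rfl⟩ : ∃ q, p = q + 1 := ⟨p - 1, by lia⟩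
  exact (torIsZero_iff M (projectiveResolution N) _).2 (isZero_tensorRes_of_flat M _ q)

lemma td_mono {M : ModuleCat.{u} A} {n n' : ℕ} (h : n ≤ n') (hM : TD n M) : TD n' M :=
  fun N p hp => hM N p (by lia)

lemma td_of_iso {M M' : ModuleCat.{u} A} {n : ℕ} (e : M ≅ M') (hM : TD n M) : TD n M' :=
  fun N p hp => by
    haveI := hM N p hp
    exact (((CategoryTheory.Tor (ModuleCat.{u} A) p).mapIso e).app N).toLinearEquiv.toEquiv.symm.subsingleton

lemma flat_of_td_zero {M : ModuleCat.{u} A} (h : TD 0 M) : Module.Flat A M := by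
  rw [Module.Flat.iff_lTensor_injective']
  intro I
  let N := ModuleCat.of A (A ⧸ I)
  let P := projectiveResolution N
  let π : P.complex.X 0 →ₗ[A] (A ⧸ I) := (P.π.f 0).hom
  haveI : Module.Projective A (P.complex.X 0) := (IsProjective.iff_projective _).2 (P.projective 0)
  have hπ : Function.Surjective π := (ModuleCat.epi_iff_surjective _).1 inferInstance
  have hK : Function.Injective ((LinearMap.ker π).subtype.lTensor M) := by
    let c : P.complex.X 1 →ₗ[A] LinearMap.ker π :=
      (P.complex.d 1 0).hom.codRestrict _ fun x =>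
        ConcreteCategory.congr_hom P.complex_d_comp_π_f_zero x
    have hc : Function.Surjective c := fun ⟨y, hy⟩ => by
      obtain ⟨x, hx⟩ := ((ShortComplex.ShortExact.moduleCat_exact_iff_function_exact _).1
        P.exact₀ y).1 hy
      exact ⟨x, Subtype.ext hx⟩
    rw [injective_iff_map_eq_zero]
    intro x hx
    obtain ⟨y, rfl⟩ := LinearMap.lTensor_surjective M hc x
    have h1 := (torIsZero_iff M P 1).1 (h N 1 one_pos)
    rw [← HomologicalComplex.exactAt_iff_isZero_homology,
      HomologicalComplex.exactAt_iff' _ 2 1 0 (by simp) (by simp),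
      ShortComplex.ShortExact.moduleCat_exact_iff_function_exact] at h1
    rw [← LinearMap.lTensor_comp_apply] at hx
    obtain ⟨z, hz⟩ := (h1 y).1 hx
    rw [← hz]
    change c.lTensor M ((P.complex.d 2 1).hom.lTensor M z) = 0
    have : c ∘ₗ (P.complex.d 2 1).hom = 0 := LinearMap.ext fun w => Subtype.ext
      (ConcreteCategory.congr_hom (P.complex.d_comp_d 2 1 0) w)
    have h2 := LinearMap.lTensor_comp M c (P.complex.d 2 1).hom
    rw [this, LinearMap.lTensor_zero] at h2
    exact (LinearMap.congr_fun h2.symm z)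
  obtain ⟨ψ, hψ⟩ := Module.projective_lifting_property I.mkQ π (Submodule.mkQ_surjective I)
  obtain ⟨φ, hφ⟩ := Module.projective_lifting_property π I.mkQ hπ
  let φ' : I →ₗ[A] LinearMap.ker π := (φ ∘ₗ I.subtype).codRestrict _ fun x => by
    rw [LinearMap.mem_ker, LinearMap.comp_apply, ← LinearMap.comp_apply π, hφ]
    exact (Submodule.Quotient.mk_eq_zero I).2 x.2
  let ψ' : LinearMap.ker π →ₗ[A] I := (ψ ∘ₗ (LinearMap.ker π).subtype).codRestrict _ fun x => by
    rw [← Submodule.Quotient.mk_eq_zero I, LinearMap.comp_apply, ← Submodule.mkQ_apply,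
      ← LinearMap.comp_apply I.mkQ, hψ]
    exact x.2
  let g : A →ₗ[A] I := (ψ ∘ₗ φ - LinearMap.id).codRestrict _ fun a => by
    rw [← Submodule.Quotient.mk_eq_zero I, ← Submodule.mkQ_apply, LinearMap.sub_apply, map_sub,
      LinearMap.comp_apply, ← LinearMap.comp_apply I.mkQ, hψ, ← LinearMap.comp_apply π, hφ]
    exact sub_self _
  have hg : ψ' ∘ₗ φ' = g ∘ₗ I.subtype + LinearMap.id := LinearMap.ext fun x => Subtype.ext (by
    simp [ψ', φ', g])
  rw [injective_iff_map_eq_zero]
  intro x hx
  have h1 : φ'.lTensor M x = 0 := hK (by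
    rw [← LinearMap.lTensor_comp_apply, map_zero]
    change (φ ∘ₗ I.subtype).lTensor M x = 0
    rw [LinearMap.lTensor_comp_apply, hx, map_zero])
  have h2 : (ψ' ∘ₗ φ').lTensor M x = 0 := by rw [LinearMap.lTensor_comp_apply, h1, map_zero]
  rwa [hg, LinearMap.lTensor_add, LinearMap.add_apply, LinearMap.lTensor_comp_apply, hx, map_zero,
    zero_add, LinearMap.lTensor_id_apply] at h2

lemma td_zero_iff_flat (M : ModuleCat.{u} A) : TD 0 M ↔ Module.Flat A M :=
  ⟨flat_of_td_zero, fun _ => td_of_flat 0⟩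

end Groth.Agent.DRingPC

namespace Groth.Agent.DRingPC

variable {A : Type u} [CommRing A]

/-- `E^i / d(E^(i-1))`. -/
noncomputable abbrev opcMod (E : DRing.Cx A) (i : ℤ) : ModuleCat.{u} A :=
  ModuleCat.of A (E.X i ⧸ LinearMap.range (E.d (i - 1) i).hom)

noncomputable def opcModIso (E : DRing.Cx A) (i : ℤ) : opcMod E i ≅ E.opcycles i :=
  (ModuleCat.cokernelIsoRangeQuotient (E.d (i - 1) i)).symm ≪≫
    (colimit.isColimit _).coconePointUniqueUpToIso (E.opcyclesIsCokernel (i - 1) i (by simp))

/-- `C_(j) → E^i → C_(i)`. -/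
noncomputable def opcSC (E : DRing.Cx A) (j i : ℤ) (h : j + 1 = i) : ShortComplex (ModuleCat.{u} A) :=
  ShortComplex.mk
    (ModuleCat.ofHom ((LinearMap.range (E.d (j - 1) j).hom).liftQ (E.d j i).hom (by
      rintro _ ⟨x, rfl⟩
      exact ConcreteCategory.congr_hom (E.d_comp_d (j - 1) j i) x)) :
        opcMod E j ⟶ E.X i)
    (ModuleCat.ofHom (LinearMap.range (E.d (i - 1) i).hom).mkQ : E.X i ⟶ opcMod E i) (by
      obtain rfl : i - 1 = j := by lia
      refine ModuleCat.hom_ext (Submodule.linearMap_qext _ (LinearMap.ext fun x => ?_))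
      exact (Submodule.Quotient.mk_eq_zero _).2 ⟨x, rfl⟩)

lemma opcSC_shortExact (E : DRing.Cx A) (j i : ℤ) (h : j + 1 = i) (hex : E.ExactAt j) :
    (opcSC E j i h).ShortExact := by
  obtain rfl : i - 1 = j := by lia
  have hex' := ((ShortComplex.ShortExact.moduleCat_exact_iff_function_exact _).1
    ((E.exactAt_iff' (i - 1 - 1) (i - 1) i (by simp) (by simp)).1 hex))
  exact
    { exact := (ShortComplex.moduleCat_exact_iff_range_eq_ker _).2
        ((Submodule.range_liftQ _ _ _).trans (Submodule.ker_mkQ _).symm)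
      mono_f := (ModuleCat.mono_iff_injective _).2 ((injective_iff_map_eq_zero _).2 fun q hq => by
        induction q using Submodule.Quotient.induction_on with
        | _ x => exact (Submodule.Quotient.mk_eq_zero _).2 ((hex' x).1 hq))
      epi_g := (ModuleCat.epi_iff_surjective _).2 (Submodule.mkQ_surjective _) }

lemma td_opcMod (E : DRing.Cx A) (hfl : ∀ i, Module.Flat A (E.X i)) (hex : ∀ i, i < 0 → E.ExactAt i)
    (d : ℕ) : ∀ k l : ℕ, k + l = d →
      (TD d (opcMod E 0) ↔ TD l (opcMod E (-(k : ℤ)))) := by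
  intro k
  induction k with
  | zero =>
    intro l h
    obtain rfl : l = d := by lia
    simp
  | succ k ih =>
    intro l h
    rw [ih (l + 1) (by lia)]
    exact td_shift (opcSC_shortExact E (-((k + 1 : ℕ) : ℤ)) (-(k : ℤ)) (by lia)
      (hex _ (by lia))) (hfl _) l

noncomputable def opcZeroIso (E : DRing.Cx A) (h : IsZero (E.X 1)) :
    opcMod E 0 ≅ (DerivedCategory.homologyFunctor _ 0).obj (DerivedCategory.Q.obj E) :=
  opcModIso E 0 ≪≫ (E.isoHomologyι 0 1 (by simp) (h.eq_of_tgt _ _)).symm ≪≫ (homologyQIso E 0).symm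

lemma exactAt_of_single {E : DRing.Cx A} {M : ModuleCat.{u} A}
    (e : DerivedCategory.Q.obj E ≅ (DerivedCategory.singleFunctor _ 0).obj M) (i : ℤ) (hi : i < 0) :
    E.ExactAt i := by
  rw [HomologicalComplex.exactAt_iff_isZero_homology]
  exact (DerivedCategory.isZero_of_isGE _ 0 i hi).of_iso
    ((homologyQIso E i).symm ≪≫ (DerivedCategory.homologyFunctor _ i).mapIso e)

lemma td_iff_amplitude (d : ℕ) (M : ModuleCat.{u} A) :
    TD d M ↔ DRing.HasTorAmplitudeIn A (-(d : ℤ)) 0 ((DerivedCategory.singleFunctor _ 0).obj M) := by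
  constructor
  · intro hM
    let R := projectiveResolution M
    let E := R.cochainComplex
    have hfl : ∀ i, Module.Flat A (E.X i) := fun i => by
      by_cases hi : i ≤ 0
      · haveI : Module.Projective A (R.complex.X (-i).toNat) :=
          (IsProjective.iff_projective _).2 (R.projective _)
        exact Module.Flat.of_linearEquiv (R.cochainComplexXIso i (-i).toNat (by lia)).toLinearEquiv
      · exact (FL A).prop_of_isZero (E.isZero_of_isStrictlyLE 0 i (by lia))
    let e : DerivedCategory.Q.obj E ≅ (DerivedCategory.singleFunctor _ 0).obj M :=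
      asIso (DerivedCategory.Q.map R.π') ≪≫ singleQIso 0 M
    have hex := exactAt_of_single e
    have h0 : TD d (opcMod E 0) := td_of_iso (opcZeroIso E (E.isZero_of_isStrictlyLE 0 1 (by lia)) ≪≫
      (DerivedCategory.homologyFunctor _ 0).mapIso e ≪≫ singleHomologyIso 0 M).symm hM
    have hd : Module.Flat A (opcMod E (-(d : ℤ))) :=
      flat_of_td_zero ((td_opcMod E hfl hex d d 0 rfl).1 h0)
    haveI : E.IsGE (-(d : ℤ)) := (CochainComplex.isGE_iff _ _).2 fun i hi => hex i (by lia)
    refine ⟨E.truncGE (-(d : ℤ)), fun i hi => ?_, fun i => ?_,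
      ⟨(asIso (DerivedCategory.Q.map (E.πTruncGE (-(d : ℤ))))).symm ≪≫ e⟩⟩
    · rcases hi with h | h
      · exact (E.truncGE (-(d : ℤ))).isZero_of_isStrictlyGE (-(d : ℤ)) i h
      · exact (E.isZero_of_isStrictlyLE 0 i h).of_iso (E.truncGEXIso _ i (by lia))
    · rcases lt_trichotomy i (-(d : ℤ)) with h | rfl | h
      · exact (FL A).prop_of_isZero ((E.truncGE (-(d : ℤ))).isZero_of_isStrictlyGE (-(d : ℤ)) i h)
      · exact (FL A).prop_of_iso ((opcModIso E _) ≪≫ (E.truncGEXIsoOpcycles _).symm) hd
      · exact (FL A).prop_of_iso (E.truncGEXIso _ i h).symm (hfl i)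
  · rintro ⟨E, hz, hfl, ⟨e⟩⟩
    have hex := exactAt_of_single e
    refine td_of_iso (opcZeroIso E (hz 1 (Or.inr one_pos)) ≪≫
      (DerivedCategory.homologyFunctor _ 0).mapIso e ≪≫ singleHomologyIso 0 M)
      ((td_opcMod E hfl hex d d 0 rfl).2 ?_)
    haveI : Module.Flat A (E.X (-(d : ℤ))) := hfl _
    have hb : LinearMap.range (E.d (-(d : ℤ) - 1) (-(d : ℤ))).hom = ⊥ := by
      rw [LinearMap.range_eq_bot, (hz (-(d : ℤ) - 1) (Or.inl (by lia))).eq_of_src (E.d _ _) 0]
      rfl
    haveI : Module.Flat A (opcMod E (-(d : ℤ))) :=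
      Module.Flat.of_linearEquiv (Submodule.quotEquivOfEqBot _ hb)
    exact td_of_flat 0

/-- S6946. -/
lemma hasTorDimLE_iff_amplitude (d : ℕ) (M : Type u) [AddCommGroup M] [Module A M] :
    DRing.HasTorDimLE A d M ↔ DRing.HasTorAmplitudeIn A (-(d : ℤ)) 0 (Dual.inD A M) :=
  (td_iff d M).trans (td_iff_amplitude d _)

end Groth.Agent.DRingPC
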