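import Groth.Agent.DRingPC.Rel
import Mathlib.RingTheory.AdjoinRoot
import Mathlib.Algebra.Polynomial.Lifts
import Mathlib.RingTheory.IntegralClosure.IsIntegralClosure.Basic

/-!
Relative pseudo-coherence and finite ring maps.
-/

set_option autoImplicit false
set_option linter.style.haveILetI false
universe u

open CategoryTheory CategoryTheory.Limits Groth.Agent.PCohLib

attribute [local instance] HasDerivedCategory.standard

namespace Groth.Agent.DRingPC

lemma PCHom.of_finite_free {A B : Type u} [CommRing A] [CommRing B] [Algebra A B] [Module.Finite A B]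
    [Module.Free A B] : PCHom (algebraMap A B) := by
  intro m
  let l : B →ₗ[A] (ModuleCat.restrictScalars (algebraMap A B)).obj (ModuleCat.of B B) :=
    { toFun := fun x => x, map_add' := fun _ _ => rfl, map_smul' := fun a x => Algebra.smul_def a x }
  exact NPC_single_congr (LinearEquiv.ofBijective l Function.bijective_id).toModuleIso
    (NPC_single_of_mem (show FF A (ModuleCat.of A B) from ⟨inferInstance, inferInstance⟩) m)

/-- If the variables map to roots of monic polynomials over the coefficients, pseudo-coherence over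
the polynomial ring is pseudo-coherence over the coefficients. -/
lemma NPC_iff_of_monic {S B : Type u} [CommRing S] [CommRing B] {s : ℕ}
    (f : MvPolynomial (Fin s) S →+* B)
    (hf : ∀ i, ∃ p : Polynomial S, p.Monic ∧
      p.eval₂ (f.comp MvPolynomial.C) (f (MvPolynomial.X i)) = 0) (m : ℤ) (K : Dual.D B) :
    NPC (FF (MvPolynomial (Fin s) S)) m ((DRing.restrictD f).obj K) ↔
      NPC (FF S) m ((DRing.restrictD (f.comp MvPolynomial.C)).obj K) := by
  induction s with
  | zero =>
    have hb : Function.Bijective (MvPolynomial.C (σ := Fin 0) (R := S)) := by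
      have h := (MvPolynomial.isEmptyAlgEquiv S (Fin 0)).symm.bijective
      convert h using 1
      funext r
      exact ((MvPolynomial.isEmptyAlgEquiv S (Fin 0)).symm.commutes r).symm
    exact ((PCHom.of_bijective _ hb).comp_iff f m K).symm
  | succ s ih =>
    let σ := (MvPolynomial.finSuccEquiv S s).toRingEquiv
    obtain ⟨p, hp, hp'⟩ := hf 0
    let P' := MvPolynomial (Fin s) S
    let p' : Polynomial P' := p.map MvPolynomial.C
    have hpm : p'.Monic := hp.map _
    let f' : P' →+* B := (f.comp σ.symm.toRingHom).comp Polynomial.C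
    have hf'C : f'.comp MvPolynomial.C = f.comp MvPolynomial.C := RingHom.ext fun r =>
      congrArg f ((MvPolynomial.finSuccEquiv S s).symm.commutes r)
    have hXs : σ.symm Polynomial.X = MvPolynomial.X 0 := by
      rw [RingEquiv.symm_apply_eq]; exact MvPolynomial.finSuccEquiv_X_zero.symm
    let g : AdjoinRoot p' →+* B := AdjoinRoot.lift f' (f (MvPolynomial.X 0)) (by
      rw [Polynomial.eval₂_map, hf'C, hp'])
    have hmk : f = (g.comp (AdjoinRoot.mk p')).comp σ.toRingHom := by
      have : f.comp σ.symm.toRingHom = g.comp (AdjoinRoot.mk p') := by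
        refine Polynomial.ringHom_ext (fun r => ?_) ?_
        · simp [g, f']
        · simp [g, hXs]
      rw [← this]
      exact RingHom.ext fun x => congrArg f (σ.symm_apply_apply x).symm
    have hq : PCHom (AdjoinRoot.mk p') :=
      PCHom.of_surjective_nonZeroDivisor _ AdjoinRoot.mk_surjective p'
        (Ideal.ext fun a => by
          rw [RingHom.mem_ker, AdjoinRoot.mk_eq_zero, Ideal.mem_span_singleton])
        (fun _ h => hpm.mul_right_eq_zero_iff.1 h)
    haveI := hpm.finite_adjoinRoot
    haveI := hpm.free_adjoinRoot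
    have ho : PCHom (algebraMap P' (AdjoinRoot p')) := PCHom.of_finite_free
    have hgo : g.comp (algebraMap P' (AdjoinRoot p')) = f' := RingHom.ext fun r => by
      rw [RingHom.comp_apply, AdjoinRoot.algebraMap_eq]
      simp [g]
    conv_lhs => rw [hmk]
    rw [(PCHom.of_bijective σ.toRingHom σ.bijective).comp_iff, hq.comp_iff, ← ho.comp_iff, hgo,
      ← hf'C]
    refine ih f' (fun i => ?_)
    obtain ⟨q, hq1, hq2⟩ := hf i.succ
    refine ⟨q, hq1, ?_⟩
    rw [hf'C]
    convert hq2 using 2
    show f (σ.symm (Polynomial.C (MvPolynomial.X i))) = _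
    congr 1
    rw [RingEquiv.symm_apply_eq]
    exact MvPolynomial.finSuccEquiv_X_succ.symm

/-- S6984. -/
lemma relPC_iff_finite_restrict {R A B : Type u} [CommRing R] [CommRing A] [CommRing B]
    [Algebra R A] [Algebra A B] [Algebra R B] [IsScalarTower R A B] [Algebra.FiniteType R A]
    [Module.Finite A B] (K : Dual.D B) (m : ℤ) :
    DerCA.IsRelPseudoCoherent R B m K ↔
      DerCA.IsRelPseudoCoherent R A m ((DRing.restrictD (algebraMap A B)).obj K) := by
  obtain ⟨n, α, hα⟩ := exists_presentation_ft R A
  obtain ⟨s, b, hb⟩ := Module.Finite.exists_fin (R := A) (M := B)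
  let S := MvPolynomial (Fin n) R
  let u : S →+* B := (algebraMap A B).comp α.toRingHom
  let f : MvPolynomial (Fin s) S →+* B := MvPolynomial.eval₂Hom u b
  have hfC : f.comp MvPolynomial.C = u := RingHom.ext fun r => MvPolynomial.eval₂Hom_C u b r
  have hf : ∀ i, ∃ p : Polynomial S, p.Monic ∧
      p.eval₂ (f.comp MvPolynomial.C) (f (MvPolynomial.X i)) = 0 := fun i => by
    obtain ⟨q, hq, hq'⟩ := Algebra.IsIntegral.isIntegral (R := A) (b i)
    obtain ⟨p, hp, _, hpm⟩ := Polynomial.lifts_and_natDegree_eq_and_monic (f := α.toRingHom)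
      (Polynomial.mem_lifts_of_surjective hα q) hq
    refine ⟨p, hpm, ?_⟩
    rw [hfC, show f (MvPolynomial.X i) = b i from MvPolynomial.eval₂Hom_X' u b i]
    rw [← hp, Polynomial.eval₂_map] at hq'
    exact hq'
  let σ := (MvPolynomial.renameEquiv R (finSumFinEquiv (m := s) (n := n))).symm.toRingEquiv.trans
    (MvPolynomial.sumRingEquiv R (Fin s) (Fin n))
  let β : MvPolynomial (Fin (s + n)) R →ₐ[R] B :=
    { f.comp σ.toRingHom with
      commutes' := fun r => by
        show f (σ (MvPolynomial.C r)) = _
        have : σ (MvPolynomial.C r) = MvPolynomial.C (MvPolynomial.C r) := by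
          simp [σ]
        rw [this, MvPolynomial.eval₂Hom_C]
        show algebraMap A B (α (algebraMap R S r)) = _
        rw [AlgHom.commutes, ← IsScalarTower.algebraMap_apply] }
  have hfs : Function.Surjective f := by
    intro y
    have hy : y ∈ Submodule.span A (Set.range b) := hb ▸ Submodule.mem_top
    induction hy using Submodule.span_induction with
    | mem x hx => obtain ⟨i, rfl⟩ := hx; exact ⟨MvPolynomial.X i, MvPolynomial.eval₂Hom_X' u b i⟩
    | zero => exact ⟨0, map_zero f⟩
    | add x z _ _ hx hz =>
      obtain ⟨x', rfl⟩ := hx; obtain ⟨z', rfl⟩ := hz; exact ⟨x' + z', map_add f _ _⟩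
    | smul a x _ hx =>
      obtain ⟨x', rfl⟩ := hx
      obtain ⟨a', rfl⟩ := hα a
      exact ⟨MvPolynomial.C a' * x', by
        rw [map_mul, MvPolynomial.eval₂Hom_C, Algebra.smul_def]; rfl⟩
  rw [relPC_iff β (hfs.comp σ.surjective), relPC_iff α hα]
  show NPC _ m ((DRing.restrictD (f.comp σ.toRingHom)).obj K) ↔ _
  rw [(PCHom.of_bijective σ.toRingHom σ.bijective).comp_iff, NPC_iff_of_monic f hf, hfC]
  exact ⟨fun h => h.of_iso (restrictQComp (algebraMap A B) α.toRingHom K),
    fun h => h.of_iso (restrictQComp (algebraMap A B) α.toRingHom K).symm⟩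

end Groth.Agent.DRingPC
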