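import Groth.Agent.DRingPC.Homology
import Groth.Agent.PCohLib.Functorial
import Groth.Prelude.Def_DDual2

/-!
Pseudo-coherence and restriction of scalars.
-/

set_option autoImplicit false
set_option linter.style.haveILetI false
universe u

open CategoryTheory CategoryTheory.Limits CategoryTheory.Pretriangulated Groth.Agent.PCohLib

attribute [local instance] HasDerivedCategory.standard

namespace Groth.Agent.DRingPC

variable {A B C : Type u} [CommRing A] [CommRing B] [CommRing C]

/-- `B` is a pseudo-coherent `A`-module through `f`. -/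
def PCHom (f : A →+* B) : Prop :=
  PCoh.IsPC (FF A) ((DerivedCategory.singleFunctor _ 0).obj
    ((ModuleCat.restrictScalars f).obj (ModuleCat.of B B)))

noncomputable def restrictSingle (f : A →+* B) (n : ℤ) (M : ModuleCat.{u} B) :
    (DRing.restrictD f).obj ((DerivedCategory.singleFunctor _ n).obj M) ≅
      (DerivedCategory.singleFunctor _ n).obj ((ModuleCat.restrictScalars f).obj M) :=
  ((ModuleCat.restrictScalars f).mapDerivedCategorySingleFunctor n).app M

noncomputable def restrictQ (f : A →+* B) (X : DRing.Cx B) :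
    (DRing.restrictD f).obj (DerivedCategory.Q.obj X) ≅
      DerivedCategory.Q.obj ((DRing.restrictCx f).obj X) :=
  (ModuleCat.restrictScalars f).mapDerivedCategoryFactors.app X

noncomputable def restrictQComp (g : B →+* C) (f : A →+* B) (K : Dual.D C) :
    (DRing.restrictD (g.comp f)).obj K ≅ (DRing.restrictD f).obj ((DRing.restrictD g).obj K) :=
  (DRing.restrictD (g.comp f)).mapIso (DerivedCategory.Q.objObjPreimageIso K).symm ≪≫
    restrictQ (g.comp f) _ ≪≫
    DerivedCategory.Q.mapIso (show (DRing.restrictCx (g.comp f)).obj (DerivedCategory.Q.objPreimage K) ≅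
        (DRing.restrictCx f).obj ((DRing.restrictCx g).obj (DerivedCategory.Q.objPreimage K)) from
      HomologicalComplex.Hom.isoOfComponents
      (fun i => ModuleCat.restrictScalarsComp'App f g (g.comp f) rfl
        ((DerivedCategory.Q.objPreimage K).X i))
      (fun i j _ => by ext x; rfl)) ≪≫
    (restrictQ f _).symm ≪≫
    (DRing.restrictD f).mapIso ((restrictQ g _).symm ≪≫
      (DRing.restrictD g).mapIso (DerivedCategory.Q.objObjPreimageIso K))

noncomputable def restrictHD (f : A →+* B) (K : Dual.D B) (i : ℤ) :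
    (DerivedCategory.homologyFunctor (ModuleCat.{u} A) i).obj ((DRing.restrictD f).obj K) ≅
      (ModuleCat.restrictScalars f).obj
        ((DerivedCategory.homologyFunctor (ModuleCat.{u} B) i).obj K) :=
  (DerivedCategory.homologyFunctor _ i).mapIso
      ((DRing.restrictD f).mapIso (DerivedCategory.Q.objObjPreimageIso K).symm ≪≫
        restrictQ f _) ≪≫
    homologyQIso _ i ≪≫
    ShortComplex.mapHomologyIso ((DerivedCategory.Q.objPreimage K).sc i)
      (ModuleCat.restrictScalars f) ≪≫
    (ModuleCat.restrictScalars f).mapIso ((homologyQIso _ i).symm ≪≫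
      (DerivedCategory.homologyFunctor _ i).mapIso (DerivedCategory.Q.objObjPreimageIso K))

lemma isLE_restrict (f : A →+* B) (K : Dual.D B) (b : ℤ) [K.IsLE b] :
    ((DRing.restrictD f).obj K).IsLE b :=
  (DerivedCategory.isLE_iff _ _).2 fun i hi =>
    (Functor.map_isZero _ (K.isZero_of_isLE b i hi)).of_iso (restrictHD f K i)

lemma isLE_of_restrict (f : A →+* B) (K : Dual.D B) (b : ℤ) [((DRing.restrictD f).obj K).IsLE b] :
    K.IsLE b :=
  (DerivedCategory.isLE_iff _ _).2 fun i hi => by
    have h := (((DRing.restrictD f).obj K).isZero_of_isLE b i hi).of_iso (restrictHD f K i).symm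
    haveI := ModuleCat.subsingleton_of_isZero h
    exact @ModuleCat.isZero_of_subsingleton _ _ _ ‹_›

lemma finite_of_finite_restrict (f : A →+* B) (M : ModuleCat.{u} B)
    (h : Module.Finite A ((ModuleCat.restrictScalars f).obj M)) : Module.Finite B M := by
  letI : Module A M := Module.compHom M f
  haveI : Module.Finite A M := h
  letI : Algebra A B := f.toAlgebra
  haveI : IsScalarTower A B M := IsScalarTower.of_algebraMap_smul fun _ _ => rfl
  exact Module.Finite.of_restrictScalars_finite A B M

lemma NPC_single_congr {M : ModuleCat.{u} A} {N : ModuleCat.{u} A} (e : M ≅ N) {m : ℤ}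
    (h : NPC (FF A) m ((DerivedCategory.singleFunctor _ 0).obj M)) :
    NPC (FF A) m ((DerivedCategory.singleFunctor _ 0).obj N) :=
  h.of_iso ((DerivedCategory.singleFunctor _ 0).mapIso e)

lemma PCHom.restrict_free {f : A →+* B} (hf : PCHom f) (M : ModuleCat.{u} B) (hM : FF B M) (m : ℤ) :
    NPC (FF A) m ((DerivedCategory.singleFunctor _ 0).obj ((ModuleCat.restrictScalars f).obj M)) := by
  have key : ∀ n : ℕ, NPC (FF A) m ((DerivedCategory.singleFunctor _ 0).obj
      ((ModuleCat.restrictScalars f).obj (ModuleCat.of B (Fin n → B)))) := by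
    intro n
    induction n with
    | zero =>
      exact finite_zero _ _ (Functor.map_isZero _ (ModuleCat.isZero_of_subsingleton _))
    | succ n ih =>
      let S := ShortComplex.mk (biprod.inl : ModuleCat.of B B ⟶ _ ⊞ ModuleCat.of B (Fin n → B))
        biprod.snd biprod.inl_snd
      have hS : S.ShortExact :=
        (ShortComplex.Splitting.ofHasBinaryBiproduct (ModuleCat.of B B)
          (ModuleCat.of B (Fin n → B))).shortExact
      refine NPC_single_congr ((ModuleCat.restrictScalars f).mapIso
        (ModuleCat.biprodIsoProd (ModuleCat.of B B) (ModuleCat.of B (Fin n → B)) ≪≫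
          (Fin.consLinearEquiv B (fun _ => B)).toModuleIso)) ?_
      exact NPC.of_triangle₂ (FF.sum A) (FF.qs A) (FF.ql A)
        ((hS.map_of_exact (ModuleCat.restrictScalars f)).singleTriangle_distinguished) (hf m) ih
  haveI := hM.1; haveI := hM.2
  obtain ⟨n, e⟩ : ∃ n : ℕ, Nonempty ((Fin n → B) ≃ₗ[B] M) := by
    let b := Module.Free.chooseBasis B M
    exact ⟨_, ⟨(b.reindex (Fintype.equivFin _)).equivFun.symm⟩⟩
  exact NPC_single_congr ((ModuleCat.restrictScalars f).mapIso e.some.toModuleIso) (key n)

lemma PCHom.NPC_restrict {f : A →+* B} (hf : PCHom f) {m : ℤ} {K : Dual.D B}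
    (hK : NPC (FF B) m K) : NPC (FF A) m ((DRing.restrictD f).obj K) := by
  obtain ⟨E, ⟨⟨b, hb⟩, hE⟩, ⟨e⟩⟩ := hK
  refine (NPC_map_strict (a := m - max b m) (b := (0 : ℤ)) (DRing.restrictD f) (FF.sum A) (FF.qs A)
    (FF.ql A) (fun M hM => (hf.restrict_free M hM _).of_iso (restrictSingle f 0 M).symm) ?_
    (m := m) (by lia) (max b m) (by lia) E hE (fun i hi => hb i (by lia))).of_iso
    ((DRing.restrictD f).mapIso e)
  intro F hF i hi
  exact (Functor.map_isZero _ (hF i hi)).of_iso (restrictHD f F i)

/-- A surjection from a finite free module onto the top cohomology lifts to the complex. -/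
lemma exists_top_lift (K : Dual.D B) (b : ℤ) [K.IsLE b] (M : ModuleCat.{u} B) (hM : FF B M)
    (p : M ⟶ (DerivedCategory.homologyFunctor _ b).obj K) (hp : Epi p) :
    ∃ α : (DerivedCategory.singleFunctor _ b).obj M ⟶ K,
      Epi ((DerivedCategory.homologyFunctor _ b).map α) := by
  obtain ⟨X, _, ⟨e⟩⟩ := K.exists_iso_Q_obj_of_isLE b
  haveI : CategoryTheory.Projective M :=
    projective_of_liftable (P := FPj B) (FPj.lift B) (FF.toFPj B hM)
  let q : M ⟶ X.homology b :=
    p ≫ (DerivedCategory.homologyFunctor _ b).map e.hom ≫ (homologyQIso X b).hom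
  haveI : Epi q := epi_comp _ _
  let γ : M ⟶ X.cycles b := Projective.factorThru q (X.homologyπ b)
  let g : (HomologicalComplex.single _ (ComplexShape.up ℤ) b).obj M ⟶ X :=
    HomologicalComplex.mkHomFromSingle (γ ≫ X.iCycles b) (fun k _ => by simp)
  have hg : Epi (HomologicalComplex.homologyMap g b) := by
    haveI : Epi ((HomologicalComplex.singleObjHomologySelfIso (ComplexShape.up ℤ) b M).inv ≫
        HomologicalComplex.homologyMap g b) := by
      have hc : (HomologicalComplex.singleObjCyclesSelfIso (ComplexShape.up ℤ) b M).inv ≫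
          HomologicalComplex.cyclesMap g b = γ := by
        rw [← cancel_mono (X.iCycles b)]
        simp [g, HomologicalComplex.mkHomFromSingle_f]
      rw [← HomologicalComplex.singleObjCyclesSelfIso_inv_homologyπ, Category.assoc,
        HomologicalComplex.homologyπ_naturality, ← Category.assoc, hc, Projective.factorThru_comp]
      infer_instance
    exact epi_of_epi (HomologicalComplex.singleObjHomologySelfIso (ComplexShape.up ℤ) b M).inv _
  refine ⟨(singleQIso b M).inv ≫ DerivedCategory.Q.map g ≫ e.inv, ?_⟩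
  haveI := (epi_homologyMap_Q_iff g b).2 hg
  rw [Functor.map_comp, Functor.map_comp]
  infer_instance

lemma PCHom.NPC_of_restrict {f : A →+* B} (hf : PCHom f) {m : ℤ} {K : Dual.D B}
    (h : NPC (FF A) m ((DRing.restrictD f).obj K)) : NPC (FF B) m K := by
  obtain ⟨b, hb⟩ := h.isLE
  haveI := isLE_of_restrict f K b
  obtain ⟨k, hk⟩ : ∃ k : ℕ, b < m + k := ⟨(b - m + 1).toNat, by lia⟩
  clear hb
  induction k generalizing K b with
  | zero => exact NPC_of_isLE K (b := b) (by lia)
  | succ k ih =>
    by_cases hbm : b < m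
    · exact NPC_of_isLE K hbm
    haveI := isLE_restrict f K b
    have hfin : Module.Finite A ((ModuleCat.restrictScalars f).obj
        ((DerivedCategory.homologyFunctor (ModuleCat.{u} B) b).obj K)) :=
      haveI := (ft_FF_iff A _).1 ((NPC_iff_ft_homology (FF.sum A) (FF.qs A) (FF.ql A) b _
        (fun i hi => DerivedCategory.isZero_of_isLE _ b i hi)).1 (h.mono (by lia)))
      Module.Finite.equiv (restrictHD f K b).toLinearEquiv
    obtain ⟨M, p, hM, hp⟩ := (ft_FF_iff B _).2 (finite_of_finite_restrict f _ hfin)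
    obtain ⟨α, hα⟩ := exists_top_lift K b M hM p hp
    obtain ⟨Z, g, δ, hT⟩ := distinguished_cocone_triangle α
    have hS : ∀ n, NPC (FF B) n ((DerivedCategory.singleFunctor _ b).obj M) := fun n =>
      (NPC_single_of_mem hM (n - b)).single_shift b n (by lia)
    haveI : Z.IsLE (b - 1) := (DerivedCategory.isLE_iff _ _).2 fun i hi => by
      refine (DerivedCategory.HomologySequence.exact₃ _ hT i (i + 1) rfl).isZero_of_both_zeros
        ?_ ?_
      · by_cases hib : i = b
        · subst hib
          exact (DerivedCategory.HomologySequence.epi_homologyMap_mor₁_iff _ hT i).1 hα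
        · exact (K.isZero_of_isLE b i (by lia)).eq_of_src _ _
      · exact (((DerivedCategory.singleFunctor _ b).obj M).isZero_of_isLE b (i + 1) (by lia)).eq_of_tgt _ _
    have hZ : NPC (FF B) m Z := by
      refine ih ?_ (b - 1) inferInstance (by lia)
      exact NPC.of_triangle₃ (FF.sum A) (FF.qs A) (FF.ql A)
        ((DRing.restrictD f).map_distinguished _ hT) (hf.NPC_restrict (hS (m + 1))) h
    exact NPC.of_triangle₂ (FF.sum B) (FF.qs B) (FF.ql B) hT (hS m) hZ

lemma PCHom.iff {f : A →+* B} (hf : PCHom f) (m : ℤ) (K : Dual.D B) :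
    NPC (FF A) m ((DRing.restrictD f).obj K) ↔ NPC (FF B) m K :=
  ⟨hf.NPC_of_restrict, hf.NPC_restrict⟩

lemma PCHom.comp_iff {f : A →+* B} (hf : PCHom f) (g : B →+* C) (m : ℤ) (K : Dual.D C) :
    NPC (FF A) m ((DRing.restrictD (g.comp f)).obj K) ↔
      NPC (FF B) m ((DRing.restrictD g).obj K) := by
  rw [← hf.iff]
  exact ⟨fun h => h.of_iso (restrictQComp g f K), fun h => h.of_iso (restrictQComp g f K).symm⟩

lemma PCHom.comp {f : A →+* B} {g : B →+* C} (hf : PCHom f) (hg : PCHom g) :
    PCHom (g.comp f) := fun m =>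
  (NPC.of_iso ((hf.comp_iff g m _).2 (NPC.of_iso (hg m) (restrictSingle g 0 _).symm))
    (restrictSingle (g.comp f) 0 _))

lemma PCHom.of_bijective (f : A →+* B) (hf : Function.Bijective f) : PCHom f := by
  intro m
  let l : A →ₗ[A] (ModuleCat.restrictScalars f).obj (ModuleCat.of B B) :=
    { toFun := f, map_add' := f.map_add, map_smul' := fun a x => f.map_mul a x }
  exact NPC_single_congr (LinearEquiv.ofBijective l hf).toModuleIso
    (NPC_single_of_mem (show FF A (ModuleCat.of A A) from ⟨Module.Finite.self A, Module.Free.self A⟩) m)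

lemma PCHom.of_surjective_nonZeroDivisor (f : A →+* B) (hf : Function.Surjective f) (c : A)
    (hc : RingHom.ker f = Ideal.span {c}) (hc₀ : ∀ a, c * a = 0 → a = 0) : PCHom f := by
  intro m
  let l : A →ₗ[A] (ModuleCat.restrictScalars f).obj (ModuleCat.of B B) :=
    { toFun := f, map_add' := f.map_add, map_smul' := fun a x => f.map_mul a x }
  let S : ShortComplex (ModuleCat.{u} A) :=
    ShortComplex.mk (ModuleCat.ofHom (LinearMap.mulLeft A c : A →ₗ[A] A)) (ModuleCat.ofHom l) (by
      ext
      change f (c * 1) = 0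
      rw [← RingHom.mem_ker, hc]
      exact Ideal.mem_span_singleton.2 (dvd_mul_right c 1))
  have hS : S.ShortExact :=
    { exact := (ShortComplex.moduleCat_exact_iff _).2 fun x hx => by
        have hx' : x ∈ RingHom.ker f := hx
        rw [hc, Ideal.mem_span_singleton'] at hx'
        obtain ⟨a, rfl⟩ := hx'
        exact ⟨a, mul_comm c a⟩
      mono_f := (ModuleCat.mono_iff_injective _).2 ((injective_iff_map_eq_zero _).2 hc₀)
      epi_g := (ModuleCat.epi_iff_surjective _).2 hf }
  have hA := fun n => NPC_single_of_mem (show FF A (ModuleCat.of A A) from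
    ⟨Module.Finite.self A, Module.Free.self A⟩) n
  exact NPC.of_triangle₃ (FF.sum A) (FF.qs A) (FF.ql A) hS.singleTriangle_distinguished
    (hA (m + 1)) (hA m)

lemma PCHom.of_algebra [Algebra A B] :
    PCHom (algebraMap A B) ↔ DRing.IsPseudoCoherentModule' A B := by
  rw [isPCModule'_iff]
  let l : B →ₗ[A] (ModuleCat.restrictScalars (algebraMap A B)).obj (ModuleCat.of B B) :=
    { toFun := fun x => x, map_add' := fun _ _ => rfl, map_smul' := fun a x => Algebra.smul_def a x }
  let e : (ModuleCat.restrictScalars (algebraMap A B)).obj (ModuleCat.of B B) ≅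
      ModuleCat.of A B :=
    (LinearEquiv.ofBijective l Function.bijective_id).toModuleIso.symm
  exact ⟨fun h m => NPC_single_congr e (h m), fun h m => NPC_single_congr e.symm (h m)⟩

lemma PCHom.eval_polynomial (c : A) : PCHom (Polynomial.evalRingHom c) :=
  PCHom.of_surjective_nonZeroDivisor _ (fun a => ⟨Polynomial.C a, Polynomial.eval_C⟩)
    (Polynomial.X - Polynomial.C c) (Polynomial.ker_evalRingHom c)
    (fun _ h => (Polynomial.monic_X_sub_C c).mul_right_eq_zero_iff.1 h)

end Groth.Agent.DRingPC
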