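import Groth.Agent.DRingPC.Perfect
import Groth.Agent.DRingPC.Restrict
import Mathlib.Algebra.Category.ModuleCat.Descent
import Mathlib.RingTheory.TensorProduct.Free

/-!
Pseudo-coherence and flat base change.
-/

set_option autoImplicit false
set_option linter.style.haveILetI false
universe u

open CategoryTheory CategoryTheory.Limits CategoryTheory.Pretriangulated Groth.Agent.PCohLib

attribute [local instance] HasDerivedCategory.standard

namespace Groth.Agent.DRingPC

variable {A B : Type u} [CommRing A] [CommRing B] (φ : A →+* B)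

lemma FF_extend {M : ModuleCat.{u} A} (h : FF A M) :
    FF B ((ModuleCat.extendScalars.{u, u, u} φ).obj M) := by
  haveI := h.1; haveI := h.2
  letI := φ.toAlgebra
  exact ⟨(inferInstance : Module.Finite B (TensorProduct A B M)),
    (inferInstance : Module.Free B (TensorProduct A B M))⟩

lemma FPj_extend {M : ModuleCat.{u} A} (h : FPj A M) :
    FPj B ((ModuleCat.extendScalars.{u, u, u} φ).obj M) := by
  haveI := h.1; haveI := h.2
  letI := φ.toAlgebra
  exact ⟨(inferInstance : Module.Finite B (TensorProduct A B M)),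
    (inferInstance : Module.Projective B (TensorProduct A B M))⟩

/-- Termwise base change of complexes. -/
noncomputable abbrev extCx : DRing.Cx A ⥤ DRing.Cx B :=
  (ModuleCat.extendScalars.{u, u, u} φ).mapHomologicalComplex (ComplexShape.up ℤ)

lemma NPC_extend_of_flat (hφ : φ.Flat) {m : ℤ} {K : DRing.Cx A}
    (h : NPC (FF A) m (DRing.toD K)) : NPC (FF B) m (DRing.toD ((extCx φ).obj K)) := by
  haveI := ModuleCat.preservesFiniteLimits_extendScalars_of_flat.{u} hφ
  obtain ⟨E, q, ⟨⟨b, hb⟩, hE⟩, hq⟩ :=
    exists_strictPC_qiso (FF.sum A) (FF.qs A) (FF.ql A) h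
  haveI : QuasiIso ((extCx φ).map q) := inferInstance
  haveI : IsIso (DerivedCategory.Q.map ((extCx φ).map q)) := by
    rw [DerivedCategory.isIso_Q_map_iff_quasiIso]; infer_instance
  exact NPC.mk ⟨⟨b, fun i hi => (ModuleCat.extendScalars.{u, u, u} φ).map_isZero (hb i hi)⟩,
    fun i hi => FF_extend φ (hE i hi)⟩ (asIso (DerivedCategory.Q.map ((extCx φ).map q)))

lemma isPerfect_extend_of_flat (hφ : φ.Flat) {K : DRing.Cx A}
    (h : DRing.IsPerfect A (DRing.toD K)) : DRing.IsPerfect B (DRing.toD ((extCx φ).obj K)) := by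
  haveI := ModuleCat.preservesFiniteLimits_extendScalars_of_flat.{u} hφ
  obtain ⟨E, a, b, hz, hE, ⟨e⟩⟩ := h
  obtain ⟨f, hf⟩ := exists_Q_map_eq (P := FPj A) (FPj.lift A) E hE b
    (fun i hi => hz i (Or.inr hi)) K e.hom
  haveI : QuasiIso f := by
    rw [← DerivedCategory.isIso_Q_map_iff_quasiIso, hf]; infer_instance
  haveI : QuasiIso ((extCx φ).map f) := inferInstance
  haveI : IsIso (DerivedCategory.Q.map ((extCx φ).map f)) := by
    rw [DerivedCategory.isIso_Q_map_iff_quasiIso]; infer_instance
  exact ⟨(extCx φ).obj E, a, b, fun i hi => (ModuleCat.extendScalars.{u, u, u} φ).map_isZero (hz i hi),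
    fun i => FPj_extend φ (hE i), ⟨asIso (DerivedCategory.Q.map ((extCx φ).map f))⟩⟩

noncomputable def extendSingle (M : ModuleCat.{u} A) :
    DRing.toD ((extCx φ).obj ((HomologicalComplex.single _ (ComplexShape.up ℤ) 0).obj M)) ≅
      (DerivedCategory.singleFunctor _ 0).obj ((ModuleCat.extendScalars.{u, u, u} φ).obj M) :=
  DerivedCategory.Q.mapIso ((HomologicalComplex.singleMapHomologicalComplex
    (ModuleCat.extendScalars.{u, u, u} φ) (ComplexShape.up ℤ) 0).app M) ≪≫ singleQIso 0 _

lemma isPerfect_restrict [Algebra A B] (hB : DRing.IsPerfectModule A B) {K : Dual.D B}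
    (hK : DRing.IsPerfect B K) : DRing.IsPerfect A ((DRing.restrictD (algebraMap A B)).obj K) := by
  obtain ⟨E, a, b, hz, hE, ⟨e⟩⟩ := hK
  refine isPerfect_of_iso ?_ ((restrictQ (algebraMap A B) E).symm ≪≫
    (DRing.restrictD (algebraMap A B)).mapIso e)
  refine isPerfect_of_terms _ a b
    (fun i hi => (ModuleCat.restrictScalars (algebraMap A B)).map_isZero (hz i hi)) fun i => ?_
  haveI := (hE i).1; haveI := (hE i).2
  obtain ⟨F, π, hF, hπ⟩ := (ft_FF_iff B (E.X i)).2 inferInstance
  haveI := hπ
  haveI := FPj.lift B F (E.X i) π hπ (hE i)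
  have free : ∀ n : ℕ, DRing.IsPerfectModule A
      ((ModuleCat.restrictScalars (algebraMap A B)).obj (ModuleCat.of B (Fin n → B))) := by
    intro n
    induction n with
    | zero =>
      exact isPerfect_of_isZero (Functor.map_isZero _ (Functor.map_isZero
        (ModuleCat.restrictScalars (algebraMap A B))
        (ModuleCat.isZero_of_subsingleton (ModuleCat.of B (Fin 0 → B)))))
    | succ n ih =>
      let S := ShortComplex.mk (biprod.inl : ModuleCat.of B B ⟶ _ ⊞ ModuleCat.of B (Fin n → B))
        biprod.snd biprod.inl_snd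
      have hS : S.ShortExact :=
        (ShortComplex.Splitting.ofHasBinaryBiproduct (ModuleCat.of B B)
          (ModuleCat.of B (Fin n → B))).shortExact
      let l : B →ₗ[A] (ModuleCat.restrictScalars (algebraMap A B)).obj (ModuleCat.of B B) :=
        { toFun := fun x => x, map_add' := fun _ _ => rfl,
          map_smul' := fun a x => Algebra.smul_def a x }
      have h₁ : DRing.IsPerfectModule A
          ((ModuleCat.restrictScalars (algebraMap A B)).obj (ModuleCat.of B B)) :=
        isPerfect_of_iso hB ((DerivedCategory.singleFunctor _ 0).mapIso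
          (LinearEquiv.ofBijective l Function.bijective_id).toModuleIso)
      exact isPerfect_of_iso (isPerfect_triangle₂
        ((hS.map_of_exact (ModuleCat.restrictScalars (algebraMap A B))).singleTriangle_distinguished)
        h₁ ih) ((DerivedCategory.singleFunctor _ 0).mapIso ((ModuleCat.restrictScalars _).mapIso
          (ModuleCat.biprodIsoProd (ModuleCat.of B B) (ModuleCat.of B (Fin n → B)) ≪≫
            (Fin.consLinearEquiv B (fun _ => B)).toModuleIso)))
  obtain ⟨n, ⟨eF⟩⟩ : ∃ n : ℕ, Nonempty ((Fin n → B) ≃ₗ[B] F) := by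
    haveI := hF.1; haveI := hF.2
    let b := Module.Free.chooseBasis B F
    exact ⟨_, ⟨(b.reindex (Fintype.equivFin _)).equivFun.symm⟩⟩
  let S := ShortComplex.mk (kernel.ι π) π (kernel.condition π)
  have hS : S.ShortExact :=
    { exact := ShortComplex.exact_of_f_is_kernel S (kernelIsKernel π) }
  let s := ShortComplex.Splitting.ofExactOfSection S hS.exact (section_ π) (IsSplitEpi.id _) hS.mono_f
  let G := ModuleCat.restrictScalars (algebraMap A B) ⋙ DerivedCategory.singleFunctor _ 0
  haveI : PreservesBinaryBiproducts G := preservesBinaryBiproducts_of_preservesBiproducts _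
  exact (isPerfect_of_biprod (isPerfect_of_iso (free n)
    (G.mapIso (eF.toModuleIso ≪≫ s.isoBinaryBiproduct) ≪≫ G.mapBiprod _ _))).2

/-- `B ⊗ M` is the extension of scalars. -/
noncomputable def extendLEquiv (A B : Type u) [CommRing A] [CommRing B] [Algebra A B] (M : Type u)
    [AddCommGroup M] [Module A M] :
    TensorProduct A B M ≃ₗ[B]
      ((ModuleCat.extendScalars.{u, u, u} (algebraMap A B)).obj (ModuleCat.of A M)) :=
  (let f := TensorProduct.congr (LinearEquiv.ofBijective
      ({ toFun := fun x => x, map_add' := fun _ _ => rfl,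
         map_smul' := fun a x => Algebra.smul_def a x } :
        B →ₗ[A] (ModuleCat.restrictScalars (algebraMap A B)).obj (ModuleCat.of B B)) Function.bijective_id)
    (LinearEquiv.refl A M)
   let g : TensorProduct A B M ≃+
       ((ModuleCat.extendScalars.{u, u, u} (algebraMap A B)).obj (ModuleCat.of A M)) := f.toAddEquiv
   AddEquiv.toLinearEquiv g fun b x => by
      induction x using TensorProduct.induction_on with
      | zero => rw [smul_zero, map_zero, smul_zero]
      | tmul c y => rfl
      | add x y hx hy => rw [smul_add, map_add, map_add, smul_add, hx, hy])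

/-- `B ⊗ M` is the extension of scalars. -/
noncomputable def extendEquiv (A B : Type u) [CommRing A] [CommRing B] [Algebra A B] (M : Type u)
    [AddCommGroup M] [Module A M] :
    ModuleCat.of B (TensorProduct A B M) ≅
      (ModuleCat.extendScalars.{u, u, u} (algebraMap A B)).obj (ModuleCat.of A M) :=
  (extendLEquiv A B M).toModuleIso

end Groth.Agent.DRingPC
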