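import Groth.Agent.DRingPC.TorAmpOps
import Mathlib.Algebra.MvPolynomial.Equiv
import Mathlib.RingTheory.Polynomial.Basic
import Mathlib.Algebra.Polynomial.Basis
import Mathlib.RingTheory.Flat.Basic

/-!
Tor dimension over polynomial rings.
-/

set_option autoImplicit false
set_option linter.style.haveILetI false
universe u

open CategoryTheory CategoryTheory.Limits
open CategoryTheory.Pretriangulated Groth.Agent.PCohLib
open scoped TensorProduct Polynomial

attribute [local instance] HasDerivedCategory.standard

namespace Groth.Agent.DRingPC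

variable {A : Type u} [CommRing A]

section Ses

variable (M : Type u) [AddCommGroup M] [Module A M] [Module A[X] M] [IsScalarTower A A[X] M]

/-- Multiplication by `X` on `M`. -/
noncomputable def mulX : M →ₗ[A] M := (LinearMap.lsmul A[X] M Polynomial.X).restrictScalars A

/-- The map `X ⊗ 1 - 1 ⊗ X`. -/
noncomputable def charMap : A[X] ⊗[A] M →ₗ[A[X]] A[X] ⊗[A] M :=
  LinearMap.lsmul A[X] (A[X] ⊗[A] M) Polynomial.X - (mulX M).baseChange A[X]

/-- The action `A[X] ⊗ M → M`. -/
noncomputable def actMap : A[X] ⊗[A] M →ₗ[A[X]] M := LinearMap.liftBaseChange A[X] LinearMap.id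

lemma charMap_tmul (p : A[X]) (m : M) :
    charMap M (p ⊗ₜ m) = (Polynomial.X * p) ⊗ₜ m - p ⊗ₜ (Polynomial.X (R := A) • m) := by
  simp [charMap, mulX, TensorProduct.smul_tmul']

lemma actMap_tmul (p : A[X]) (m : M) : actMap M (p ⊗ₜ m) = p • m := by simp [actMap]

lemma charMap_injective : Function.Injective (charMap (A := A) M) := by
  let b := Polynomial.basisMonomials A
  let h₀ : A[X] →ₗ[A] M →ₗ[A] A[X] ⊗[A] M := b.constr A fun n =>
    ∑ j ∈ Finset.range n, (TensorProduct.mk A A[X] M (Polynomial.X ^ j)) ∘ₗ (mulX M) ^ (n - 1 - j)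
  let h := TensorProduct.lift h₀
  have hn : ∀ n : ℕ, b n = (Polynomial.X : A[X]) ^ n := fun n => by
    simp [b, Polynomial.X_pow_eq_monomial]
  have hb : ∀ (n : ℕ) (m : M), h (((Polynomial.X : A[X]) ^ n) ⊗ₜ[A] m) =
      ∑ j ∈ Finset.range n, ((Polynomial.X : A[X]) ^ j) ⊗ₜ[A] (((mulX M) ^ (n - 1 - j)) m) :=
    fun n m => by
      rw [← hn]
      simp [h, h₀, LinearMap.sum_apply]
      rfl
  have key : h ∘ₗ (charMap M).restrictScalars A = LinearMap.id := by
    refine TensorProduct.ext (b.ext fun n => LinearMap.ext fun m => ?_)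
    show h (charMap M (b n ⊗ₜ[A] m)) = b n ⊗ₜ[A] m
    rw [hn, charMap_tmul, map_sub, ← pow_succ', hb, hb, Finset.sum_range_succ]
    have : ∀ j ∈ Finset.range n, ((Polynomial.X : A[X]) ^ j) ⊗ₜ[A] (((mulX (A := A) M) ^ (n + 1 - 1 - j)) m) =
        ((Polynomial.X : A[X]) ^ j) ⊗ₜ[A] (((mulX (A := A) M) ^ (n - 1 - j)) (Polynomial.X (R := A) • m)) := by
      intro j hj
      rw [Finset.mem_range] at hj
      rw [show n + 1 - 1 - j = n - 1 - j + 1 by lia, pow_succ, Module.End.mul_apply]
      rfl
    rw [Finset.sum_congr rfl this, add_sub_cancel_left, Nat.add_sub_cancel, Nat.sub_self, pow_zero,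
      Module.End.one_apply]
  exact Function.LeftInverse.injective (g := h) (LinearMap.congr_fun key)

lemma charMap_exact : Function.Exact (charMap (A := A) M) (actMap M) := by
  intro t
  constructor
  · intro ht
    have key : ∀ t : A[X] ⊗[A] M, t - (1 : A[X]) ⊗ₜ actMap M t ∈ LinearMap.range (charMap M) := by
      intro t
      induction t using TensorProduct.induction_on with
      | zero => simp
      | add x y hx hy =>
        convert add_mem hx hy using 1
        simp only [map_add, TensorProduct.tmul_add]
        abel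
      | tmul p m =>
        induction p using Polynomial.induction_on' with
        | add p q hp hq =>
          convert add_mem hp hq using 1
          rw [actMap_tmul, actMap_tmul, actMap_tmul, add_smul, TensorProduct.tmul_add, TensorProduct.add_tmul]
          abel
        | monomial n a =>
          induction n generalizing m with
          | zero =>
            have hz : Polynomial.monomial 0 a = a • (1 : A[X]) := by
              simp [Polynomial.smul_eq_C_mul]
            rw [actMap_tmul, hz, smul_assoc, one_smul, TensorProduct.smul_tmul, sub_self]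
            exact zero_mem _
          | succ n ih =>
            have hX : Polynomial.monomial (n + 1) a = Polynomial.X * Polynomial.monomial n a := by
              rw [mul_comm, ← Polynomial.monomial_one_one_eq_X, Polynomial.monomial_mul_monomial, mul_one]
            convert add_mem (LinearMap.mem_range_self (charMap M) (Polynomial.monomial n a ⊗ₜ m))
              (ih (Polynomial.X (R := A) • m)) using 1
            rw [actMap_tmul, actMap_tmul, charMap_tmul, ← hX, smul_smul,
              mul_comm _ Polynomial.X, ← hX]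
            abel
    have := key t
    rwa [ht, TensorProduct.tmul_zero, sub_zero] at this
  · rintro ⟨s, rfl⟩
    induction s using TensorProduct.induction_on with
    | zero => simp
    | add x y hx hy => rw [map_add, map_add, hx, hy, add_zero]
    | tmul p m => rw [charMap_tmul, map_sub, actMap_tmul, actMap_tmul, smul_smul, mul_comm, sub_self]

lemma actMap_surjective : Function.Surjective (actMap (A := A) M) := fun m =>
  ⟨1 ⊗ₜ m, by rw [actMap_tmul, one_smul]⟩

/-- One more variable costs one more step of tor dimension. -/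
lemma td_polynomial {d : ℕ} (h : TD d (ModuleCat.of A M)) : TD (d + 1) (ModuleCat.of A[X] M) := by
  have hT : DRing.HasTorAmplitudeIn A[X] (-(d : ℤ)) 0 (Dual.inD A[X] (A[X] ⊗[A] M)) :=
    torAmp_baseChange_flat ((td_iff_amplitude d _).1 h)
  let S : ShortComplex (ModuleCat.{u} A[X]) :=
    ShortComplex.mk (ModuleCat.ofHom (charMap (A := A) M)) (ModuleCat.ofHom (actMap M))
      (ModuleCat.hom_ext (charMap_exact M).linearMap_comp_eq_zero)
  have hS : S.ShortExact :=
    { exact := (ShortComplex.ShortExact.moduleCat_exact_iff_function_exact S).2 (charMap_exact M)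
      mono_f := (ModuleCat.mono_iff_injective _).2 (charMap_injective M)
      epi_g := (ModuleCat.epi_iff_surjective _).2 (actMap_surjective M) }
  refine (td_iff_amplitude (d + 1) _).2 ?_
  exact torAmp_triangle₃ hS.singleTriangle_distinguished (torAmp_mono hT (by lia) (by lia))
    (torAmp_mono hT (by lia) le_rfl)

end Ses

lemma torAmp_self (A : Type u) [CommRing A] (M : Type u) [AddCommGroup M] [Module A M] [Module.Flat A M] :
    DRing.HasTorAmplitudeIn A 0 0 (Dual.inD A M) := by
  simpa using (td_iff_amplitude 0 (ModuleCat.of A M)).1 (td_of_flat 0)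

/-- Restriction along the structure map of a scalar tower. -/
noncomputable def restrictTowerIso (S T : Type u) [CommRing S] [CommRing T] [Algebra S T] (M : Type u)
    [AddCommGroup M] [Module S M] [Module T M] [IsScalarTower S T M] :
    (ModuleCat.restrictScalars (algebraMap S T)).obj (ModuleCat.of T M) ≅ ModuleCat.of S M :=
  let l : (ModuleCat.restrictScalars (algebraMap S T)).obj (ModuleCat.of T M) →ₗ[S] M :=
    { toFun := fun x => x, map_add' := fun _ _ => rfl,
      map_smul' := fun a x => IsScalarTower.algebraMap_smul T a (show M from x) }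
  (LinearEquiv.ofBijective l Function.bijective_id).toModuleIso

/-- Tor dimension over a polynomial ring. -/
lemma td_mvPolynomial {d : ℕ} (n : ℕ) : ∀ (M : Type u) [AddCommGroup M] [Module A M]
    [Module (MvPolynomial (Fin n) A) M] [IsScalarTower A (MvPolynomial (Fin n) A) M],
    TD d (ModuleCat.of A M) → TD (d + n) (ModuleCat.of (MvPolynomial (Fin n) A) M) := by
  induction n with
  | zero =>
    intro M _ _ _ _ h
    let σ := MvPolynomial.isEmptyAlgEquiv A (Fin 0)
    letI : Algebra (MvPolynomial (Fin 0) A) A := σ.toAlgHom.toRingHom.toAlgebra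
    haveI : Module.Flat (MvPolynomial (Fin 0) A) A :=
      RingHom.Flat.of_bijective (f := σ.toAlgHom.toRingHom) σ.bijective
    refine (td_iff_amplitude (d + 0) _).2 ?_
    have h' := torAmp_restrict (A := MvPolynomial (Fin 0) A) 0
      (by simpa using torAmp_self (MvPolynomial (Fin 0) A) A) ((td_iff_amplitude d _).1 h)
    haveI : IsScalarTower (MvPolynomial (Fin 0) A) A M :=
      IsScalarTower.of_algebraMap_smul fun p x => by
        obtain ⟨a, rfl⟩ : ∃ a, algebraMap A (MvPolynomial (Fin 0) A) a = p :=
          ⟨σ p, σ.injective ((σ.commutes _).trans rfl)⟩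
        rw [IsScalarTower.algebraMap_smul (MvPolynomial (Fin 0) A) a x]
        exact congrArg (· • x) (σ.commutes a)
    exact torAmp_of_iso (torAmp_mono h' (by lia) le_rfl)
      (restrictSingle _ 0 _ ≪≫ (DerivedCategory.singleFunctor _ 0).mapIso (restrictTowerIso _ _ M))
  | succ n ih =>
    intro M _ _ _ _ h
    let σ := MvPolynomial.finSuccEquiv A n
    let P' := MvPolynomial (Fin n) A
    letI : Module P'[X] M := Module.compHom M σ.symm.toAlgHom.toRingHom
    letI : Module P' M := Module.compHom M (Polynomial.C : P' →+* P'[X])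
    haveI : IsScalarTower P' P'[X] M := IsScalarTower.of_algebraMap_smul fun _ _ => rfl
    haveI : IsScalarTower A P' M := IsScalarTower.of_algebraMap_smul fun a x => by
      show σ.symm (Polynomial.C (algebraMap A P' a)) • x = a • x
      rw [show Polynomial.C (algebraMap A P' a) = algebraMap A P'[X] a from rfl, σ.symm.commutes,
        IsScalarTower.algebraMap_smul]
    have h1 := td_polynomial (A := P') M (ih M h)
    letI : Algebra (MvPolynomial (Fin (n + 1)) A) P'[X] := σ.toAlgHom.toRingHom.toAlgebra
    haveI : Module.Flat (MvPolynomial (Fin (n + 1)) A) P'[X] :=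
      RingHom.Flat.of_bijective (f := σ.toAlgHom.toRingHom) σ.bijective
    refine (td_iff_amplitude (d + (n + 1)) _).2 ?_
    have h' := torAmp_restrict (A := MvPolynomial (Fin (n + 1)) A) 0
      (by simpa using torAmp_self (MvPolynomial (Fin (n + 1)) A) P'[X])
      ((td_iff_amplitude _ _).1 h1)
    haveI : IsScalarTower (MvPolynomial (Fin (n + 1)) A) P'[X] M :=
      IsScalarTower.of_algebraMap_smul fun p x => by
        show σ.symm (σ p) • x = p • x
        rw [AlgEquiv.symm_apply_apply]
    exact torAmp_of_iso (torAmp_mono h' (by lia) le_rfl)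
      (restrictSingle _ 0 _ ≪≫ (DerivedCategory.singleFunctor _ 0).mapIso (restrictTowerIso _ _ M))

end Groth.Agent.DRingPC

namespace Groth.Agent.DRingPC

/-- A module with bounded flat representative has a flat resolution. -/
lemma exists_td_of_torAmp {A : Type u} [CommRing A] {M : ModuleCat.{u} A} {a b : ℤ}
    (h : DRing.HasTorAmplitudeIn A a b ((DerivedCategory.singleFunctor _ 0).obj M)) :
    ∃ d : ℕ, TD d M := by
  obtain ⟨P, hP, hPz, ⟨e⟩⟩ := exists_projective_rep A ((DerivedCategory.singleFunctor _ 0).obj M) 0
  refine ⟨(-a).toNat, (td_iff_amplitude _ M).2 ((torAmp_iff hP 0 hPz e _ _).2 fun N i hi => ?_)⟩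
  by_cases hi0 : 0 < i
  · exact ShortComplex.exact_of_isZero_X₂ _
      (Functor.map_isZero ((MonoidalCategory.tensoringLeft (ModuleCat.{u} A)).obj N) (hPz i hi0))
  · exact (torAmp_iff hP 0 hPz e a b).1 h N i (by lia)

/-- S7066, for a given presentation. -/
lemma perfectModule_iff_torDim {A B : Type u} [CommRing A] [CommRing B] [Algebra A B] {n : ℕ}
    [Algebra (MvPolynomial (Fin n) A) B] [IsScalarTower A (MvPolynomial (Fin n) A) B] :
    DRing.IsPerfectModule (MvPolynomial (Fin n) A) B ↔
      DRing.IsPseudoCoherentModule' (MvPolynomial (Fin n) A) B ∧ DRing.HasFiniteTorDim A B := by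
  constructor
  · rintro ⟨E, a, b, hz, hE, ⟨e⟩⟩
    obtain ⟨h1, h2⟩ := amplitude_rep_conv hz hE e
    refine ⟨(isPC'_iff_isPC _ _).2 h1, ?_⟩
    have h3 := torAmp_restrict (A := A) 0
      (by simpa using torAmp_self A (MvPolynomial (Fin n) A)) h2
    obtain ⟨d, hd⟩ := exists_td_of_torAmp (torAmp_of_iso h3
      (restrictSingle _ 0 _ ≪≫ (DerivedCategory.singleFunctor _ 0).mapIso
        (restrictTowerIso A (MvPolynomial (Fin n) A) B)))
    exact ⟨d, (td_iff d B).2 hd⟩
  · rintro ⟨hpc, d, hd⟩
    have h := (td_iff_amplitude (d + n) _).1 (td_mvPolynomial n B ((td_iff d B).1 hd))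
    obtain ⟨E, hz, hE, e⟩ := exists_amplitude_rep (by lia) ((isPC'_iff_isPC _ _).1 hpc _) h
    exact ⟨E, _, _, hz, hE, e⟩

end Groth.Agent.DRingPC
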