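import Groth.Agent.DRingPC.PerfectDescent
import Groth.Agent.DRingPC.BaseChange
import Groth.Agent.DRingPC.PolyTor
import Groth.Agent.KoszulLib.Cone
import Groth.Prelude.Def_MoreMor
import Mathlib.RingTheory.Localization.InvSubmonoid

/-!
Quotients by Koszul regular ideals are perfect.
-/

set_option autoImplicit false
set_option linter.style.haveILetI false
universe u

open CategoryTheory CategoryTheory.Limits Groth.Agent.PCohLib
open TensorProduct

attribute [local instance] HasDerivedCategory.standard

namespace Groth.Agent.DRingPC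

variable {R : Type u} [CommRing R]

lemma finite_koszulX : ∀ (l : List R) (i : ℤ), Module.Finite R (KoszulLib.X l i)
  | [], i => by
    by_cases h : i = 0
    · subst h; exact Module.Finite.equiv (KoszulLib.nilEquiv (R := R)).symm
    · haveI := KoszulLib.subsingleton_nil (R := R) h
      infer_instance
  | f :: l, i => by
    haveI := finite_koszulX l (i + 1)
    haveI := finite_koszulX l i
    exact Module.Finite.equiv (KoszulLib.pair f l i (i + 1) rfl)

/-- The quotient by a Koszul regular sequence is a perfect module. -/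
lemma isPerfectModule_quot {l : List R} (hl : LCI.IsKoszulRegularSeq R l) :
    DRing.IsPerfectModule R (R ⧸ Ideal.ofList l) := by
  let K := Koszul.koszul R l
  have hx : ∀ i : ℤ, 0 < i ∨ i + l.length < 0 → IsZero (K.X i) := fun i hi =>
    (subsingleton_iff_isZero _).1 (KoszulLib.subsingleton_of_outside l i hi)
  have hK : DRing.IsPerfect R (DRing.toD K) :=
    ⟨K, -(l.length : ℤ), 0, fun i hi => hx i (by omega), fun i =>
      haveI := KoszulLib.free l i
      ⟨finite_koszulX l i, Module.Projective.of_free⟩, ⟨Iso.refl _⟩⟩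
  have hz : ∀ i : ℤ, i ≠ 0 → IsZero ((DerivedCategory.homologyFunctor _ i).obj (DRing.toD K)) :=
    fun i hi => (hl i hi).of_iso (homologyQIso K i)
  haveI : (DRing.toD K).IsGE 0 := (DerivedCategory.isGE_iff _ _).2 fun i hi => hz i (by omega)
  haveI : (DRing.toD K).IsLE 0 := (DerivedCategory.isLE_iff _ _).2 fun i hi => hz i (by omega)
  obtain ⟨M, ⟨e⟩⟩ := (DRing.toD K).exists_iso_singleFunctor_obj_of_isGE_of_isLE 0
  let d : KoszulLib.X l (-1) →ₗ[R] KoszulLib.X l 0 := KoszulLib.dL l (-1) 0
  have hmap : (LinearMap.range d).map (KoszulLib.e0 l).toLinearMap = Ideal.ofList l := by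
    ext r
    rw [KoszulLib.range_d_zero l r]
    constructor
    · rintro ⟨_, ⟨x, rfl⟩, rfl⟩; exact ⟨x, rfl⟩
    · rintro ⟨x, rfl⟩; exact ⟨_, ⟨x, rfl⟩, rfl⟩
  let q : K.homology 0 ≅ ModuleCat.of R (R ⧸ Ideal.ofList l) :=
    K.isoHomologyι 0 1 (by simp) ((hx 1 (Or.inl one_pos)).eq_of_tgt _ _) ≪≫
      (K.opcyclesIsCokernel (-1) 0 (by simp)).coconePointUniqueUpToIso (cokernelIsCokernel (K.d (-1) 0)) ≪≫
      ModuleCat.cokernelIsoRangeQuotient (K.d (-1) 0) ≪≫
      (Submodule.Quotient.equiv _ _ (KoszulLib.e0 l) hmap).toModuleIso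
  exact isPerfect_of_iso hK (e ≪≫ (DerivedCategory.singleFunctor _ 0).mapIso
    ((singleHomologyIso 0 M).symm ≪≫ (DerivedCategory.homologyFunctor _ 0).mapIso e.symm ≪≫
      homologyQIso K 0 ≪≫ q))

variable {A : Type u} [CommRing A]

/-- The quotient by a Koszul regular ideal is a perfect module. -/
lemma isPerfectModule_of_koszulRegular {I : Ideal A} (hI : LCI.IsKoszulRegularIdeal I)
    (M : Type u) [AddCommGroup M] [Module A M] (e : (A ⧸ I) ≃ₗ[A] M) : DRing.IsPerfectModule A M := by
  have key : ∀ p : PrimeSpectrum A, ∃ g : A, g ∉ p.asIdeal ∧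
      DRing.IsPerfectModule (Localization.Away g) (Localization.Away g ⊗[A] M) := fun p => by
    by_cases hp : I ≤ p.asIdeal
    · obtain ⟨g, hg, l, hl, hIl⟩ := hI p hp
      refine ⟨g, hg, ?_⟩
      have hJ : I.map (algebraMap A (Localization.Away g)) = Ideal.ofList l := hIl
      let ψ : (Localization.Away g ⧸ Ideal.ofList l) ≃ₗ[Localization.Away g]
          (Localization.Away g ⊗[A] M) :=
        Submodule.quotEquivOfEq _ _ hJ.symm ≪≫ₗ
          (Algebra.TensorProduct.quotIdealMapEquivTensorQuot (Localization.Away g) I).toLinearEquiv ≪≫ₗ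
            TensorProduct.AlgebraTensorModule.congr (LinearEquiv.refl _ _) e
      exact isPerfect_of_iso (isPerfectModule_quot hl)
        ((DerivedCategory.singleFunctor _ 0).mapIso ψ.toModuleIso)
    · obtain ⟨g, hgI, hg⟩ := SetLike.not_le_iff_exists.1 hp
      refine ⟨g, hg, ?_⟩
      have h0 : ∀ m : M, g • m = 0 := fun m => by
        obtain ⟨x, rfl⟩ := e.surjective m
        obtain ⟨x, rfl⟩ := Ideal.Quotient.mk_surjective x
        rw [← map_smul, show g • (Ideal.Quotient.mk I x) = 0 from
          Ideal.Quotient.eq_zero_iff_mem.2 (I.mul_mem_right x hgI), map_zero]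
      haveI : Subsingleton (Localization.Away g ⊗[A] M) := by
        refine subsingleton_of_forall_eq 0 fun z => ?_
        induction z using TensorProduct.induction_on with
        | zero => rfl
        | tmul a m =>
          obtain ⟨c, hc⟩ := IsLocalization.Away.algebraMap_isUnit (S := Localization.Away g) g
          have : a = g • (((c⁻¹ : (Localization.Away g)ˣ) : Localization.Away g) * a) := by
            rw [Algebra.smul_def, ← mul_assoc, ← hc, Units.mul_inv, one_mul]
          rw [this, TensorProduct.smul_tmul, h0, TensorProduct.tmul_zero]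
        | add x y hx hy => rw [hx, hy, add_zero]
      exact isPerfect_of_isZero (Functor.map_isZero _ ((subsingleton_iff_isZero _).1 inferInstance))
  choose g hg hperf using key
  have hspan : Ideal.span (Set.range g) = ⊤ := by
    by_contra h
    obtain ⟨m, hm, hle⟩ := Ideal.exists_le_maximal _ h
    exact hg ⟨m, hm.isPrime⟩ (hle (Ideal.subset_span ⟨_, rfl⟩))
  obtain ⟨s, hsub, hs⟩ := (Ideal.span_eq_top_iff_finite _).1 hspan
  have hex : ∀ j : Fin s.card, ∃ p, g p = (s.equivFin.symm j : A) := fun j => hsub (s.equivFin.symm j).2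
  choose p hp using hex
  have hf : Ideal.span (Set.range fun j => g (p j)) = ⊤ := by
    refine top_le_iff.1 (hs ▸ Ideal.span_mono fun x hx => ⟨s.equivFin ⟨x, hx⟩, ?_⟩)
    simp only [hp, Equiv.symm_apply_apply]
  refine isPerfect_of_iso (isPerfect_of_cover (isCover_localization _ hf)
    (fun N _ _ h => flat_descent_localization _ hf N h)
    ((HomologicalComplex.single (ModuleCat.{u} A) (ComplexShape.up ℤ) 0).obj (ModuleCat.of A M))
    fun j => ?_) (singleQIso 0 _)
  exact isPerfect_of_iso (hperf (p j))
    ((DerivedCategory.singleFunctor _ 0).mapIso (extendEquiv A (Localization.Away (g (p j))) M) ≪≫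
      (extendSingle _ _).symm)

/-- Local complete intersection maps are perfect. -/
theorem isPerfectHom_of_isLCI (A B : Type u) [CommRing A] [CommRing B] [Algebra A B]
    (h : LCI.IsLCI A B) : MoreMor.IsPerfectHom A B := by
  obtain ⟨-, n, α, hα, hI⟩ := h
  letI := α.toRingHom.toAlgebra
  haveI : IsScalarTower A (MvPolynomial (Fin n) A) B :=
    IsScalarTower.of_algebraMap_eq fun a => (α.commutes a).symm
  let e : (MvPolynomial (Fin n) A ⧸ RingHom.ker α.toRingHom) ≃ₗ[MvPolynomial (Fin n) A] B :=
    (Ideal.quotientKerAlgEquivOfSurjective (f := Algebra.ofId (MvPolynomial (Fin n) A) B) hα).toLinearEquiv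
  obtain ⟨h1, h2⟩ := perfectModule_iff_torDim.1 (isPerfectModule_of_koszulRegular hI B e)
  exact ⟨⟨n, α, hα, h1⟩, h2⟩

end Groth.Agent.DRingPC
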