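import Groth.Agent.DRingPC.Module

/-!
Perfect objects of `D(A)`.
-/

set_option autoImplicit false
set_option linter.style.haveILetI false
universe u

open CategoryTheory CategoryTheory.Limits CategoryTheory.Pretriangulated Groth.Agent.PCohLib ZeroObject

attribute [local instance] HasDerivedCategory.standard

namespace Groth.Agent.DRingPC

variable {A : Type u} [CommRing A]

lemma isPerfect_of_iso {K L : Dual.D A} (h : DRing.IsPerfect A K) (e : K ≅ L) :
    DRing.IsPerfect A L := by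
  obtain ⟨E, a, b, hz, hE, ⟨f⟩⟩ := h
  exact ⟨E, a, b, hz, hE, ⟨f ≪≫ e⟩⟩

lemma isPerfect_shift {K : Dual.D A} (h : DRing.IsPerfect A K) (k : ℤ) :
    DRing.IsPerfect A ((shiftFunctor (Dual.D A) k).obj K) := by
  obtain ⟨E, a, b, hz, hE, ⟨f⟩⟩ := h
  exact ⟨(shiftFunctor (CochainComplex (ModuleCat.{u} A) ℤ) k).obj E, a - k, b - k,
    fun i hi => hz (i + k) (by lia), fun i => hE (i + k),
    ⟨(DerivedCategory.Q.commShiftIso k).app E ≪≫ (shiftFunctor _ k).mapIso f⟩⟩

lemma isPerfect_triangle₃ {T : Triangle (Dual.D A)} (hT : T ∈ distinguishedTriangles)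
    (h₁ : DRing.IsPerfect A T.obj₁) (h₂ : DRing.IsPerfect A T.obj₂) :
    DRing.IsPerfect A T.obj₃ := by
  obtain ⟨E, a, b, hzE, hE, ⟨e⟩⟩ := h₁
  obtain ⟨F, a', b', hzF, hF, ⟨f⟩⟩ := h₂
  obtain ⟨G, c, d, hz, hG, hg⟩ := perfect_triangle₃ (P := FPj A) (FPj.lift A) (FPj.kernel A)
    (FPj.sum A) hT hE hzE hF hzF e f
  exact ⟨G, c, d, hz, hG, hg⟩

lemma isPerfect_triangle₂ {T : Triangle (Dual.D A)} (hT : T ∈ distinguishedTriangles)
    (h₁ : DRing.IsPerfect A T.obj₁) (h₃ : DRing.IsPerfect A T.obj₃) :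
    DRing.IsPerfect A T.obj₂ :=
  isPerfect_triangle₃ (inv_rot_of_distTriang _ hT) (isPerfect_shift h₃ (-1)) h₁

lemma isPerfect_triangle₁ {T : Triangle (Dual.D A)} (hT : T ∈ distinguishedTriangles)
    (h₂ : DRing.IsPerfect A T.obj₂) (h₃ : DRing.IsPerfect A T.obj₃) :
    DRing.IsPerfect A T.obj₁ :=
  isPerfect_of_iso (isPerfect_shift (isPerfect_triangle₃ (rot_of_distTriang _ hT) h₂ h₃) (-1))
    ((shiftFunctorCompIsoId (Dual.D A) (1 : ℤ) (-1) (by lia)).app _)

lemma isPerfect_of_isZero {K : Dual.D A} (h : IsZero K) : DRing.IsPerfect A K :=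
  ⟨0, 0, 0, fun i _ => (HomologicalComplex.eval _ _ i).map_isZero (isZero_zero _),
    fun i => (FPj A).prop_of_isZero ((HomologicalComplex.eval _ _ i).map_isZero (isZero_zero _)),
    ⟨(DerivedCategory.Q.map_isZero (isZero_zero _)).iso h⟩⟩

lemma isPerfect_single {M : ModuleCat.{u} A} (hM : DRing.IsPerfectModule A M) (n : ℤ) :
    DRing.IsPerfect A ((DerivedCategory.singleFunctor _ n).obj M) :=
  isPerfect_of_iso (isPerfect_shift hM (-n)) (singleShiftIso (-n) n 0 (by lia) M)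

lemma isPerfect_of_biprod {K L : Dual.D A} (h : DRing.IsPerfect A (K ⊞ L)) :
    DRing.IsPerfect A K ∧ DRing.IsPerfect A L := by
  have fac : ∀ (E' E'' : ModuleCat.{u} A) [HasBinaryBiproduct E' E''],
      FPj A (E' ⊞ E'') → FPj A E' ∧ FPj A E'' := by
    intro E' E'' _ h
    haveI := h.1; haveI := h.2
    have key : ∀ {M : ModuleCat.{u} A} (i : M ⟶ E' ⊞ E'') (p : E' ⊞ E'' ⟶ M), i ≫ p = 𝟙 M →
        FPj A M := fun i p hip =>
      have hip' : p.hom ∘ₗ i.hom = LinearMap.id := by rw [← ModuleCat.hom_comp, hip]; rfl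
      ⟨Module.Finite.of_surjective p.hom fun x => ⟨i.hom x, LinearMap.congr_fun hip' x⟩,
        Module.Projective.of_split i.hom p.hom hip'⟩
    exact ⟨key biprod.inl biprod.fst biprod.inl_fst, key biprod.inr biprod.snd biprod.inr_snd⟩
  obtain ⟨E, a, b, hz, hE, ⟨e⟩⟩ := h
  have hz' : ∀ i, i < a ∨ max a b < i → IsZero (E.X i) := fun i hi => hz i (by lia)
  constructor
  · obtain ⟨G, hG, hzG, hg⟩ := amp_of_biprod (P := FPj A) (FPj.lift A) (FPj.kernel A) (FPj.sum A)
      fac a (max a b) (le_max_left _ _) hE hz' e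
    exact ⟨G, a, max a b, hzG, hG, hg⟩
  · obtain ⟨G, hG, hzG, hg⟩ := amp_of_biprod (P := FPj A) (FPj.lift A) (FPj.kernel A) (FPj.sum A)
      fac a (max a b) (le_max_left _ _) hE hz' (e ≪≫ biprod.braiding K L)
    exact ⟨G, a, max a b, hzG, hG, hg⟩

lemma isPerfect_of_terms (K : DRing.Cx A) (a b : ℤ) (hz : DRing.VanishesOutside K a b)
    (h : ∀ i, DRing.IsPerfectModule A (K.X i)) : DRing.IsPerfect A (DRing.toD K) := by
  obtain ⟨k, hk⟩ : ∃ k : ℕ, b < a + k := ⟨(b - a + 1).toNat, by lia⟩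
  induction k generalizing K b with
  | zero =>
    refine ⟨K, a, b, hz, fun i => (FPj A).prop_of_isZero (hz i (by lia)), ⟨Iso.refl _⟩⟩
  | succ k ih =>
    by_cases hba : b < a
    · exact ⟨K, a, b, hz, fun i => (FPj A).prop_of_isZero (hz i (by lia)), ⟨Iso.refl _⟩⟩
    obtain ⟨S, hS, h₁, rfl, hz₃, hiso⟩ := exists_ses_top K b (hz _ (by lia))
    have h3 : ∀ i, i < a ∨ b - 1 < i → IsZero (S.X₃.X i) := fun i hi => by
      by_cases hib : i = b
      · exact hib ▸ hz₃
      · obtain ⟨e⟩ := hiso i hib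
        exact (hz i (by lia)).of_iso e.symm
    refine isPerfect_triangle₂ (DerivedCategory.triangleOfSES_distinguished hS) ?_
      (ih S.X₃ (b - 1) h3 (fun i => ?_) (by lia))
    · exact isPerfect_of_iso (isPerfect_single (h b) b)
        ((singleQIso b _).symm ≪≫ eqToIso (by rw [← h₁]; rfl))
    · by_cases hib : i = b
      · exact isPerfect_of_isZero (Functor.map_isZero _ (hib ▸ hz₃))
      · obtain ⟨e⟩ := hiso i hib
        exact isPerfect_of_iso (h i) ((DerivedCategory.singleFunctor _ 0).mapIso e)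

lemma isPerfect_of_homology (K : Dual.D A) (a b : ℤ) [K.IsLE b]
    (ha : ∀ i : ℤ, i < a → IsZero ((DerivedCategory.homologyFunctor _ i).obj K))
    (h : ∀ i, DRing.IsPerfectModule A ((DerivedCategory.homologyFunctor (ModuleCat.{u} A) i).obj K)) :
    DRing.IsPerfect A K := by
  have base : ∀ (K : Dual.D A) (b : ℤ) [K.IsLE b],
      (∀ i : ℤ, i < a → IsZero ((DerivedCategory.homologyFunctor _ i).obj K)) → b < a →
      DRing.IsPerfect A K := by
    intro K b _ ha hba
    obtain ⟨X, ⟨e⟩⟩ : ∃ X, Nonempty (DerivedCategory.Q.obj X ≅ K) :=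
      ⟨_, ⟨DerivedCategory.Q.objObjPreimageIso K⟩⟩
    have hX : X.Acyclic := fun i => by
      rw [HomologicalComplex.exactAt_iff_isZero_homology]
      refine IsZero.of_iso ?_
        ((homologyQIso X i).symm ≪≫ (DerivedCategory.homologyFunctor _ i).mapIso e)
      by_cases hi : i < a
      · exact ha i hi
      · exact K.isZero_of_isLE b i (by lia)
    have : QuasiIso (0 : (0 : CochainComplex (ModuleCat.{u} A) ℤ) ⟶ X) := by
      refine quasiIso_of_NQ _ fun n => NQ_of_isZero (isZero_zero _) (fun i _ => hX i) _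
    exact isPerfect_of_isZero (((DerivedCategory.Q.map_isZero (isZero_zero _)).of_iso
      (@asIso _ _ _ _ (DerivedCategory.Q.map (0 : (0 : CochainComplex (ModuleCat.{u} A) ℤ) ⟶ X))
        (by rw [DerivedCategory.isIso_Q_map_iff_quasiIso]; exact this)).symm).of_iso e.symm)
  obtain ⟨k, hk⟩ : ∃ k : ℕ, b < a + k := ⟨(b - a + 1).toNat, by lia⟩
  induction k generalizing K b with
  | zero => exact base K b ha (by lia)
  | succ k ih =>
    by_cases hba : b < a
    · exact base K b ha hba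
    obtain ⟨T, hT, rfl, hT₁, hlow, ⟨e⟩⟩ := exists_top_triangle K b
    refine isPerfect_triangle₂ hT ?_ (isPerfect_of_iso (isPerfect_single (h b) b) e.symm)
    refine ih T.obj₁ (b - 1) (fun i hi => ?_) (fun i => ?_) (by lia)
    · obtain ⟨e'⟩ := hlow i (by lia)
      exact (ha i hi).of_iso e'
    · by_cases hib : i < b
      · obtain ⟨e'⟩ := hlow i hib
        exact isPerfect_of_iso (h i) ((DerivedCategory.singleFunctor _ 0).mapIso e'.symm)
      · exact isPerfect_of_isZero (Functor.map_isZero _ (T.obj₁.isZero_of_isLE (b - 1) i (by lia)))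

end Groth.Agent.DRingPC
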