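import Groth.Agent.DRingPC.Poly
import Groth.Agent.DRingPC.Perfect
import Mathlib.RingTheory.FiniteType
import Mathlib.RingTheory.Polynomial.Basic

/-!
Relative pseudo-coherence through one chosen presentation.
-/

set_option autoImplicit false
set_option linter.style.haveILetI false
universe u

open CategoryTheory CategoryTheory.Limits CategoryTheory.Pretriangulated Groth.Agent.PCohLib

attribute [local instance] HasDerivedCategory.standard

namespace Groth.Agent.DRingPC

variable {R A : Type u} [CommRing R] [CommRing A] [Algebra R A]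

lemma relPC_iff {n : ℕ} (α : MvPolynomial (Fin n) R →ₐ[R] A) (hα : Function.Surjective α) (m : ℤ)
    (K : Dual.D A) :
    DerCA.IsRelPseudoCoherent R A m K ↔
      NPC (FF (MvPolynomial (Fin n) R)) m ((DRing.restrictD α.toRingHom).obj K) := by
  rw [← isPC_iff_NPC]
  exact ⟨fun ⟨_, β, hβ, h⟩ => (relVia_iff β hβ α hα m K).1 h, fun h => ⟨n, α, hα, h⟩⟩

lemma exists_presentation_ft (R A : Type u) [CommRing R] [CommRing A] [Algebra R A]
    [Algebra.FiniteType R A] :
    ∃ (n : ℕ) (α : MvPolynomial (Fin n) R →ₐ[R] A), Function.Surjective α :=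
  Algebra.FiniteType.iff_quotient_mvPolynomial''.1 inferInstance

lemma finite_restrict_iff_of_surjective {S : Type u} [CommRing S] (f : S →+* A)
    (hf : Function.Surjective f) (M : ModuleCat.{u} A) :
    Module.Finite S ((ModuleCat.restrictScalars f).obj M) ↔ Module.Finite A M := by
  refine ⟨finite_of_finite_restrict f M, fun h => ?_⟩
  letI : Algebra S A := f.toAlgebra
  letI : Module S M := Module.compHom M f
  haveI : IsScalarTower S A M := IsScalarTower.of_algebraMap_smul fun _ _ => rfl
  haveI : Module.Finite S A := Module.Finite.of_surjective (Algebra.linearMap S A) hf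
  exact (Module.Finite.trans A M : Module.Finite S M)

lemma subsingleton_restrict_iff {S : Type u} [CommRing S] (f : S →+* A) (K : Dual.D A) (i : ℤ) :
    Subsingleton (Dual.HD S ((DRing.restrictD f).obj K) i) ↔ Subsingleton (Dual.HD A K i) :=
  (restrictHD f K i).toLinearEquiv.toEquiv.subsingleton_congr

lemma finite_restrictHD_iff {S : Type u} [CommRing S] (f : S →+* A) (hf : Function.Surjective f)
    (K : Dual.D A) (i : ℤ) :
    Module.Finite S (Dual.HD S ((DRing.restrictD f).obj K) i) ↔
      Module.Finite A (Dual.HD A K i) := by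
  rw [← finite_restrict_iff_of_surjective f hf]
  exact Module.Finite.equiv_iff (restrictHD f K i).toLinearEquiv

lemma relPC_iff_finite [IsNoetherianRing R] [Algebra.FiniteType R A] (m : ℤ) (K : Dual.D A) :
    DerCA.IsRelPseudoCoherent R A m K ↔
      (∃ b : ℤ, ∀ i : ℤ, b < i → Subsingleton (Dual.HD A K i)) ∧
        ∀ i : ℤ, m ≤ i → Module.Finite A (Dual.HD A K i) := by
  obtain ⟨n, α, hα⟩ := exists_presentation_ft R A
  rw [relPC_iff α hα, NPC_iff_finite_of_noetherian]
  simp only [subsingleton_restrict_iff, finite_restrictHD_iff _ hα]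

lemma subsingleton_HD_inD {A : Type u} [CommRing A] (M : Type u) [AddCommGroup M] [Module A M]
    (i : ℤ) (hi : i ≠ 0) : Subsingleton (Dual.HD A (Dual.inD A M) i) := by
  rw [subsingleton_iff_isZero]
  rcases lt_or_gt_of_ne hi with hi | hi
  · exact DerivedCategory.isZero_of_isGE _ 0 i hi
  · exact DerivedCategory.isZero_of_isLE _ 0 i hi

lemma finite_HD_inD_iff {A : Type u} [CommRing A] (M : Type u) [AddCommGroup M] [Module A M] :
    Module.Finite A (Dual.HD A (Dual.inD A M) 0) ↔ Module.Finite A M :=
  Module.Finite.equiv_iff (singleHomologyIso 0 (ModuleCat.of A M)).toLinearEquiv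

end Groth.Agent.DRingPC
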