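import Groth.Agent.DRingPC.TorDim

/-!
Tor amplitude through bounded above projective representatives.
-/

set_option autoImplicit false
set_option linter.style.haveILetI false
universe u

open CategoryTheory CategoryTheory.Limits CategoryTheory.MonoidalCategory
open CategoryTheory.Pretriangulated Groth.Agent.PCohLib
open CochainComplex (mappingCone)
open ZeroObject

attribute [local instance] HasDerivedCategory.standard

namespace Groth.Agent.DRingPC

variable (A : Type u) [CommRing A]

/-- Projective modules. -/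
def PR : ObjectProperty (ModuleCat.{u} A) := fun M => Module.Projective A M

instance : (PR A).IsClosedUnderIsomorphisms where
  of_iso {X Y} e h := haveI : Module.Projective A X := h; Module.Projective.of_equiv e.toLinearEquiv

instance : (PR A).ContainsZero where
  exists_zero := ⟨ModuleCat.of A PUnit.{u + 1}, ModuleCat.isZero_of_subsingleton _,
    (inferInstance : Module.Projective A PUnit.{u + 1})⟩

lemma PR.sum (X Y : ModuleCat.{u} A) (hX : PR A X) (hY : PR A Y) : PR A (X ⨯ Y) := by
  haveI : Module.Projective A X := hX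
  haveI : Module.Projective A Y := hY
  exact (PR A).prop_of_iso ((ModuleCat.biprodIsoProd X Y).symm ≪≫ biprod.isoProd X Y)
    (inferInstance : Module.Projective A (X × Y))

lemma PR.lift (E F : ModuleCat.{u} A) (f : E ⟶ F) (hf : Epi f) (hF : PR A F) : IsSplitEpi f := by
  haveI : Module.Projective A F := hF
  obtain ⟨s, hs⟩ := Module.projective_lifting_property f.hom LinearMap.id
    ((ModuleCat.epi_iff_surjective f).1 hf)
  exact IsSplitEpi.mk' ⟨ModuleCat.ofHom s, ModuleCat.hom_ext hs⟩

lemma PR.ft (M : ModuleCat.{u} A) : PCoh.IsOfFiniteType (PR A) M :=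
  ⟨ModuleCat.of A (M →₀ A), ModuleCat.ofHom (Finsupp.linearCombination A (id : M → M)),
    (inferInstance : Module.Projective A (M →₀ A)),
    (ModuleCat.epi_iff_surjective _).2 (Finsupp.linearCombination_id_surjective A M)⟩

lemma PR.qs : PCoh.IsQuasiStableUnderKernels (PR A) := fun _ _ _ _ => PR.ft A _

lemma PR.ql : PCoh.IsQuasiLiftable (PR A) := fun E F f hf hF => by
  haveI := PR.lift A E F f hf hF
  exact ⟨F, section_ f, hF, by rw [IsSplitEpi.id]; infer_instance⟩

lemma PR.toFL {M : ModuleCat.{u} A} (h : PR A M) : FL A M :=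
  haveI : Module.Projective A M := h
  Module.Flat.of_projective

/-- Bounded above objects have bounded above projective representatives. -/
lemma exists_projective_rep (K : Dual.D A) (b : ℤ) [K.IsLE b] :
    ∃ P : DRing.Cx A, (∀ i, Module.Projective A (P.X i)) ∧ (∀ i, b < i → IsZero (P.X i)) ∧
      Nonempty (DerivedCategory.Q.obj P ≅ K) := by
  have hPC : ∀ n, NPC (PR A) n K := fun n =>
    NPC_of_homology (PR.sum A) (PR.qs A) (PR.ql A) n K b fun i _ =>
      NPC_single_of_coh (PR.sum A) (PR.ql A) (fun X _ => fun _ _ _ => PR.ft A _)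
        ⟨PR.ft A _, fun _ _ _ => PR.ft A _⟩ _
  obtain ⟨P, hP, hPz, e⟩ := exists_strictPCAll_vanishing (PR.sum A) (PR.qs A) (PR.ql A)
    (m := b + 1) (DerivedCategory.Q.objObjPreimageIso K)
    (fun n => (hPC n).of_iso (DerivedCategory.Q.objObjPreimageIso K).symm)
    (fun i hi => K.isZero_of_isLE b i (by lia))
  exact ⟨P, hP, fun i hi => hPz i (by lia), e⟩

variable {A}

/-- Termwise `N ⊗ -`. -/
noncomputable abbrev tcx (N : ModuleCat.{u} A) : DRing.Cx A ⥤ DRing.Cx A :=
  ((tensoringLeft (ModuleCat.{u} A)).obj N).mapHomologicalComplex (ComplexShape.up ℤ)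

/-- The tensor complexes have no cohomology outside `[a, b]`. -/
def TorVanish (P : DRing.Cx A) (a b : ℤ) : Prop :=
  ∀ (N : ModuleCat.{u} A) (i : ℤ), (i < a ∨ b < i) → ((tcx N).obj P).ExactAt i

lemma exact_mkQ (E : DRing.Cx A) (j i : ℤ) :
    Function.Exact (E.d j i).hom (LinearMap.range (E.d j i).hom).mkQ :=
  LinearMap.exact_iff.2 (Submodule.ker_mkQ _)

/-- The differential out of `E^j / d(E^(j-1))`. -/
noncomputable def opcι (E : DRing.Cx A) (j i : ℤ) :
    (E.X j ⧸ LinearMap.range (E.d (j - 1) j).hom) →ₗ[A] E.X i :=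
  (LinearMap.range (E.d (j - 1) j).hom).liftQ (E.d j i).hom (by
    rintro _ ⟨x, rfl⟩
    exact ConcreteCategory.congr_hom (E.d_comp_d (j - 1) j i) x)

lemma opcι_ses (E : DRing.Cx A) (j i : ℤ) (h : j + 1 = i) (hex : E.ExactAt j) :
    Function.Injective (opcι E j i) ∧
      Function.Exact (opcι E j i) (LinearMap.range (E.d (i - 1) i).hom).mkQ :=
  have hS := opcSC_shortExact E j i h hex
  ⟨(ModuleCat.mono_iff_injective _).1 hS.mono_f,
    (ShortComplex.ShortExact.moduleCat_exact_iff_function_exact _).1 hS.exact⟩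

lemma exactAt_tensor_iff (E : DRing.Cx A) (N : ModuleCat.{u} A) (j i : ℤ) (h : j + 1 = i) :
    ((tcx N).obj E).ExactAt j ↔ Function.Injective ((opcι E j i).lTensor N) := by
  obtain rfl : i - 1 = j := by lia
  rw [HomologicalComplex.exactAt_iff' _ (i - 1 - 1) (i - 1) i (by simp) (by simp),
    ShortComplex.ShortExact.moduleCat_exact_iff_function_exact]
  show Function.Exact ((E.d (i - 1 - 1) (i - 1)).hom.lTensor N) ((E.d (i - 1) i).hom.lTensor N) ↔ _
  have hq : Function.Exact ((E.d (i - 1 - 1) (i - 1)).hom.lTensor N)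
      ((LinearMap.range (E.d (i - 1 - 1) (i - 1)).hom).mkQ.lTensor N) :=
    lTensor_exact N (exact_mkQ E _ _) (Submodule.mkQ_surjective _)
  have hcomp : (opcι E (i - 1) i).lTensor N ∘ₗ
      (LinearMap.range (E.d (i - 1 - 1) (i - 1)).hom).mkQ.lTensor N = (E.d (i - 1) i).hom.lTensor N := by
    rw [← LinearMap.lTensor_comp]
    exact congrArg _ (LinearMap.ext fun x => rfl)
  constructor
  · intro hex
    rw [injective_iff_map_eq_zero]
    intro q hqq
    obtain ⟨y, rfl⟩ := LinearMap.lTensor_surjective N (Submodule.mkQ_surjective _) q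
    exact (hq y).2 ((hex y).1 ((LinearMap.congr_fun hcomp y).symm.trans hqq))
  · intro hinj y
    refine ⟨fun hy => (hq y).1 (hinj ?_), ?_⟩
    · rw [map_zero]
      exact (LinearMap.congr_fun hcomp y).trans hy
    · rintro ⟨x, rfl⟩
      exact ConcreteCategory.congr_hom (((tcx N).obj E).d_comp_d (i - 1 - 1) (i - 1) i) x

lemma exactAt_of_tensor_unit (E : DRing.Cx A) (i : ℤ)
    (h : ((tcx (𝟙_ (ModuleCat.{u} A))).obj E).ExactAt i) : E.ExactAt i :=
  h.of_iso ((NatIso.mapHomologicalComplex (leftUnitorNatIso (ModuleCat.{u} A)) _).app E ≪≫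
    (Functor.mapHomologicalComplexIdIso _ _).app E)

/-- `N ⊗ -` preserves exactness of bounded above complexes of flat modules. -/
lemma exactAt_tensor_of_acyclic (G : DRing.Cx A) (hfl : ∀ i, Module.Flat A (G.X i)) (b : ℤ)
    (hb : ∀ i, b < i → IsZero (G.X i)) (hex : ∀ i, G.ExactAt i) (N : ModuleCat.{u} A) (i : ℤ) :
    ((tcx N).obj G).ExactAt i := by
  have key : ∀ (k : ℕ) (j : ℤ), b < j + k →
      Module.Flat A (G.X j ⧸ LinearMap.range (G.d (j - 1) j).hom) := by
    intro k
    induction k with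
    | zero =>
      intro j hj
      haveI := ModuleCat.subsingleton_of_isZero (hb j (by simpa using hj))
      infer_instance
    | succ k ih =>
      intro j hj
      obtain ⟨h₁, h₂⟩ := opcι_ses G j (j + 1) rfl (hex j)
      haveI := hfl (j + 1)
      haveI := ih (j + 1) (by lia)
      exact TFun.flat_left h₁ h₂ (Submodule.mkQ_surjective _)
  obtain ⟨h₁, h₂⟩ := opcι_ses G i (i + 1) rfl (hex i)
  haveI := key (b - i).toNat (i + 1) (by lia)
  rw [exactAt_tensor_iff G N i (i + 1) rfl]
  exact LinearMap.lTensor_injective_of_exact_of_flat _ (Submodule.mkQ_surjective _) _ h₁ h₂ N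

/-- A quotient of a flat module with universally injective kernel is flat. -/
lemma flat_quotient {S : ShortComplex (ModuleCat.{u} A)} (hS : S.ShortExact)
    (hF : Module.Flat A S.X₂)
    (hinj : ∀ N : ModuleCat.{u} A, Function.Injective (S.f.hom.lTensor N)) : Module.Flat A S.X₃ := by
  have hex := (ShortComplex.ShortExact.moduleCat_exact_iff_function_exact _).1 hS.exact
  have hsurj := (ModuleCat.epi_iff_surjective _).1 hS.epi_g
  refine Module.Flat.iff_rTensor_preserves_injective_linearMap.2 fun X Y _ _ _ _ φ hφ => ?_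
  rw [injective_iff_map_eq_zero]
  intro z hz
  obtain ⟨w, rfl⟩ := LinearMap.lTensor_surjective X hsurj z
  have h1 : S.g.hom.lTensor Y (φ.rTensor S.X₂ w) = 0 :=
    (LinearMap.congr_fun ((LinearMap.lTensor_comp_rTensor _ _ _).trans
      (LinearMap.rTensor_comp_lTensor _ _ _).symm) w).trans hz
  obtain ⟨u', hu⟩ := (lTensor_exact Y hex hsurj _).1 h1
  let c := (LinearMap.range φ).mkQ
  have hc : c ∘ₗ φ = 0 := LinearMap.ext fun x => (Submodule.Quotient.mk_eq_zero _).2 ⟨x, rfl⟩
  have h2 : c.rTensor S.X₁ u' = 0 := hinj (ModuleCat.of A (Y ⧸ LinearMap.range φ)) (by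
    rw [map_zero]
    refine (LinearMap.congr_fun ((LinearMap.lTensor_comp_rTensor _ _ _).trans
      (LinearMap.rTensor_comp_lTensor _ _ _).symm) u').trans ?_
    show c.rTensor S.X₂ (S.f.hom.lTensor Y u') = 0
    rw [hu, ← LinearMap.rTensor_comp_apply, hc, LinearMap.rTensor_zero, LinearMap.zero_apply])
  obtain ⟨u₀, rfl⟩ := (rTensor_exact S.X₁ (LinearMap.exact_map_mkQ_range φ)
    (Submodule.mkQ_surjective _) u').1 h2
  have h3 : w = S.f.hom.lTensor X u₀ := by
    apply Module.Flat.rTensor_preserves_injective_linearMap (M := S.X₂) φ hφ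
    rw [← hu]
    exact LinearMap.congr_fun ((LinearMap.lTensor_comp_rTensor _ _ _).trans
      (LinearMap.rTensor_comp_lTensor _ _ _).symm) u₀
  rw [h3]
  exact (lTensor_exact X hex hsurj).apply_apply_eq_zero u₀

/-- Tor amplitude read off a bounded above projective representative. -/
lemma torAmp_iff {K : Dual.D A} {P : DRing.Cx A} (hP : ∀ i, Module.Projective A (P.X i)) (b' : ℤ)
    (hb' : ∀ i, b' < i → IsZero (P.X i)) (e : DerivedCategory.Q.obj P ≅ K) (a b : ℤ) :
    DRing.HasTorAmplitudeIn A a b K ↔ TorVanish P a b := by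
  constructor
  · rintro ⟨F, hz, hF, ⟨φ⟩⟩ N i hi
    obtain ⟨f, hf⟩ := exists_Q_map_eq (P := PR A) (PR.lift A) P hP b' hb' F (e.hom ≫ φ.inv)
    haveI : QuasiIso f := by
      rw [← DerivedCategory.isIso_Q_map_iff_quasiIso, hf]
      infer_instance
    have hG : ∀ k, (mappingCone f).ExactAt k := fun k => by
      have hn : NQ (k - 1) f := ⟨fun l _ => inferInstance, inferInstance⟩
      exact hn.exactFrom k (by lia)
    have hfl : ∀ k, Module.Flat A ((mappingCone f).X k) := fun k => by
      haveI : Module.Flat A (P.X (k + 1)) := PR.toFL A (hP _)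
      haveI := hF k
      have h : Module.Flat A ((P.X (k + 1)) × (F.X k)) :=
        TFun.flat_middle (g := LinearMap.inl A (P.X (k + 1)) (F.X k))
          (f := LinearMap.snd A (P.X (k + 1)) (F.X k)) LinearMap.inl_injective
          Function.Exact.inl_snd LinearMap.snd_surjective
      exact (FL A).prop_of_iso (HomologicalComplex.homotopyCofiber.XIsoBiprod f k (k + 1) rfl ≪≫
        ModuleCat.biprodIsoProd _ _).symm (show FL A (ModuleCat.of A _) from h)
    have hT : NQ (i - 1) ((tcx N).map f) := by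
      rw [NQ_iff_exactFrom]
      exact fun k _ => (exactAt_tensor_of_acyclic _ hfl (max b' b) (fun l hl => by
        rw [CochainComplex.mappingCone.isZero_X_iff]
        exact ⟨hb' _ (by lia), hz _ (Or.inr (by lia))⟩) hG N k).of_iso
          (CochainComplex.mappingCone.mapHomologicalComplexIso f _)
    haveI := hT.1 i (by lia)
    rw [HomologicalComplex.exactAt_iff_isZero_homology]
    exact ((HomologicalComplex.exactAt_iff_isZero_homology _ i).1
      (ShortComplex.exact_of_isZero_X₂ (((tcx N).obj F).sc i)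
        (Functor.map_isZero ((tensoringLeft (ModuleCat.{u} A)).obj N) (hz i hi)))).of_iso
      (asIso (HomologicalComplex.homologyMap ((tcx N).map f) i))
  · intro h
    have hex : ∀ i, (i < a ∨ b < i) → P.ExactAt i := fun i hi =>
      exactAt_of_tensor_unit P i (h _ i hi)
    by_cases hab : a ≤ b
    · have hop : Module.Flat A (opcMod P a) := by
        have hS := opcSC_shortExact P (a - 1) a (by lia) (hex _ (Or.inl (by lia)))
        exact flat_quotient hS (PR.toFL A (hP a)) fun N =>
          (exactAt_tensor_iff P N (a - 1) a (by lia)).1 (h N _ (Or.inl (by lia)))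
      haveI : P.IsGE a := (CochainComplex.isGE_iff _ _).2 fun i hi => hex i (Or.inl hi)
      let P₁ := P.truncGE a
      let e₁ : DerivedCategory.Q.obj P₁ ≅ K :=
        (asIso (DerivedCategory.Q.map (P.πTruncGE a))).symm ≪≫ e
      have hP₁ : ∀ i, FL A (P₁.X i) := fun i => by
        rcases lt_trichotomy i a with h | rfl | h
        · exact (FL A).prop_of_isZero (P₁.isZero_of_isStrictlyGE a i h)
        · exact (FL A).prop_of_iso (opcModIso P i ≪≫ (P.truncGEXIsoOpcycles i).symm) hop
        · exact (FL A).prop_of_iso (P.truncGEXIso a i h).symm (PR.toFL A (hP i))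
      have hz₁ : ∀ i, max b' b < i → IsZero (P₁.X i) := fun i hi => by
        rcases lt_trichotomy i a with h | rfl | h
        · exact P₁.isZero_of_isStrictlyGE a i h
        · exact (IsZero.of_epi (P.pOpcycles i) (hb' i (by lia))).of_iso (P.truncGEXIsoOpcycles i)
        · exact (hb' i (by lia)).of_iso (P.truncGEXIso a i h)
      have hex₁ : ∀ i, b < i → P₁.ExactAt i := fun i hi => by
        rw [HomologicalComplex.exactAt_iff_isZero_homology]
        exact ((HomologicalComplex.exactAt_iff_isZero_homology _ _).1 (hex i (Or.inr hi))).of_iso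
          ((homologyQIso P₁ i).symm ≪≫ (DerivedCategory.homologyFunctor _ i).mapIso
            (e₁ ≪≫ e.symm) ≪≫ homologyQIso P i)
      haveI : P₁.IsLE b := (CochainComplex.isLE_iff _ _).2 hex₁
      have hZ : FL A (P₁.cycles b) := cycles_mem (FL.kernel A) P₁ (max b' b) b hz₁
        (fun i _ => hP₁ i) hex₁
      refine ⟨P₁.truncLE b, fun i hi => ?_, fun i => ?_,
        ⟨asIso (DerivedCategory.Q.map (P₁.ιTruncLE b)) ≪≫ e₁⟩⟩
      · rcases lt_trichotomy i b with h | rfl | h
        · exact (P₁.isZero_of_isStrictlyGE a i (by lia)).of_iso (P₁.truncLEXIso b i h)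
        · exact (IsZero.of_mono (P₁.iCycles i) (P₁.isZero_of_isStrictlyGE a i (by lia))).of_iso
            (P₁.truncLEXIsoCycles i)
        · exact (P₁.truncLE b).isZero_of_isStrictlyLE b i h
      · rcases lt_trichotomy i b with h | rfl | h
        · exact (FL A).prop_of_iso (P₁.truncLEXIso b i h).symm (hP₁ i)
        · exact (FL A).prop_of_iso (P₁.truncLEXIsoCycles i).symm hZ
        · exact (FL A).prop_of_isZero ((P₁.truncLE b).isZero_of_isStrictlyLE b i h)
    · have hzero : ∀ i, P.ExactAt i := fun i => hex i (by lia)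
      let Z : DRing.Cx A := 0
      haveI : QuasiIso (0 : P ⟶ Z) := ⟨fun i => by
        rw [quasiIsoAt_iff_exactAt _ _ (hzero i)]
        exact ShortComplex.exact_of_isZero_X₂ _
          ((HomologicalComplex.eval _ _ i).map_isZero (isZero_zero _))⟩
      exact ⟨Z, fun i _ => (HomologicalComplex.eval _ _ i).map_isZero (isZero_zero _),
        fun i => (FL A).prop_of_isZero ((HomologicalComplex.eval _ _ i).map_isZero (isZero_zero _)),
        ⟨(asIso (DerivedCategory.Q.map (0 : P ⟶ Z))).symm ≪≫ e⟩⟩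

lemma isLE_of_torAmp {K : Dual.D A} {a b : ℤ} (h : DRing.HasTorAmplitudeIn A a b K) : K.IsLE b := by
  obtain ⟨E, hz, -, ⟨e⟩⟩ := h
  exact (DerivedCategory.isLE_iff _ _).2 fun i hi =>
    ((HomologicalComplex.exactAt_iff_isZero_homology _ _).1
      (ShortComplex.exact_of_isZero_X₂ (E.sc i) (hz i (Or.inr hi)))).of_iso
      ((DerivedCategory.homologyFunctor _ i).mapIso e.symm ≪≫ homologyQIso E i)

lemma torAmp_mono {K : Dual.D A} {a b a' b' : ℤ} (h : DRing.HasTorAmplitudeIn A a b K) (ha : a' ≤ a)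
    (hb : b ≤ b') : DRing.HasTorAmplitudeIn A a' b' K := by
  obtain ⟨E, hz, hE, e⟩ := h
  exact ⟨E, fun i hi => hz i (by lia), hE, e⟩

lemma torAmp_of_iso {K L : Dual.D A} {a b : ℤ} (h : DRing.HasTorAmplitudeIn A a b K) (e : K ≅ L) :
    DRing.HasTorAmplitudeIn A a b L := by
  obtain ⟨E, hz, hE, ⟨φ⟩⟩ := h
  exact ⟨E, hz, hE, ⟨φ ≪≫ e⟩⟩

lemma torAmp_shift {K : Dual.D A} {a b : ℤ} (h : DRing.HasTorAmplitudeIn A a b K) (k a' b' : ℤ)
    (ha : a' + k ≤ a) (hb : b ≤ b' + k) :
    DRing.HasTorAmplitudeIn A a' b' ((shiftFunctor (Dual.D A) k).obj K) := by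
  obtain ⟨E, hz, hE, ⟨φ⟩⟩ := h
  exact ⟨(shiftFunctor (CochainComplex (ModuleCat.{u} A) ℤ) k).obj E,
    fun i hi => hz (i + k) (by lia), fun i => hE (i + k),
    ⟨(DerivedCategory.Q.commShiftIso k).app E ≪≫ (shiftFunctor _ k).mapIso φ⟩⟩

/-- Two out of three, the cone. -/
lemma torAmp_triangle₃ {T : Triangle (Dual.D A)} (hT : T ∈ distinguishedTriangles) {a b : ℤ}
    (h₁ : DRing.HasTorAmplitudeIn A (a + 1) (b + 1) T.obj₁)
    (h₂ : DRing.HasTorAmplitudeIn A a b T.obj₂) :
    DRing.HasTorAmplitudeIn A a b T.obj₃ := by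
  haveI := isLE_of_torAmp h₁
  haveI := isLE_of_torAmp h₂
  obtain ⟨P, hP, hPz, ⟨e⟩⟩ := exists_projective_rep A T.obj₁ (b + 1)
  obtain ⟨R, hR, hRz, ⟨r⟩⟩ := exists_projective_rep A T.obj₂ b
  obtain ⟨f, hf⟩ := exists_Q_map_eq (P := PR A) (PR.lift A) P hP (b + 1) hPz R
    (e.hom ≫ T.mor₁ ≫ r.inv)
  have hcone : DerivedCategory.Q.mapTriangle.obj (CochainComplex.mappingCone.triangle f) ∈
      distinguishedTriangles :=
    (DerivedCategory.mem_distTriang_iff _).2 ⟨P, R, f, ⟨Iso.refl _⟩⟩
  let ε := isoTriangleOfIso₁₂ _ _ hcone hT e r (by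
    show DerivedCategory.Q.map f ≫ r.hom = e.hom ≫ T.mor₁
    simp [hf])
  have hG : ∀ i, Module.Projective A ((mappingCone f).X i) := fun i =>
    (PR A).prop_of_iso (HomologicalComplex.homotopyCofiber.XIsoBiprod f i (i + 1) rfl).symm
      (mem_biprod (PR.sum A) (hP _) (hR i))
  refine (torAmp_iff hG b (fun i hi => ?_) (Triangle.π₃.mapIso ε) a b).2 fun N i hi => ?_
  · rw [CochainComplex.mappingCone.isZero_X_iff]
    exact ⟨hPz _ (by lia), hRz i hi⟩
  have v₁ := (torAmp_iff hP (b + 1) hPz e _ _).1 h₁ N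
  have v₂ := (torAmp_iff hR b hRz r _ _).1 h₂ N
  refine HomologicalComplex.ExactAt.of_iso ?_
    (CochainComplex.mappingCone.mapHomologicalComplexIso f _).symm
  rw [HomologicalComplex.exactAt_iff_isZero_homology]
  have hT' : DerivedCategory.Q.mapTriangle.obj
      (CochainComplex.mappingCone.triangle ((tcx N).map f)) ∈ distinguishedTriangles :=
    (DerivedCategory.mem_distTriang_iff _).2 ⟨_, _, _, ⟨Iso.refl _⟩⟩
  refine ((DerivedCategory.HomologySequence.exact₃ _ hT' i (i + 1) rfl).isZero_of_both_zeros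
    ?_ ?_).of_iso (homologyQIso _ i).symm
  · exact (((HomologicalComplex.exactAt_iff_isZero_homology _ _).1 (v₂ i hi)).of_iso
      (homologyQIso _ i)).eq_of_src _ _
  · exact (((HomologicalComplex.exactAt_iff_isZero_homology _ _).1 (v₁ (i + 1) (by lia))).of_iso
      (homologyQIso _ (i + 1))).eq_of_tgt _ _

lemma torAmp_triangle₂ {T : Triangle (Dual.D A)} (hT : T ∈ distinguishedTriangles) {a b : ℤ}
    (h₁ : DRing.HasTorAmplitudeIn A a b T.obj₁) (h₃ : DRing.HasTorAmplitudeIn A a b T.obj₃) :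
    DRing.HasTorAmplitudeIn A a b T.obj₂ :=
  torAmp_triangle₃ (inv_rot_of_distTriang _ hT) (torAmp_shift h₃ (-1) _ _ (by lia) (by lia)) h₁

lemma torAmp_triangle₁ {T : Triangle (Dual.D A)} (hT : T ∈ distinguishedTriangles) {a b : ℤ}
    (h₂ : DRing.HasTorAmplitudeIn A a b T.obj₂)
    (h₃ : DRing.HasTorAmplitudeIn A (a - 1) (b - 1) T.obj₃) :
    DRing.HasTorAmplitudeIn A a b T.obj₁ :=
  torAmp_of_iso (torAmp_shift (torAmp_triangle₃ (rot_of_distTriang _ hT)
      (a := a - 1) (b := b - 1) (torAmp_mono h₂ (by lia) (by lia)) h₃) (-1) a b (by lia) (by lia))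
    ((shiftFunctorCompIsoId (Dual.D A) (1 : ℤ) (-1) (by lia)).app _)

end Groth.Agent.DRingPC
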