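import Groth.Agent.DRingPC.Perfect
import Groth.Agent.TFun.Flat
import Mathlib.RingTheory.Flat.EquationalCriterion

/-!
Perfect amplitude = pseudo-coherence + flat amplitude.
-/

set_option autoImplicit false
set_option linter.style.haveILetI false
universe u

open CategoryTheory CategoryTheory.Limits CategoryTheory.Pretriangulated Groth.Agent.PCohLib
open CochainComplex (mappingCone)

attribute [local instance] HasDerivedCategory.standard

namespace Groth.Agent.DRingPC

variable (A : Type u) [CommRing A]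

/-- Flat modules. -/
def FL : ObjectProperty (ModuleCat.{u} A) := fun M => Module.Flat A M

instance : (FL A).IsClosedUnderIsomorphisms where
  of_iso e h := by
    haveI : Module.Flat A _ := h
    exact Module.Flat.of_linearEquiv e.toLinearEquiv.symm

instance : (FL A).ContainsZero where
  exists_zero := ⟨ModuleCat.of A PUnit.{u + 1}, ModuleCat.isZero_of_subsingleton _,
    inferInstanceAs (Module.Flat A PUnit.{u + 1})⟩

lemma FL.kernel (E F : ModuleCat.{u} A) (f : E ⟶ F) (hf : Epi f) (hE : FL A E) (hF : FL A F) :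
    FL A (kernel f) := by
  haveI : Module.Flat A E := hE
  haveI : Module.Flat A F := hF
  exact (FL A).prop_of_iso (ModuleCat.kernelIsoKer f).symm
    (TFun.flat_left (g := (LinearMap.ker f.hom).subtype) Subtype.val_injective
      (LinearMap.exact_subtype_ker_map f.hom) ((ModuleCat.epi_iff_surjective f).1 hf))

variable {A}

lemma flat_of_FPj {M : ModuleCat.{u} A} (h : FPj A M) : FL A M :=
  haveI := h.2
  Module.Flat.of_projective

lemma finitePresentation_opcycles (E : DRing.Cx A) (hE : ∀ i, FPj A (E.X i)) (m : ℤ) :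
    Module.FinitePresentation A (E.opcycles m) := by
  haveI := (hE m).1
  haveI := (hE m).2
  haveI := (hE (m - 1)).1
  haveI : Module.FinitePresentation A (E.X m) := Module.finitePresentation_of_projective A _
  refine Module.finitePresentation_of_surjective (E.pOpcycles m).hom
    ((ModuleCat.epi_iff_surjective _).1 inferInstance) ?_
  have h := (ShortComplex.moduleCat_exact_iff_range_eq_ker _).1
    (ShortComplex.exact_of_g_is_cokernel
      (ShortComplex.mk _ _ (E.d_pOpcycles (m - 1) m))
      (E.opcyclesIsCokernel (m - 1) m (by simp)))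
  rw [show LinearMap.ker (E.pOpcycles m).hom = LinearMap.range (E.d (m - 1) m).hom from h.symm,
    LinearMap.range_eq_map]
  exact Module.Finite.fg_top.map _

/-- A complex of flat modules in degrees `≥ m` under a complex of projectives, with a cone exact in
degrees `≥ m - 1`: the opcycles in degree `m` are flat. -/
lemma flat_opcycles {E F : DRing.Cx A} (f : E ⟶ F) (m b : ℤ) (hE : ∀ i, FPj A (E.X i))
    (hF : ∀ i, Module.Flat A (F.X i)) (hlow : ∀ i, i < m → IsZero (F.X i))
    (hEb : ∀ i, b < i → IsZero (E.X i)) (hFb : ∀ i, b < i → IsZero (F.X i))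
    (hf : NQ (m - 1) f) : Module.Flat A (E.opcycles m) := by
  let G := mappingCone f
  have hex : ExactFrom (m - 1) G := hf.exactFrom
  have hfl : ∀ i, m ≤ i → FL A (G.X i) := fun i _ => by
    haveI : Module.Flat A (E.X (i + 1)) := flat_of_FPj (hE _)
    haveI := hF i
    have h : Module.Flat A ((E.X (i + 1)) × (F.X i)) :=
      TFun.flat_middle (g := LinearMap.inl A (E.X (i + 1)) (F.X i))
        (f := LinearMap.snd A (E.X (i + 1)) (F.X i)) LinearMap.inl_injective
        Function.Exact.inl_snd LinearMap.snd_surjective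
    exact (FL A).prop_of_iso
      (HomologicalComplex.homotopyCofiber.XIsoBiprod f i (i + 1) rfl ≪≫
        ModuleCat.biprodIsoProd _ _).symm (show FL A (ModuleCat.of A _) from h)
  have hZ : FL A (G.cycles m) := cycles_mem (FL.kernel A) G b m (fun i hi => by
      rw [CochainComplex.mappingCone.isZero_X_iff]
      exact ⟨hEb _ (by lia), hFb i hi⟩) hfl (fun i hi => hex i (by lia))
  have ex : (ShortComplex.mk (G.d (m - 2) (m - 1)) (G.toCycles (m - 1) m)
      (by simp)).Exact := by
    have h := hex (m - 1) le_rfl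
    rw [G.exactAt_iff' (m - 2) (m - 1) m (by simp; lia) (by simp)] at h
    let φ : ShortComplex.mk (G.d (m - 2) (m - 1)) (G.toCycles (m - 1) m)
        (by simp) ⟶ G.sc' (m - 2) (m - 1) m :=
      { τ₁ := 𝟙 _, τ₂ := 𝟙 _, τ₃ := G.iCycles m
        comm₁₂ := (Category.id_comp _).trans (Category.comp_id _).symm
        comm₂₃ := (Category.id_comp _).trans (G.toCycles_i (m - 1) m).symm }
    haveI : Epi φ.τ₁ := show Epi (𝟙 _) from inferInstance
    haveI : IsIso φ.τ₂ := show IsIso (𝟙 _) from inferInstance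
    haveI : Mono φ.τ₃ := show Mono (G.iCycles m) from inferInstance
    exact (ShortComplex.exact_iff_of_epi_of_isIso_of_mono φ).2 h
  haveI : Epi (G.toCycles (m - 1) m) := by
    have h := ShortComplex.exact_of_g_is_cokernel
      (ShortComplex.mk _ _ (G.toCycles_comp_homologyπ (m - 1) m))
      (G.homologyIsCokernel (m - 1) m (by simp))
    rw [ShortComplex.exact_iff_epi _ ((hex m (by lia)).isZero_homology.eq_of_tgt _ _)] at h
    exact h
  let e₁ : G.cycles m ≅ cokernel (G.d (m - 2) (m - 1)) :=
    ex.gIsCokernel.coconePointUniqueUpToIso (colimit.isColimit _)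
  have iso : ∀ i j : ℤ, ∀ (h : i + 1 = j), i < m →
      IsIso ((CochainComplex.mappingCone.fst f).1.v i j h) := fun i j h hi => by
    refine ⟨(CochainComplex.mappingCone.inl f).v j i (by lia), ?_, by simp⟩
    apply CochainComplex.mappingCone.ext_from f j i h
    · simp
    · exact (hlow i hi).eq_of_src _ _
  haveI := iso (m - 2) (m - 1) (by lia) (by lia)
  haveI := iso (m - 1) m (by lia) (by lia)
  haveI : IsIso (-(CochainComplex.mappingCone.fst f).1.v (m - 1) m (by lia)) :=
    ⟨-inv ((CochainComplex.mappingCone.fst f).1.v (m - 1) m _), by simp, by simp⟩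
  let e₂ : cokernel (G.d (m - 2) (m - 1)) ≅ cokernel (E.d (m - 1) m) :=
    cokernel.mapIso _ _ (asIso ((CochainComplex.mappingCone.fst f).1.v (m - 2) (m - 1) _))
      (asIso (-(CochainComplex.mappingCone.fst f).1.v (m - 1) m _))
      (by simp [G, CochainComplex.mappingCone.d_fst_v f (m - 2) (m - 1) m (by lia) (by lia)])
  let e₃ : cokernel (E.d (m - 1) m) ≅ E.opcycles m :=
    (colimit.isColimit _).coconePointUniqueUpToIso (E.opcyclesIsCokernel (m - 1) m (by simp))
  exact (FL A).prop_of_iso (e₁ ≪≫ e₂ ≪≫ e₃) hZ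

/-- S5611, the hard direction. -/
lemma exists_amplitude_rep {K : Dual.D A} {m n : ℤ} (hmn : m ≤ n)
    (hK : DRing.IsPseudoCoherent A (m - 1) K) (hT : DRing.HasTorAmplitudeIn A m n K) :
    ∃ E : DRing.Cx A, DRing.VanishesOutside E m n ∧ DRing.TermwiseFiniteProjective E ∧
      Nonempty (DRing.toD E ≅ K) := by
  obtain ⟨E, a, b, α, hzE, hE, hiso, hepi⟩ := hK
  obtain ⟨F, hzF, hF, ⟨φ⟩⟩ := hT
  obtain ⟨f, hf⟩ := exists_Q_map_eq (P := FPj A) (FPj.lift A) E (fun i => FF.toFPj A (hE i)) b
    (fun i hi => hzE i (Or.inr hi)) F (α ≫ φ.inv)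
  have hfi : ∀ i, m ≤ i → IsIso (HomologicalComplex.homologyMap f i) := fun i hi => by
    haveI := hiso i (by lia)
    rw [← isIso_homologyMap_Q_iff, hf, Functor.map_comp]
    infer_instance
  have hNQ : NQ (m - 1) f := ⟨fun i hi => hfi i (by lia), by
    haveI := hepi
    rw [← epi_homologyMap_Q_iff, hf, Functor.map_comp]
    exact epi_comp _ _⟩
  have hfl := flat_opcycles f m (max b n) (fun i => FF.toFPj A (hE i)) hF
    (fun i hi => hzF i (Or.inl hi)) (fun i hi => hzE i (Or.inr (by lia)))
    (fun i hi => hzF i (Or.inr (by lia))) hNQ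
  haveI : Module.Flat A (E.opcycles m) := hfl
  haveI := finitePresentation_opcycles E (fun i => FF.toFPj A (hE i)) m
  have hop : FPj A (E.opcycles m) :=
    ⟨inferInstance, Module.Flat.projective_of_finitePresentation⟩
  haveI : F.IsStrictlyGE m := (CochainComplex.isStrictlyGE_iff _ _).2 fun i hi => hzF i (Or.inl hi)
  haveI : QuasiIso (CochainComplex.truncGEMap f m) :=
    (CochainComplex.quasiIso_truncGEMap_iff f m).2 fun i hi =>
      (quasiIsoAt_iff_isIso_homologyMap f i).2 (hfi i hi)
  let E₁ := E.truncGE m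
  have hE₁ : ∀ i, FPj A (E₁.X i) := fun i => by
    rcases lt_trichotomy i m with h | rfl | h
    · exact (FPj A).prop_of_isZero (E₁.isZero_of_isStrictlyGE m i h)
    · exact (FPj A).prop_of_iso (E.truncGEXIsoOpcycles i).symm hop
    · exact (FPj A).prop_of_iso (E.truncGEXIso m i h).symm (FF.toFPj A (hE i))
  have hzE₁ : ∀ i, i < m ∨ max b m < i → IsZero (E₁.X i) := fun i hi => by
    rcases hi with h | h
    · exact E₁.isZero_of_isStrictlyGE m i h
    · exact (hzE i (Or.inr (by lia))).of_iso (E.truncGEXIso m i (by lia))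
  let e : DRing.toD E₁ ≅ K :=
    asIso (DerivedCategory.Q.map (CochainComplex.truncGEMap f m)) ≪≫
      (asIso (DerivedCategory.Q.map (F.πTruncGE m))).symm ≪≫ φ
  have hcoh : ∀ i, n < i → IsZero (E₁.homology i) := fun i hi => by
    refine IsZero.of_iso ?_ ((homologyQIso E₁ i).symm ≪≫
      (DerivedCategory.homologyFunctor _ i).mapIso (e ≪≫ φ.symm) ≪≫ homologyQIso F i)
    have h : F.ExactAt i := ShortComplex.exact_of_isZero_X₂ (F.sc i) (hzF i (Or.inr hi))
    exact h.isZero_homology
  obtain ⟨E', hE', hz', ⟨e'⟩⟩ := exists_truncLE_rep (P := FPj A) (FPj.lift A) (FPj.kernel A)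
    (FPj.sum A) m n (max b m) hmn E₁ hE₁ hzE₁ hcoh
  exact ⟨E', fun i hi => hz' i (by lia), hE', ⟨e' ≪≫ e⟩⟩

lemma amplitude_rep_conv {K : Dual.D A} {m n : ℤ} {E : DRing.Cx A}
    (hz : DRing.VanishesOutside E m n) (hE : DRing.TermwiseFiniteProjective E)
    (e : DRing.toD E ≅ K) :
    (∀ k, DRing.IsPseudoCoherent A k K) ∧ DRing.HasTorAmplitudeIn A m n K :=
  ⟨fun k => (isPC_iff_NPC A k K).2 ((NPC_FPj_iff k K).1
    (NPC.mk ⟨⟨n, fun i hi => hz i (Or.inr hi)⟩, fun i _ => hE i⟩ e)),
    E, hz, fun i => flat_of_FPj (hE i), ⟨e⟩⟩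

end Groth.Agent.DRingPC
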