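import Groth.Agent.DRingPC.Basic
import Groth.Agent.PCohLib.Coherent
import Mathlib.Algebra.Module.FinitePresentation
import Mathlib.RingTheory.Noetherian.Basic

/-!
Pseudo-coherent modules over a commutative ring.
-/

set_option autoImplicit false
set_option linter.style.haveILetI false
universe u

open CategoryTheory CategoryTheory.Limits CategoryTheory.Pretriangulated Groth.Agent.PCohLib

attribute [local instance] HasDerivedCategory.standard

namespace Groth.Agent.DRingPC

variable {A : Type u} [CommRing A]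

lemma isPCModule_iff (m : ℤ) (M : Type u) [AddCommGroup M] [Module A M] :
    DRing.IsPseudoCoherentModule A m M ↔
      NPC (FF A) m ((DerivedCategory.singleFunctor _ 0).obj (ModuleCat.of A M)) :=
  isPC_iff_NPC A m _

lemma isPCModule'_iff (M : Type u) [AddCommGroup M] [Module A M] :
    DRing.IsPseudoCoherentModule' A M ↔
      ∀ m, NPC (FF A) m ((DerivedCategory.singleFunctor _ 0).obj (ModuleCat.of A M)) :=
  isPC'_iff A _

lemma finite_zero (M : ModuleCat.{u} A) (m : ℤ) (h : IsZero M) :
    NPC (FF A) m ((DerivedCategory.singleFunctor _ 0).obj M) := by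
  haveI : ((DerivedCategory.singleFunctor (ModuleCat.{u} A) 0).obj M).IsLE (m - 1) :=
    (DerivedCategory.isLE_iff _ _).2 fun j _ =>
      Functor.map_isZero _ (Functor.map_isZero _ h)
  exact NPC_of_isLE _ (b := m - 1) (by lia)

lemma NPC_negOne_inD_iff (M : ModuleCat.{u} A) :
    NPC (FF A) (-1) ((DerivedCategory.singleFunctor _ 0).obj M) ↔ Module.FinitePresentation A M := by
  constructor
  · intro h
    haveI : Module.Finite A M := (NPC_zero_inD_iff M).1 (h.mono (by lia))
    obtain ⟨E, π, hE, hπ⟩ := (ft_FF_iff A M).2 inferInstance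
    let S := ShortComplex.mk (kernel.ι π) π (kernel.condition π)
    have hS : S.ShortExact :=
      { exact := ShortComplex.exact_of_f_is_kernel S (kernelIsKernel π) }
    have hR := NPC.of_triangle₁ (FF.sum A) (FF.qs A) (FF.ql A) hS.singleTriangle_distinguished
      (n := -1) (NPC_single_of_mem hE _) h
    haveI : Module.Finite A ↑(kernel π) := (NPC_zero_inD_iff _).1 hR
    haveI := hE.1
    haveI := hE.2
    haveI : Module.FinitePresentation A E :=
      haveI : Module.Projective A E := Module.Projective.of_free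
      Module.finitePresentation_of_projective A E
    refine Module.finitePresentation_of_surjective π.hom ((ModuleCat.epi_iff_surjective π).1 hπ) ?_
    rw [← Module.Finite.iff_fg]
    exact Module.Finite.equiv (ModuleCat.kernelIsoKer π).toLinearEquiv
  · intro h
    obtain ⟨E, π, hE, hπ⟩ := (ft_FF_iff A M).2 inferInstance
    let S := ShortComplex.mk (kernel.ι π) π (kernel.condition π)
    have hS : S.ShortExact :=
      { exact := ShortComplex.exact_of_f_is_kernel S (kernelIsKernel π) }
    haveI := hE.1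
    haveI : Module.Finite A ↥(LinearMap.ker π.hom) :=
      Module.Finite.iff_fg.2 (Module.FinitePresentation.fg_ker π.hom ((ModuleCat.epi_iff_surjective π).1 hπ))
    haveI : Module.Finite A ↑(kernel π) :=
      Module.Finite.equiv (ModuleCat.kernelIsoKer π).symm.toLinearEquiv
    exact NPC.of_triangle₃ (FF.sum A) (FF.qs A) (FF.ql A) hS.singleTriangle_distinguished
      (n := -1) ((NPC_zero_inD_iff _).2 (by assumption)) (NPC_single_of_mem hE _)

lemma NPC_of_finite_projective {M : ModuleCat.{u} A} (h : FPj A M) (m : ℤ) :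
    NPC (FF A) m ((DerivedCategory.singleFunctor _ 0).obj M) := by
  haveI := h.1; haveI := h.2
  obtain ⟨E, π, hE, hπ⟩ := (ft_FF_iff A M).2 inferInstance
  haveI := FPj.lift A E M π hπ h
  let S := ShortComplex.mk (kernel.ι π) π (kernel.condition π)
  have hS : S.ShortExact :=
    { exact := ShortComplex.exact_of_f_is_kernel S (kernelIsKernel π) }
  let s := ShortComplex.Splitting.ofExactOfSection S hS.exact (section_ π) (IsSplitEpi.id _) hS.mono_f
  haveI : PreservesBinaryBiproducts (DerivedCategory.singleFunctor (ModuleCat.{u} A) 0) :=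
    preservesBinaryBiproducts_of_preservesBiproducts _
  exact (NPC.of_biprod (FF.sum A) (FF.qs A) (FF.ql A)
    ((NPC_single_of_mem hE m).of_iso ((DerivedCategory.singleFunctor _ 0).mapIso s.isoBinaryBiproduct ≪≫
      (DerivedCategory.singleFunctor _ 0).mapBiprod _ _))).2

lemma FPj_isPC {M : ModuleCat.{u} A} (h : FPj A M) :
    PCoh.IsPC (FF A) ((DerivedCategory.singleFunctor _ 0).obj M) :=
  fun m => NPC_of_finite_projective h m

/-- Pseudo-coherence may be computed with finite projective modules. -/
lemma NPC_FPj_iff (m : ℤ) (K : Dual.D A) : NPC (FPj A) m K ↔ NPC (FF A) m K := by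
  constructor
  · rintro ⟨E, hE, ⟨e⟩⟩
    exact (NPC_of_strict_larger (FF.sum A) (FF.qs A) (FF.ql A) (fun _ h => FPj_isPC h) hE).of_iso e
  · rintro ⟨E, ⟨hb, hE⟩, he⟩
    exact ⟨E, ⟨hb, fun i hi => FF.toFPj A (hE i hi)⟩, he⟩

lemma precoh_of_noetherian [IsNoetherianRing A] (M : ModuleCat.{u} A) : Precoh (FF A) M :=
  fun E f hE => by
    haveI := hE.1
    exact (ft_FF_iff A _).2 (Module.Finite.equiv (ModuleCat.kernelIsoKer f).symm.toLinearEquiv)

lemma coh_iff_finite [IsNoetherianRing A] (M : ModuleCat.{u} A) :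
    Coh (FF A) M ↔ Module.Finite A M :=
  ⟨fun h => (ft_FF_iff A M).1 h.1, fun h => ⟨(ft_FF_iff A M).2 h, precoh_of_noetherian M⟩⟩

lemma NPC_iff_finite_of_noetherian [IsNoetherianRing A] (m : ℤ) (K : Dual.D A) :
    NPC (FF A) m K ↔
      (∃ b : ℤ, ∀ i : ℤ, b < i → Subsingleton (Dual.HD A K i)) ∧
        ∀ i : ℤ, m ≤ i → Module.Finite A (Dual.HD A K i) := by
  constructor
  · intro h
    obtain ⟨b, hb⟩ := h.isLE
    have := (NPC_iff_coh (FF.sum A) (FF.ql A) (fun X _ => precoh_of_noetherian X) m K b).1 h
    refine ⟨⟨b, fun i hi => (subsingleton_iff_isZero _).2 (K.isZero_of_isLE b i hi)⟩, fun i hi => ?_⟩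
    rcases hi.eq_or_lt with rfl | hi
    · exact (ft_FF_iff A _).1 this.1
    · exact (coh_iff_finite _).1 (this.2 i hi)
  · rintro ⟨⟨b, hb⟩, h⟩
    haveI := isLE_of_subsingleton hb
    exact (NPC_iff_coh (FF.sum A) (FF.ql A) (fun X _ => precoh_of_noetherian X) m K b).2
      ⟨(ft_FF_iff A _).2 (h m le_rfl), fun i hi => (coh_iff_finite _).2 (h i hi.le)⟩

end Groth.Agent.DRingPC
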