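import Groth.Agent.DRingPC.Nilpotent
import Groth.Prelude.Def_DDual2

/-!
The value of `DRing.LTensor` at K-flat complexes and its tor-amplitude consequences.
-/

set_option autoImplicit false
set_option linter.style.haveILetI false
universe u

open CategoryTheory CategoryTheory.Limits CategoryTheory.MonoidalCategory HomologicalComplex
open CategoryTheory.Pretriangulated Groth.Agent.PCohLib
open CochainComplex (mappingCone)

attribute [local instance] HasDerivedCategory.standard

namespace Groth.Agent.DRingPC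

variable {A : Type u} [CommRing A] (M : ModuleCat.{u} A)

/-- Termwise `- ⊗ M`. -/
noncomputable abbrev rtcx : DRing.Cx A ⥤ DRing.Cx A :=
  (tensorRight M).mapHomologicalComplex (ComplexShape.up ℤ)

/-- `- ⊗ M` on complexes, in `D(A)`. -/
noncomputable abbrev ΦT : DRing.Cx A ⥤ Dual.D A :=
  HomotopyCategory.quotient (ModuleCat.{u} A) (ComplexShape.up ℤ) ⋙ DRing.tensorKh A M

/-- `ΦT` is the termwise tensor product followed by localization. -/
noncomputable def ΦTIso : ΦT M ≅ rtcx M ⋙ DerivedCategory.Q :=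
  (Functor.associator _ _ _).symm ≪≫
    Functor.isoWhiskerRight ((tensorRight M).mapHomotopyCategoryFactors
      (ComplexShape.up ℤ)) DerivedCategory.Qh ≪≫
    Functor.associator _ _ _ ≪≫
      Functor.isoWhiskerLeft (rtcx M) (DerivedCategory.quotientCompQhIso (ModuleCat.{u} A))

/-- `P ⊗ M` against `single M ⊗ P`. -/
noncomputable def rtcxSingleIso (P : DRing.Cx A) :
    (rtcx M).obj P ≅ (HomologicalComplex.single _ (ComplexShape.up ℤ) 0).obj M ⊗ P :=
  KFlat.singleIso (curriedTensor (ModuleCat.{u} A)) P M ≪≫ DTen.braidCx P _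

lemma quasiIso_rtcx_of_kFlat {P Q : DRing.Cx A} (hP : DRing.IsKFlat A P) (hQ : DRing.IsKFlat A Q)
    (f : P ⟶ Q) (hf : QuasiIso f) : QuasiIso ((rtcx M).map f) := by
  have hC : DRing.IsKFlat A (mappingCone f) := KFlat.FlatR.mappingCone _ f hP hQ
  have hac : (mappingCone f).Acyclic := (LBC.acyclic_iff f).2 hf
  obtain ⟨Z, hZ0⟩ := HasZeroObject.zero (C := DRing.Cx A)
  have hZ : DRing.IsKFlat A Z := KFlat.FlatR.of_isZero _ hZ0
  haveI : QuasiIso (0 : Z ⟶ mappingCone f) := ⟨fun i => by
    rw [quasiIsoAt_iff_exactAt]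
    · exact hac i
    · exact (exactAt_iff_isZero_homology _ _).2 ((homologyFunctor _ _ i).map_isZero hZ0)⟩
  have h0 := KFlat.quasiIso_whiskerLeft_of_kFlat hZ hC (0 : Z ⟶ mappingCone f) inferInstance
    ((HomologicalComplex.single _ (ComplexShape.up ℤ) 0).obj M)
  rw [← LBC.acyclic_iff]
  intro i
  refine ExactAt.of_iso ?_ (CochainComplex.mappingCone.mapHomologicalComplexIso f (tensorRight M))
  rw [exactAt_iff_isZero_homology]
  have h1 : IsIso (homologyMap
      ((HomologicalComplex.single _ (ComplexShape.up ℤ) 0).obj M ◁ (0 : Z ⟶ mappingCone f)) i) :=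
    (quasiIsoAt_iff_isIso_homologyMap _ _).1 (h0.quasiIsoAt i)
  refine IsZero.of_iso ?_ ((homologyFunctor _ _ i).mapIso (rtcxSingleIso M _) ≪≫
    (@asIso _ _ _ _ _ h1).symm)
  exact (homologyFunctor _ _ i).map_isZero
    ((KFlat.tensR (curriedTensor (ModuleCat.{u} A)) _).map_isZero hZ0)

lemma res_inverts_tensor : (KFlat.res A).Inverts (ΦT M) := fun X Y f hX hY hf => by
  haveI : IsIso ((rtcx M ⋙ DerivedCategory.Q).map f) := KFlat.isIso_Q_map _
    (quasiIso_rtcx_of_kFlat M hX hY f ((mem_quasiIso_iff _).1 hf))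
  exact (NatIso.isIso_map_iff (ΦTIso M) f).2 inferInstance

/-- A right Kan extension along `Qh` gives one along `quotient ⋙ Qh`. -/
lemma isLeftDerived_quotient' (F : HomotopyCategory (ModuleCat.{u} A) (ComplexShape.up ℤ) ⥤ Dual.D A)
    (LF : Dual.D A ⥤ Dual.D A) (α : DerivedCategory.Qh ⋙ LF ⟶ F)
    [hLF : LF.IsLeftDerivedFunctor α (HomotopyCategory.quasiIso (ModuleCat.{u} A) (ComplexShape.up ℤ))] :
    LF.IsLeftDerivedFunctor (show LBC.L₀ ⋙ LF ⟶
        HomotopyCategory.quotient (ModuleCat.{u} A) (ComplexShape.up ℤ) ⋙ F from Functor.whiskerLeft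
      (HomotopyCategory.quotient (ModuleCat.{u} A) (ComplexShape.up ℤ)) α) (DTen.qis A) where
  isRightKanExtension := by
    refine ⟨⟨Limits.IsTerminal.ofUniqueHom (fun E => CostructuredArrow.homMk
      (LF.leftDerivedLift α (HomotopyCategory.quasiIso (ModuleCat.{u} A) (ComplexShape.up ℤ)) E.left
        (Quotient.natTransLift _ (E.hom : (LBC.L₀ (A := A)) ⋙ E.left ⟶
          HomotopyCategory.quotient _ _ ⋙ F)))
      (NatTrans.ext (funext fun X => ?_))) ?_⟩⟩
    · exact LF.leftDerived_fac_app α (HomotopyCategory.quasiIso (ModuleCat.{u} A) (ComplexShape.up ℤ))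
        E.left (Quotient.natTransLift _ (E.hom : (LBC.L₀ (A := A)) ⋙ E.left ⟶
          HomotopyCategory.quotient _ _ ⋙ F))
        ((HomotopyCategory.quotient (ModuleCat.{u} A) (ComplexShape.up ℤ)).obj X)
    · intro E m
      let m' : E.left ⟶ LF := m.left
      refine CostructuredArrow.hom_ext _ _ ?_
      haveI : LF.IsRightKanExtension α := hLF.isRightKanExtension
      refine LF.hom_ext_of_isRightKanExtension α m' _ (NatTrans.ext (funext fun X => ?_))
      obtain ⟨K⟩ := X
      refine (congrArg (fun t : NatTrans _ _ => t.app K) (CostructuredArrow.w m)).trans ?_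
      exact (LF.leftDerived_fac_app α
        (HomotopyCategory.quasiIso (ModuleCat.{u} A) (ComplexShape.up ℤ))
        E.left (Quotient.natTransLift _ (E.hom : (LBC.L₀ (A := A)) ⋙ E.left ⟶
          HomotopyCategory.quotient _ _ ⋙ F))
        ((HomotopyCategory.quotient (ModuleCat.{u} A) (ComplexShape.up ℤ)).obj K)).symm

variable [DRing.HasLTensor A M]

/-- The counit of the derived tensor product on complexes. -/
noncomputable def counitT : LBC.L₀ ⋙ DRing.LTensor A M ⟶ ΦT M :=
  Functor.whiskerLeft (HomotopyCategory.quotient (ModuleCat.{u} A) (ComplexShape.up ℤ))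
    ((DRing.tensorKh A M).totalLeftDerivedCounit DerivedCategory.Qh
      (HomotopyCategory.quasiIso (ModuleCat.{u} A) (ComplexShape.up ℤ)))

/-- The derived tensor product of a K-flat complex is the termwise one. -/
noncomputable def ltensorValueIso (P : DRing.Cx A) (hP : DRing.IsKFlat A P) :
    (DRing.LTensor A M).obj (DRing.toD P) ≅ DRing.toD ((rtcx M).obj P) :=
  haveI : IsIso ((counitT M).app P) :=
    haveI : (DRing.LTensor A M).IsLeftDerivedFunctor (counitT M) (DTen.qis A) :=
      isLeftDerived_quotient' _ _ _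
    (KFlat.res A).isIso_counit LBC.L₀ (res_inverts_tensor M) (DRing.LTensor A M) (counitT M) P hP
  (DRing.LTensor A M).mapIso ((DerivedCategory.quotientCompQhIso (ModuleCat.{u} A)).app P).symm ≪≫
    asIso ((counitT M).app P) ≪≫ (ΦTIso M).app P

lemma subsingleton_LTensor_iff {K : Dual.D A} {P : DRing.Cx A} (hP : DRing.IsKFlat A P)
    (e : DerivedCategory.Q.obj P ≅ K) (i : ℤ) :
    Subsingleton (Dual.HD A ((DRing.LTensor A M).obj K) i) ↔ ((tcx M).obj P).ExactAt i := by
  rw [subsingleton_iff_isZero, exactAt_iff_isZero_homology]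
  exact ((DerivedCategory.homologyFunctor _ i).mapIso
    ((DRing.LTensor A M).mapIso e.symm ≪≫ ltensorValueIso M P hP) ≪≫ homologyQIso _ i ≪≫
      (homologyFunctor _ _ i).mapIso (rtcxSingleIso M P ≪≫ (tcxSingleIso M P).symm)).isZero_iff

section

variable {A : Type u} [CommRing A]

lemma exists_kFlat_rep (K : Dual.D A) : ∃ P : DRing.Cx A, DRing.IsKFlat A P ∧
    (∀ i, Module.Flat A (P.X i)) ∧ Nonempty (DerivedCategory.Q.obj P ≅ K) := by
  obtain ⟨P, q, hP, hfl, hq, -⟩ :=
    KFlat.exists_surjective_resolution A (DerivedCategory.Q.objPreimage K)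
  haveI := KFlat.isIso_Q_map q hq
  exact ⟨P, hP, hfl, ⟨asIso (DerivedCategory.Q.map q) ≪≫ DerivedCategory.Q.objObjPreimageIso K⟩⟩

/-- Tor amplitude read off a K-flat representative. -/
lemma torAmp_iff_kFlat {K : Dual.D A} {P : DRing.Cx A} (hP : DRing.IsKFlat A P)
    (e : DerivedCategory.Q.obj P ≅ K) (a b : ℤ) :
    DRing.HasTorAmplitudeIn A a b K ↔ TorVanish P a b := by
  have transfer : ∀ {b' : ℤ} {E : DRing.Cx A}, (∀ i, Module.Projective A (E.X i)) →
      (∀ i, b' < i → IsZero (E.X i)) → Nonempty (DerivedCategory.Q.obj E ≅ K) →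
      (TorVanish E a b ↔ TorVanish P a b) := fun {b' E} hE hz he => by
    obtain ⟨e'⟩ := he
    obtain ⟨f, hf⟩ := exists_Q_map_eq (P := PR A) (PR.lift A) E hE b' hz P (e' ≪≫ e.symm).hom
    haveI : QuasiIso f := by
      rw [← DerivedCategory.isIso_Q_map_iff_quasiIso, hf]; infer_instance
    exact forall_congr' fun N => forall_congr' fun i => forall_congr' fun _ =>
      exactAt_tensor_of_quasiIso (KFlat.isKFlat_of_boundedAbove b' hz fun j => PR.toFL A (hE j))
        hP f inferInstance N i
  constructor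
  · intro h
    obtain ⟨F, hz, -, ⟨φ⟩⟩ := id h
    haveI : K.IsLE b := (DerivedCategory.isLE_iff _ _).2 fun i hi => by
      refine IsZero.of_iso ?_ ((DerivedCategory.homologyFunctor _ i).mapIso φ.symm ≪≫ homologyQIso F i)
      rw [← exactAt_iff_isZero_homology]
      exact ShortComplex.exact_of_isZero_X₂ _ (hz i (Or.inr hi))
    obtain ⟨E, hE, hzE, ⟨eE⟩⟩ := exists_projective_rep A K b
    exact (transfer hE hzE ⟨eE⟩).1 ((torAmp_iff hE b hzE eE a b).1 h)
  · intro h
    haveI : K.IsLE b := (DerivedCategory.isLE_iff _ _).2 fun i hi => by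
      refine IsZero.of_iso ?_ ((DerivedCategory.homologyFunctor _ i).mapIso e.symm ≪≫ homologyQIso P i)
      rw [← exactAt_iff_isZero_homology]
      exact exactAt_of_tensor_unit P i (h _ i (Or.inr hi))
    obtain ⟨E, hE, hzE, ⟨eE⟩⟩ := exists_projective_rep A K b
    exact (torAmp_iff hE b hzE eE a b).2 ((transfer hE hzE ⟨eE⟩).2 h)

/-- Exactness after tensoring with modules over `S` from exactness above `c` of the base change. -/
lemma exactAt_tensor_of_above {S : Type u} [CommRing S] [Algebra A S] {P : DRing.Cx A}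
    (hP : DRing.IsKFlat A P) (c : ℤ) (h : ∀ i, c < i → ((tcx (ModuleCat.of A S)).obj P).ExactAt i)
    (N : Type u) [AddCommGroup N] [Module A N] [Module S N] [IsScalarTower A S N] (i : ℤ) (hi : c < i) :
    ((tcx (ModuleCat.of A N)).obj P).ExactAt i := by
  have hG : DRing.IsKFlat S ((LBC.ext (algebraMap A S)).obj P) := KFlat.isKFlat_ext _ hP
  haveI : (DRing.toD ((LBC.ext (algebraMap A S)).obj P)).IsLE c :=
    (DerivedCategory.isLE_iff _ _).2 fun j hj => by
      refine IsZero.of_iso ?_ (homologyQIso _ j)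
      rw [← exactAt_iff_isZero_homology]
      exact exactAt_of_tensor_unit _ j ((exactAt_tensor_cancel (S := S) S P j).2 (h j hj))
  obtain ⟨E, hE, hzE, ⟨eE⟩⟩ := exists_projective_rep S
    (DRing.toD ((LBC.ext (algebraMap A S)).obj P)) c
  obtain ⟨f, hf⟩ := exists_Q_map_eq (P := PR S) (PR.lift S) E hE c hzE _ eE.hom
  haveI : QuasiIso f := by
    rw [← DerivedCategory.isIso_Q_map_iff_quasiIso, hf]; infer_instance
  refine (exactAt_tensor_cancel (S := S) N P i).1 ((exactAt_tensor_of_quasiIso
    (KFlat.isKFlat_of_boundedAbove c hzE fun j => PR.toFL S (hE j)) hG f inferInstance _ i).1 ?_)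
  exact ShortComplex.exact_of_isZero_X₂ _
    ((tensorLeft (ModuleCat.of S N)).map_isZero (hzE i hi))

/-- Exactness after tensoring with vector spaces. -/
lemma exactAt_tensor_of_field {S : Type u} [Field S] [Algebra A S] {P : DRing.Cx A} (i : ℤ)
    (h : ((tcx (ModuleCat.of A S)).obj P).ExactAt i)
    (N : Type u) [AddCommGroup N] [Module A N] [Module S N] [IsScalarTower A S N] :
    ((tcx (ModuleCat.of A N)).obj P).ExactAt i := by
  have h1 := exactAt_of_tensor_unit _ i ((exactAt_tensor_cancel (S := S) S P i).2 h)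
  rw [← exactAt_tensor_cancel (S := S) N P i,
    exactAt_iff' _ (i - 1) i (i + 1) (by simp) (by simp),
    ShortComplex.ShortExact.moduleCat_exact_iff_function_exact]
  rw [exactAt_iff' _ (i - 1) i (i + 1) (by simp) (by simp),
    ShortComplex.ShortExact.moduleCat_exact_iff_function_exact] at h1
  exact Module.Flat.lTensor_exact N h1

end

end Groth.Agent.DRingPC
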