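import Groth.Agent.DRingPC.LTensorValue
import Groth.Prelude.Def_DRing4
import Mathlib.LinearAlgebra.TensorProduct.Finiteness
import Mathlib.RingTheory.TensorProduct.Finite
import Mathlib.Order.Interval.Finset.Basic
import Mathlib.Data.Int.Interval

/-!
The value of `DRing.LTensorCx` at K-flat complexes, and tensor products of bounded complexes of finite
projective modules.
-/

set_option autoImplicit false
set_option linter.style.haveILetI false
universe u

open CategoryTheory CategoryTheory.Limits CategoryTheory.MonoidalCategory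
open CategoryTheory.Pretriangulated Groth.Agent.PCohLib HomologicalComplex

attribute [local instance] HasDerivedCategory.standard

namespace Groth.Agent.DRingPC

variable {A : Type u} [CommRing A]

lemma quasiIso_whiskerRight_of_kFlat {P Q : DRing.Cx A} (hP : DRing.IsKFlat A P)
    (hQ : DRing.IsKFlat A Q) (f : P ⟶ Q) (hf : QuasiIso f) (L : DRing.Cx A) : QuasiIso (f ▷ L) := by
  haveI := KFlat.quasiIso_whiskerLeft_of_kFlat hP hQ f hf L
  have h : f ▷ L = (DTen.braidCx P L).hom ≫ (L ◁ f) ≫ (DTen.braidCx Q L).inv := by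
    rw [← Category.assoc, Iso.eq_comp_inv]
    have e := DTen.braidCx_naturality f (𝟙 L)
    rwa [MonoidalCategory.tensorHom_id, MonoidalCategory.id_tensorHom] at e
  rw [h]
  infer_instance

section

variable (L : DRing.Cx A) [DRing.HasLTensorCx A L]

/-- The derived tensor product with a complex at a K-flat complex. -/
noncomputable def ltensorCxValueIso (P : DRing.Cx A) (hP : DRing.IsKFlat A P) :
    (DRing.LTensorCx A L).obj (DRing.toD P) ≅ DRing.toD (P ⊗ L) :=
  let c := (DRing.tensorCxQ A L).totalLeftDerivedCounit DerivedCategory.Q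
    (HomologicalComplex.quasiIso (ModuleCat.{u} A) (ComplexShape.up ℤ))
  haveI : IsIso (c.app P) :=
    haveI : DerivedCategory.Q.IsLocalization (DTen.qis A) :=
      (inferInstance : DerivedCategory.Q.IsLocalization
        (HomologicalComplex.quasiIso (ModuleCat.{u} A) (ComplexShape.up ℤ)))
    (KFlat.res A).isIso_counit DerivedCategory.Q (fun X Y f hX hY hf =>
      KFlat.isIso_Q_map (f ▷ L) (quasiIso_whiskerRight_of_kFlat hX hY f ((mem_quasiIso_iff _).1 hf) L))
      (DRing.LTensorCx A L) c P hP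
  asIso (c.app P)

/-- The derived tensor product with a complex, with both arguments replaced. -/
lemma nonempty_ltensorCx_iso {K : Dual.D A} {P L' : DRing.Cx A} (hP : DRing.IsKFlat A P)
    (e : DerivedCategory.Q.obj P ≅ K) (g : L' ⟶ L) (hg : QuasiIso g) :
    Nonempty (DerivedCategory.Q.obj (P ⊗ L') ≅ (DRing.LTensorCx A L).obj K) := by
  haveI := KFlat.isIso_Q_map _ (KFlat.quasiIso_whiskerLeft hP g hg)
  exact ⟨asIso (DerivedCategory.Q.map (P ◁ g)) ≪≫ (ltensorCxValueIso L P hP).symm ≪≫
    (DRing.LTensorCx A L).mapIso e⟩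

end

lemma FPj_tensor {X Y : ModuleCat.{u} A} (hX : FPj A X) (hY : FPj A Y) : FPj A (X ⊗ Y) := by
  haveI := hX.1; haveI := hX.2; haveI := hY.1; haveI := hY.2
  exact ⟨(inferInstance : Module.Finite A (TensorProduct A X Y)),
    (inferInstance : Module.Projective A (TensorProduct A X Y))⟩

lemma FPj_biproduct {ι : Type} [Finite ι] (f : ι → ModuleCat.{u} A) [HasBiproduct f]
    (hf : ∀ i, FPj A (f i)) : FPj A (⨁ f) := by
  haveI : ∀ i, Module.Finite A (f i) := fun i => (hf i).1
  haveI : ∀ i, Module.Projective A (f i) := fun i => (hf i).2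
  haveI := Fintype.ofFinite ι
  haveI : Module.Projective A (∀ i, f i) :=
    Module.Projective.of_equiv (DirectSum.linearEquivFunOnFintype A ι fun i => f i)
  exact (FPj A).prop_of_iso (ModuleCat.biproductIsoPi f).symm
    ⟨(inferInstance : Module.Finite A (∀ i, f i)), (inferInstance : Module.Projective A (∀ i, f i))⟩

lemma FPj_of_retract {X Y : ModuleCat.{u} A} (r : X ⟶ Y) (s : Y ⟶ X) (h : r ≫ s = 𝟙 X)
    (hY : FPj A Y) : FPj A X := by
  haveI := hY.1; haveI := hY.2
  refine ⟨Module.Finite.of_surjective s.hom fun x => ⟨r x, ConcreteCategory.congr_hom h x⟩, ?_⟩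
  exact Module.Projective.of_split r.hom s.hom (congrArg ModuleCat.Hom.hom h)

lemma isZero_tensor_left {X : ModuleCat.{u} A} (h : IsZero X) (Y : ModuleCat.{u} A) :
    IsZero (((curriedTensor (ModuleCat.{u} A)).obj X).obj Y) :=
  (tensorRight Y).map_isZero h

lemma isZero_tensor_right (X : ModuleCat.{u} A) {Y : ModuleCat.{u} A} (h : IsZero Y) :
    IsZero (((curriedTensor (ModuleCat.{u} A)).obj X).obj Y) :=
  (tensorLeft X).map_isZero h

lemma isZero_tensorCx {P L : DRing.Cx A} (b₁ b₂ : ℤ) (hP : ∀ i, b₁ < i → IsZero (P.X i))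
    (hL : ∀ i, b₂ < i → IsZero (L.X i)) (n : ℤ) (hn : b₁ + b₂ < n) : IsZero ((P ⊗ L).X n) := by
  rw [IsZero.iff_id_eq_zero]
  refine mapBifunctor.hom_ext fun p q (hpq : p + q = n) => ?_
  refine IsZero.eq_of_src ?_ _ _
  by_cases hp : b₁ < p
  · exact isZero_tensor_left (hP p hp) _
  · exact isZero_tensor_right _ (hL q (by lia))

lemma FPj_tensorCx {P L : DRing.Cx A} (b₁ b₂ : ℤ) (hP : ∀ i, b₁ < i → IsZero (P.X i))
    (hL : ∀ i, b₂ < i → IsZero (L.X i)) (hP' : ∀ i, FPj A (P.X i)) (hL' : ∀ i, FPj A (L.X i))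
    (n : ℤ) : FPj A ((P ⊗ L).X n) := by
  let S : Type := {p : ℤ // p ∈ Finset.Icc (n - b₂) b₁}
  let f : S → ModuleCat.{u} A := fun p =>
    ((curriedTensor (ModuleCat.{u} A)).obj (P.X p.1)).obj (L.X (n - p.1))
  let s : (⨁ f) ⟶ (P ⊗ L).X n := biproduct.desc fun p =>
    ιMapBifunctor P L (curriedTensor (ModuleCat.{u} A)) (ComplexShape.up ℤ) p.1 (n - p.1) n (by
      show p.1 + (n - p.1) = n; lia)
  let r : (P ⊗ L).X n ⟶ ⨁ f := mapBifunctorDesc fun p q (hpq : p + q = n) =>
    if h : p ∈ Finset.Icc (n - b₂) b₁ then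
      eqToHom (by obtain rfl : q = n - p := (by lia); rfl) ≫ biproduct.ι f ⟨p, h⟩
    else 0
  refine FPj_of_retract r s (mapBifunctor.hom_ext fun p q (hpq : p + q = n) => ?_)
    (FPj_biproduct f fun p => FPj_tensor (hP' _) (hL' _))
  obtain rfl : q = n - p := by lia
  rw [ι_mapBifunctorDesc_assoc]
  refine Eq.trans ?_ (Category.comp_id _).symm
  by_cases h : p ∈ Finset.Icc (n - b₂) b₁
  · rw [dif_pos h]
    simp [s, f]
  · refine IsZero.eq_of_src ?_ _ _
    simp only [Finset.mem_Icc, not_and_or, not_le] at h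
    rcases h with h | h
    · exact isZero_tensor_right _ (hL _ (by lia))
    · exact isZero_tensor_left (hP _ h) _

end Groth.Agent.DRingPC
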