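import Groth.Agent.DRingPC.Generate
import Groth.Agent.DRingPC.TorAmp
import Groth.Agent.DQC.CompactFac
import Groth.Agent.TriH.DerivedCoproducts
import Groth.Agent.TriH.KInjExist
import Groth.Agent.FiltDerived.Main

/-!
# Compact objects of `D(A)` are the perfect objects
-/

set_option autoImplicit false
set_option linter.style.haveILetI false
set_option backward.isDefEq.respectTransparency false
set_option backward.isDefEq.respectTransparency.types false

universe u

open CategoryTheory CategoryTheory.Limits CategoryTheory.Pretriangulated ZeroObject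

attribute [local instance] HasDerivedCategory.standard

namespace Groth.Agent.DRingPC

open DQC.CompactFac PCohLib

variable {A : Type u} [CommRing A]

/-- The free object of rank one. -/
noncomputable abbrev oneD (A : Type u) [CommRing A] : Dual.D A :=
  DerivedCategory.Q.obj ((HomologicalComplex.single (ModuleCat.{u} A) (ComplexShape.up ℤ) 0).obj (ModuleCat.of A A))

/-- Maps into small sums factor through finite partial sums. -/
def CompactD (K : Dual.D A) : Prop :=
  ∀ (I : Type u) (M : I → Dual.D A) (c : Cofan M) (hc : IsColimit c) (g : K ⟶ c.pt), FinFac hc g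

theorem CompactD.of_iso {K L : Dual.D A} (e : K ≅ L) (h : CompactD K) : CompactD L := fun I M c hc g => by
  have := (h I M c hc (e.hom ≫ g)).comp hc e.inv
  rwa [e.inv_hom_id_assoc] at this

theorem CompactD.shift {K : Dual.D A} (h : CompactD K) (n : ℤ) : CompactD (K⟦n⟧) := fun I M c hc g =>
  finFac_of_adj (F := shiftFunctor (Dual.D A) n) (G := shiftFunctor (Dual.D A) (-n))
    (shiftEquiv (Dual.D A) n).toAdjunction hc
    (isColimitCofanMkObjOfIsColimit (shiftFunctor (Dual.D A) (-n)) M c.inj hc) g (h I _ _ _ _)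

theorem CompactD.ext₂ (T : Triangle (Dual.D A)) (hT : T ∈ distTriang _) (h₁ : CompactD T.obj₁) (h₃ : CompactD T.obj₃) :
    CompactD T.obj₂ := fun I M c hc g => finFac_ext₂ hc T hT (h₁ I M c hc) (h₃ I M c hc) g

theorem CompactD.fst {K L : Dual.D A} [HasBinaryBiproduct K L] (h : CompactD (K ⊞ L)) : CompactD K :=
  fun I M c hc g => by
    have := (h I M c hc (biprod.fst ≫ g)).comp hc biprod.inl
    rwa [biprod.inl_fst_assoc] at this

theorem hKinj (A : Type u) [CommRing A] (M : DRing.Cx A) :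
    ∃ (I : DRing.Cx A) (f : M ⟶ I), I.IsKInjective ∧ QuasiIso f :=
  (TriH.exists_kInjective_resolution M).imp fun _ ⟨f, h1, h2, _⟩ => ⟨f, h1, h2⟩

open CoproductsFromFiniteFiltered in
theorem finFac_module {I : Type u} {N : I → ModuleCat.{u} A} {c : Cofan N} (hc : IsColimit c)
    (g : ModuleCat.of A A ⟶ c.pt) : FinFac hc g := by
  classical
  let e₀ := hc.coconePointUniqueUpToIso (colimit.isColimit (Discrete.functor N))
  let d := finiteSubcoproductsCocone N
  have hd := isColimitFiniteSubproductsCocone N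
  obtain ⟨T, s, hs⟩ := Concrete.isColimit_exists_rep _ hd (e₀.hom (g (1 : A)))
  let F : Finset I := T.map ⟨Discrete.as, fun a b h => Discrete.ext h⟩
  refine ⟨F, ModuleCat.hom_ext (LinearMap.ext_ring ?_)⟩
  have hT : d.ι.app T ≫ e₀.inv ≫ e hc F = d.ι.app T ≫ e₀.inv := by
    refine Sigma.hom_ext _ _ fun t => ?_
    have ht : Sigma.ι _ t ≫ d.ι.app T ≫ e₀.inv = c.inj t.1.as := by
      rw [← Category.assoc]
      simp [d, finiteSubcoproductsCocone, e₀]
      rfl
    rw [← Category.assoc (d.ι.app T), ← Category.assoc (Sigma.ι _ t), ht]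
    exact inj_e_of_mem hc (Finset.mem_map.2 ⟨t.1, t.2, rfl⟩)
  have hg : g (1 : A) = (d.ι.app T ≫ e₀.inv) s := by
    have h1 : e₀.inv (e₀.hom (g (1 : A))) = g (1 : A) :=
      ConcreteCategory.congr_hom e₀.hom_inv_id (g (1 : A))
    rw [← h1, ← hs]
    rfl
  show e hc F (g (1 : A)) = g (1 : A)
  rw [hg]
  exact ConcreteCategory.congr_hom hT s

theorem compactD_oneD : CompactD (oneD A) := by
  classical
  intro I M c hc g
  let L : I → DRing.Cx A := fun t => DerivedCategory.Q.objPreimage (M t)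
  let φ : ∀ t, DerivedCategory.Q.obj (L t) ≅ M t := fun t => DerivedCategory.Q.objObjPreimageIso (M t)
  let A₀ : DRing.Cx A := (HomologicalComplex.single (ModuleCat.{u} A) (ComplexShape.up ℤ) 0).obj (ModuleCat.of A A)
  obtain ⟨hQ⟩ := TriH.isColimit_Q_cofan (hKinj A) L
  let cL : Cofan L := Cofan.mk (∐ L) (Sigma.ι L)
  have hcL : IsColimit cL := coproductIsCoproduct L
  let u : DerivedCategory.Q.obj (∐ L) ⟶ c.pt := Cofan.IsColimit.desc hQ fun t => (φ t).hom ≫ c.inj t
  let v : c.pt ⟶ DerivedCategory.Q.obj (∐ L) :=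
    Cofan.IsColimit.desc hc fun t => (φ t).inv ≫ DerivedCategory.Q.map (Sigma.ι L t)
  haveI : A₀.IsKProjective := by
    haveI : ∀ n, Projective (A₀.X n) := fun n => by
      by_cases hn : n = 0
      · subst hn
        exact Projective.of_iso (HomologicalComplex.singleObjXSelf (ComplexShape.up ℤ) 0 (ModuleCat.of A A)).symm inferInstance
      · exact Projective.of_iso (HomologicalComplex.isZero_single_obj_X (ComplexShape.up ℤ) 0 (ModuleCat.of A A) n hn).isoZero.symm inferInstance
    haveI : A₀.IsStrictlyLE 0 := (CochainComplex.isStrictlyLE_iff _ _).2 fun i hi =>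
      HomologicalComplex.isZero_single_obj_X (ComplexShape.up ℤ) 0 (ModuleCat.of A A) i hi.ne'
    exact CochainComplex.isKProjective_of_projective A₀ 0
  let q := HomotopyCategory.quotient (ModuleCat.{u} A) (ComplexShape.up ℤ)
  let w := DerivedCategory.quotientCompQhIso (ModuleCat.{u} A)
  obtain ⟨g', hg'⟩ := (CochainComplex.IsKProjective.Qh_map_bijective A₀ (q.obj (∐ L))).2
    (w.hom.app A₀ ≫ (g ≫ v) ≫ w.inv.app (∐ L))
  obtain ⟨g₀, rfl⟩ := q.map_surjective g'
  have hg₀ : DerivedCategory.Q.map g₀ = g ≫ v := by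
    have h := w.hom.naturality g₀
    simp only [Functor.comp_map] at h
    rw [← cancel_epi (w.hom.app A₀), ← h]
    show DerivedCategory.Qh.map (q.map g₀) ≫ _ = _
    rw [hg']
    simp only [Category.assoc, Iso.inv_hom_id_app, Category.comp_id]
  have hev : IsColimit (Cofan.mk ((∐ L).X 0) fun t => (Sigma.ι L t).f 0) :=
    isColimitCofanMkObjOfIsColimit (HomologicalComplex.eval (ModuleCat.{u} A) (ComplexShape.up ℤ) 0) L _ hcL
  obtain ⟨F, hF⟩ := finFac_module hev
    ((HomologicalComplex.singleObjXSelf (ComplexShape.up ℤ) 0 (ModuleCat.of A A)).inv ≫ g₀.f 0)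
  have h0 : g₀ ≫ e hcL F = g₀ := by
    refine HomologicalComplex.from_single_hom_ext ?_
    rw [HomologicalComplex.comp_f, show (e hcL F).f 0 = e hev F from
      map_e_self hcL (HomologicalComplex.eval (ModuleCat.{u} A) (ComplexShape.up ℤ) 0) hev F]
    rw [Category.assoc, cancel_epi] at hF
    exact hF
  have hvu : v ≫ u = 𝟙 _ := Cofan.IsColimit.hom_ext hc _ _ fun t => by
    rw [Category.comp_id, ← Category.assoc,
      show c.inj t ≫ v = (φ t).inv ≫ DerivedCategory.Q.map (Sigma.ι L t) from Cofan.IsColimit.fac hc _ t,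
      Category.assoc, show DerivedCategory.Q.map (Sigma.ι L t) ≫ u = (φ t).hom ≫ c.inj t from Cofan.IsColimit.fac hQ _ t,
      Iso.inv_hom_id_assoc]
  have huv : ∀ t, DerivedCategory.Q.map (Sigma.ι L t) ≫ u = (φ t).hom ≫ c.inj t := fun t =>
    Cofan.IsColimit.fac hQ _ t
  refine ⟨F, ?_⟩
  have hmap : e hQ F ≫ u = u ≫ e hc F := Cofan.IsColimit.hom_ext hQ _ _ fun t => by
    change DerivedCategory.Q.map (Sigma.ι L t) ≫ _ = DerivedCategory.Q.map (Sigma.ι L t) ≫ _
    rw [reassoc_of% huv, inj_e, ← Category.assoc,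
      show DerivedCategory.Q.map (Sigma.ι L t) ≫ e hQ F = _ from inj_e hQ F t]
    split_ifs with ht
    · exact huv t
    · rw [zero_comp, comp_zero]
  calc g ≫ e hc F = g ≫ (v ≫ u) ≫ e hc F := by rw [hvu, Category.id_comp]
    _ = (g ≫ v) ≫ e hQ F ≫ u := by simp only [Category.assoc, hmap]
    _ = g := by
      rw [← hg₀, ← map_e_self hcL DerivedCategory.Q hQ F, ← Functor.map_comp_assoc]
      rw [show g₀ ≫ e hcL F = g₀ from h0, hg₀, Category.assoc, hvu, Category.comp_id]

theorem compactD_of_isPerfect {K : Dual.D A} (hK : DRing.IsPerfect A K) : CompactD K := by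
  haveI : ObjectProperty.IsClosedUnderIsomorphisms (CompactD (A := A) : ObjectProperty (Dual.D A)) :=
    ⟨fun e h => h.of_iso e⟩
  exact mem_of_perfect (CompactD (A := A)) (compactD_oneD.of_iso (singleQIso 0 _))
    (fun _ n h => h.shift n) (fun T hT h₁ h₃ => CompactD.ext₂ T hT h₁ h₃) (fun _ _ _ h => h.fst) K hK

/-- A map factors through a perfect object. -/
def FacP {X Y : Dual.D A} (g : X ⟶ Y) : Prop :=
  ∃ (P : Dual.D A) (a : X ⟶ P) (b : P ⟶ Y), DRing.IsPerfect A P ∧ a ≫ b = g

theorem FacP.add {X Y : Dual.D A} {g g' : X ⟶ Y} (h : FacP g) (h' : FacP g') : FacP (g + g') := by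
  obtain ⟨P, a, b, hP, rfl⟩ := h
  obtain ⟨P', a', b', hP', rfl⟩ := h'
  refine ⟨P ⊞ P', biprod.lift a a', biprod.desc b b', ?_, biprod.lift_desc⟩
  exact isPerfect_triangle₂ (binaryBiproductTriangle_distinguished P P') hP hP'

theorem FacP.comp_right {X Y Z : Dual.D A} {g : X ⟶ Y} (h : FacP g) (f : Y ⟶ Z) : FacP (g ≫ f) := by
  obtain ⟨P, a, b, hP, rfl⟩ := h
  exact ⟨P, a, b ≫ f, hP, (Category.assoc _ _ _).symm⟩

/-- Maps from compact objects factor through perfect objects. -/
def PG (Y : Dual.D A) : Prop := ∀ X, CompactD X → ∀ g : X ⟶ Y, FacP g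

theorem PG.of_retract {Y Y' : Dual.D A} (i : Y ⟶ Y') (r : Y' ⟶ Y) (h : i ≫ r = 𝟙 Y) (h' : PG Y') : PG Y :=
  fun X hX g => by
    have := (h' X hX (g ≫ i)).comp_right r
    rwa [Category.assoc, h, Category.comp_id] at this

theorem PG.of_iso {Y Y' : Dual.D A} (e : Y ≅ Y') (h : PG Y) : PG Y' := h.of_retract e.inv e.hom e.inv_hom_id

theorem PG.shift {Y : Dual.D A} (h : PG Y) (n : ℤ) : PG (Y⟦n⟧) := fun X hX g => by
  let adj := (shiftEquiv (Dual.D A) n).symm.toAdjunction
  obtain ⟨P, a, b, hP, hab⟩ := h _ (hX.shift (-n)) ((adj.homEquiv X Y).symm g)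
  refine ⟨P⟦n⟧, adj.homEquiv X P a, b⟦n⟧', isPerfect_shift hP n, ?_⟩
  show adj.homEquiv X P a ≫ ((shiftEquiv (Dual.D A) n).symm.inverse).map b = g
  rw [← adj.homEquiv_naturality_right, hab, Equiv.apply_symm_apply]

theorem PG.ext₂ (T : Triangle (Dual.D A)) (hT : T ∈ distTriang _) (h₁ : PG T.obj₁) (h₃ : PG T.obj₃) :
    PG T.obj₂ := fun X hX g => by
  obtain ⟨P, u, v, hP, huv⟩ := h₃ X hX (g ≫ T.mor₂)
  obtain ⟨P₁, w₁, w₂, hP₁, hw⟩ := (h₁.shift 1) P (compactD_of_isPerfect hP) (v ≫ T.mor₃)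
  obtain ⟨Q, p₁, p₂, hQ⟩ := Pretriangulated.distinguished_cocone_triangle (u ≫ w₁)
  have hz : (u ≫ w₁) ≫ w₂ = 0 := by
    rw [Category.assoc, hw, reassoc_of% huv, comp_distTriang_mor_zero₂₃ _ hT, comp_zero]
  obtain ⟨x, hx⟩ := Triangle.yoneda_exact₂ _ hQ w₂ hz
  have hQc : CompactD Q :=
    CompactD.ext₂ (Triangle.mk (u ≫ w₁) p₁ p₂).rotate (rot_of_distTriang _ hQ) (compactD_of_isPerfect hP₁)
      (hX.shift 1)
  obtain ⟨P₂, y₁, y₂, hP₂, hy⟩ := (h₁.shift 1) Q hQc x
  let z : P ⟶ P₂ := w₁ ≫ p₁ ≫ y₁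
  obtain ⟨P', k, r, hT'⟩ := Pretriangulated.distinguished_cocone_triangle₁ z
  have hcomm : z ≫ y₂ = v ≫ T.mor₃ := by
    simp only [z, Category.assoc, hy, ← hw]
    exact congrArg (w₁ ≫ ·) hx.symm
  obtain ⟨(a : P' ⟶ T.obj₂), ha, -⟩ := complete_distinguished_triangle_morphism₁ (Triangle.mk k z r) T.rotate
    hT' (rot_of_distTriang _ hT) v y₂ hcomm
  have hP' : DRing.IsPerfect A P' := isPerfect_triangle₁ hT' hP hP₂
  obtain ⟨u', hu'⟩ := Triangle.coyoneda_exact₂ (Triangle.mk k z r) hT' u (by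
    show u ≫ w₁ ≫ p₁ ≫ y₁ = 0
    rw [← Category.assoc u, ← Category.assoc (u ≫ w₁),
      show (u ≫ w₁) ≫ p₁ = 0 from comp_distTriang_mor_zero₁₂ _ hQ, zero_comp])
  obtain ⟨a₀, ha₀⟩ := Triangle.coyoneda_exact₂ T hT (g - u' ≫ a) (by
    rw [Preadditive.sub_comp, sub_eq_zero, Category.assoc]
    refine huv.symm.trans ?_
    rw [hu', Category.assoc]
    exact congrArg (u' ≫ ·) ha)
  have h := ((h₁ X hX a₀).comp_right T.mor₁).add ⟨P', u', a, hP', rfl⟩
  rwa [← ha₀, sub_add_cancel] at h

/-- Projective modules in one degree. -/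
theorem pg_single {M : ModuleCat.{u} A} (hM : Module.Projective A M) (n : ℤ) :
    PG (DerivedCategory.Q.obj ((HomologicalComplex.single (ModuleCat.{u} A) (ComplexShape.up ℤ) n).obj M)) := by
  classical
  let S := HomologicalComplex.single (ModuleCat.{u} A) (ComplexShape.up ℤ) n
  let c : Cofan fun _ : M => ModuleCat.of A A :=
    Cofan.mk (∐ fun _ : M => ModuleCat.of A A) (Sigma.ι fun _ : M => ModuleCat.of A A)
  have hc : IsColimit c := coproductIsCoproduct _
  let π : (∐ fun _ : M => ModuleCat.of A A) ⟶ M :=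
    Sigma.desc fun m : M => ModuleCat.ofHom (LinearMap.toSpanSingleton A M m)
  haveI : Epi π := (ModuleCat.epi_iff_surjective π).2 fun m =>
    ⟨Sigma.ι (fun _ : M => ModuleCat.of A A) m (1 : A), by
      refine (ConcreteCategory.congr_hom (Sigma.ι_desc (f := fun _ : M => ModuleCat.of A A)
        (fun m : M => ModuleCat.ofHom (LinearMap.toSpanSingleton A M m)) m) (1 : A)).trans ?_
      exact one_smul A m⟩
  haveI : Projective M := (IsProjective.iff_projective M).1 hM
  refine PG.of_retract (DerivedCategory.Q.map (S.map (Projective.factorThru (𝟙 M) π)))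
    (DerivedCategory.Q.map (S.map π))
    (by rw [← Functor.map_comp, ← Functor.map_comp, Projective.factorThru_comp, CategoryTheory.Functor.map_id,
      CategoryTheory.Functor.map_id]) ?_
  have hS : IsColimit (Cofan.mk (S.obj c.pt) fun t => S.map (c.inj t)) :=
    isColimitCofanMkObjOfIsColimit S _ c.inj hc
  obtain ⟨hQ⟩ := TriH.isColimit_Q_cofan (hKinj A) fun _ : M => S.obj (ModuleCat.of A A)
  let eS : (∐ fun _ : M => S.obj (ModuleCat.of A A)) ≅ S.obj c.pt :=
    (coproductIsCoproduct _).coconePointUniqueUpToIso hS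
  refine PG.of_iso (DerivedCategory.Q.mapIso eS) fun X hX g => ?_
  obtain ⟨F, hF⟩ := hX _ _ _ hQ g
  have h1 : DRing.IsPerfect A (DerivedCategory.Q.obj (S.obj (ModuleCat.of A A))) :=
    ⟨S.obj (ModuleCat.of A A), n, n, fun i hi => HomologicalComplex.isZero_single_obj_X _ _ _ _ (by omega), fun i => by
      by_cases hi : i = n
      · subst hi
        exact (FPj A).prop_of_iso (HomologicalComplex.singleObjXSelf (ComplexShape.up ℤ) i (ModuleCat.of A A)).symm
          ⟨Module.Finite.self A, inferInstance⟩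
      · exact (FPj A).prop_of_isZero (HomologicalComplex.isZero_single_obj_X _ _ _ _ hi), ⟨Iso.refl _⟩⟩
  have key : ∀ F : Finset M, FacP (g ≫ e hQ F) := fun F => by
    induction F using Finset.induction with
    | empty =>
      refine ⟨0, 0, 0, isPerfect_of_isZero (isZero_zero _), ?_⟩
      rw [zero_comp, show e hQ (∅ : Finset M) = 0 from Cofan.IsColimit.hom_ext hQ _ _ fun t => by
        rw [inj_e, if_neg (Finset.notMem_empty t), comp_zero], comp_zero]
    | insert m F' hm ih =>
      let πm : DerivedCategory.Q.obj (∐ fun _ : M => S.obj (ModuleCat.of A A)) ⟶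
          DerivedCategory.Q.obj (S.obj (ModuleCat.of A A)) :=
        Cofan.IsColimit.desc hQ fun t => if t = m then 𝟙 _ else 0
      let ιm := DerivedCategory.Q.map (Sigma.ι (fun _ : M => S.obj (ModuleCat.of A A)) m)
      let eF : DerivedCategory.Q.obj (∐ fun _ : M => S.obj (ModuleCat.of A A)) ⟶
          DerivedCategory.Q.obj (∐ fun _ : M => S.obj (ModuleCat.of A A)) := e hQ F'
      have he : e hQ (insert m F') = eF + πm ≫ ιm := Cofan.IsColimit.hom_ext hQ _ _ fun t => by
        show Cofan.inj _ t ≫ e hQ (insert m F') = _ ≫ (eF + πm ≫ ιm)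
        rw [inj_e, Preadditive.comp_add]
        refine Eq.trans ?_ (congrArg₂ (· + ·) (inj_e hQ F' t).symm ((congrArg (· ≫ ιm) (Cofan.IsColimit.fac hQ _ t)).symm.trans
          (Category.assoc _ _ _)))
        by_cases htm : t = m
        · subst htm
          simp [hm, ιm]
        · simp [htm]
      rw [he, Preadditive.comp_add]
      exact ih.add ⟨_, g ≫ πm, ιm, h1, Category.assoc _ _ _⟩
  have := key F
  rwa [hF] at this

theorem pg_of_isZero {Y : Dual.D A} (h : IsZero Y) : PG Y := fun _ _ g =>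
  ⟨Y, g, 𝟙 Y, isPerfect_of_isZero h, Category.comp_id _⟩

theorem pg_of_bounded (E : DRing.Cx A) (a b : ℤ) (hz : ∀ i, i < a ∨ b < i → IsZero (E.X i))
    (hp : ∀ i, Module.Projective A (E.X i)) : PG (DerivedCategory.Q.obj E) := by
  obtain ⟨k, hk⟩ : ∃ k : ℕ, b - a < k := ⟨(b - a + 1).toNat, by omega⟩
  induction k generalizing E b with
  | zero =>
    exact pg_of_isZero (DerivedCategory.Q.map_isZero ((IsZero.iff_id_eq_zero _).2
      (HomologicalComplex.hom_ext _ _ fun i => (hz i (by omega)).eq_of_src _ _)))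
  | succ k ih =>
    by_cases hab : b < a
    · exact pg_of_isZero (DerivedCategory.Q.map_isZero ((IsZero.iff_id_eq_zero _).2
        (HomologicalComplex.hom_ext _ _ fun i => (hz i (by omega)).eq_of_src _ _)))
    obtain ⟨S, hS, h1, h2, h3, h3'⟩ := exists_ses_top E b (hz (b + 1) (Or.inr (by omega)))
    have hz3 : ∀ i, i < a ∨ b - 1 < i → IsZero (S.X₃.X i) := fun i hi => by
      by_cases hib : i = b
      · exact hib ▸ h3
      · exact (hz i (by omega)).of_iso (h3' i hib).some.symm
    have hl3 : ∀ i, Module.Projective A (S.X₃.X i) := fun i => by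
      by_cases hib : i = b
      · haveI : Subsingleton (S.X₃.X i) := ModuleCat.subsingleton_of_isZero (hib ▸ h3)
        exact Module.Projective.of_free
      · haveI := hp i
        exact Module.Projective.of_equiv (h3' i hib).some.toLinearEquiv
    subst h2
    refine PG.ext₂ _ (DerivedCategory.triangleOfSES_distinguished hS) ?_ (ih S.X₃ (b - 1) hz3 hl3 (by omega))
    show PG (DerivedCategory.Q.obj S.X₁)
    rw [h1]
    exact pg_single (hp b) b

/-- Cutting off a bounded above complex below. -/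
theorem exists_quotient (P : DRing.Cx A) (b : ℤ) (hz : ∀ i, b < i → IsZero (P.X i)) : ∀ k : ℕ,
    ∃ (Q : DRing.Cx A) (π : P ⟶ Q), (∀ i, Epi (π.f i)) ∧ (∀ i, b - k < i → IsZero (Q.X i)) ∧
      (∀ i, i ≤ b - k → IsIso (π.f i))
  | 0 => ⟨P, 𝟙 P, fun i => inferInstanceAs (Epi (𝟙 (P.X i))), fun i hi => hz i (by omega),
      fun i _ => inferInstanceAs (IsIso (𝟙 (P.X i)))⟩
  | k + 1 => by
    obtain ⟨Q, π, he, hQ, hi⟩ := exists_quotient P b hz k
    obtain ⟨S, hS, h1, h2, h3, -⟩ := exists_ses_top Q (b - k) (hQ _ (by omega))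
    subst h2
    haveI := hS.epi_g
    haveI : ∀ i, Epi (S.g.f i) := fun i => (hS.map_of_exact (HomologicalComplex.eval _ _ i)).epi_g
    refine ⟨S.X₃, π ≫ S.g, fun i => haveI := he i; inferInstanceAs (Epi (π.f i ≫ S.g.f i)), fun i hi' => ?_,
      fun i hi' => ?_⟩
    · by_cases hik : i = b - k
      · exact hik ▸ h3
      · exact IsZero.of_epi (S.g.f i) (hQ i (by omega))
    · haveI := hi i (by omega)
      haveI : IsIso (S.g.f i) :=
        (hS.map_of_exact (HomologicalComplex.eval _ _ i)).isIso_g_iff.2 (by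
          show IsZero (S.X₁.X i)
          rw [h1]
          exact HomologicalComplex.isZero_single_obj_X _ _ _ _ (by omega))
      exact inferInstanceAs (IsIso (π.f i ≫ S.g.f i))

/-- A locally finite family of maps vanishes for almost all indices on a compact object. -/
theorem exists_finset_map_eq_zero {E : DRing.Cx A} (hE : CompactD (DerivedCategory.Q.obj E))
    (L : ULift.{u} ℕ → DRing.Cx A) (π : ∀ t, E ⟶ L t)
    (hfin : ∀ i, ∃ S : Finset (ULift.{u} ℕ), ∀ t ∉ S, (π t).f i = 0) :
    ∃ F : Finset (ULift.{u} ℕ), ∀ t ∉ F, DerivedCategory.Q.map (π t) = 0 := by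
  classical
  choose S hS using hfin
  let g : E ⟶ ∐ L :=
    { f := fun i => ∑ t ∈ S i, (π t).f i ≫ (Sigma.ι L t).f i
      comm' := fun i j _ => by
        rw [Finset.sum_subset (Finset.subset_union_left : S i ⊆ S i ∪ S j)
            (fun t _ ht => by rw [hS i t ht, zero_comp]),
          Finset.sum_subset (Finset.subset_union_right : S j ⊆ S i ∪ S j)
            (fun t _ ht => by rw [hS j t ht, zero_comp]), Preadditive.sum_comp, Preadditive.comp_sum]
        exact Finset.sum_congr rfl fun t _ => by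
          rw [Category.assoc, (Sigma.ι L t).comm, (π t).comm_assoc] }
  obtain ⟨hQ⟩ := TriH.isColimit_Q_cofan (hKinj A) L
  obtain ⟨F, hF⟩ := hE _ _ _ hQ (DerivedCategory.Q.map g)
  refine ⟨F, fun t ht => ?_⟩
  let p : ∐ L ⟶ L t := Sigma.desc fun s => if h : s = t then eqToHom (congrArg L h) else 0
  have hp : g ≫ p = π t := by
    refine HomologicalComplex.hom_ext _ _ fun i => ?_
    rw [HomologicalComplex.comp_f]
    show (∑ s ∈ S i, (π s).f i ≫ (Sigma.ι L s).f i) ≫ p.f i = (π t).f i
    have hι : ∀ s, (π s).f i ≫ (Sigma.ι L s).f i ≫ p.f i = if s = t then (π t).f i else 0 := fun s => by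
      rw [← HomologicalComplex.comp_f, Sigma.ι_desc]
      split_ifs with hst
      · subst hst
        simp
      · simp
    rw [Preadditive.sum_comp, Finset.sum_congr rfl fun s _ => (Category.assoc _ _ _).trans (hι s),
      Finset.sum_ite_eq']
    split_ifs with hts
    · rfl
    · exact (hS i t hts).symm
  have h0 : e hQ F ≫ DerivedCategory.Q.map p = 0 := Cofan.IsColimit.hom_ext hQ _ _ fun s => by
    rw [← Category.assoc, inj_e, comp_zero]
    split_ifs with hs
    · show DerivedCategory.Q.map (Sigma.ι L s) ≫ _ = 0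
      rw [← Functor.map_comp, Sigma.ι_desc, dif_neg (fun h : s = t => ht (h ▸ hs)), Functor.map_zero]
    · exact zero_comp
  calc DerivedCategory.Q.map (π t) = DerivedCategory.Q.map g ≫ DerivedCategory.Q.map p := by
        rw [← hp, Functor.map_comp]
    _ = (DerivedCategory.Q.map g ≫ e hQ F) ≫ DerivedCategory.Q.map p := by rw [hF]
    _ = 0 := by rw [Category.assoc, h0, comp_zero]

theorem exists_isLE_of_compactD {K : Dual.D A} (hK : CompactD K) : ∃ b : ℤ, K.IsLE b := by
  classical
  let E := DerivedCategory.Q.objPreimage K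
  let eE := DerivedCategory.Q.objObjPreimageIso K
  let L : ULift.{u} ℕ → DRing.Cx A := fun n => E.truncGE (n.down : ℤ)
  let π : ∀ n, E ⟶ L n := fun n => E.πTruncGE (n.down : ℤ)
  obtain ⟨F, hF⟩ := exists_finset_map_eq_zero (hK.of_iso eE.symm) L π fun i => by
    refine ⟨(Finset.range (i.toNat + 1)).map Equiv.ulift.symm.toEmbedding, fun t ht => ?_⟩
    refine IsZero.eq_of_tgt ?_ _ _
    refine CochainComplex.isZero_of_isStrictlyGE (E.truncGE (t.down : ℤ)) (t.down : ℤ) i ?_
    by_contra h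
    exact ht (Finset.mem_map.2 ⟨t.down, Finset.mem_range.2 (by omega), rfl⟩)
  obtain ⟨m, hm⟩ : ∃ m : ℕ, ∀ t ∈ F, t.down ≤ m := (F.image ULift.down).bddAbove.imp
    fun m hm t ht => hm (Finset.mem_image_of_mem _ ht)
  refine ⟨(m : ℤ) + 1, (DerivedCategory.isLE_iff _ _).2 fun i hi => ?_⟩
  let n : ULift.{u} ℕ := ⟨m + 1⟩
  have hz := hF n (fun h => by have := hm n h; simp [n] at this)
  refine IsZero.of_iso ?_ ((DerivedCategory.homologyFunctor _ i).mapIso eE.symm ≪≫
    (DerivedCategory.homologyFunctorFactors (ModuleCat.{u} A) i).app E)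
  haveI hq : IsIso (HomologicalComplex.homologyMap (π n) i) := by
    have := CochainComplex.quasiIsoAt_πTruncGE E (n.down : ℤ) i (by simp [n]; omega)
    exact (quasiIsoAt_iff_isIso_homologyMap _ _).1 this
  have h0 : HomologicalComplex.homologyMap (π n) i = 0 := by
    have := congrArg (DerivedCategory.homologyFunctor (ModuleCat.{u} A) i).map hz
    rw [homologyMap_Q, Functor.map_zero, Preadditive.IsIso.comp_left_eq_zero, Preadditive.IsIso.comp_right_eq_zero] at this
    exact this
  rw [IsZero.iff_id_eq_zero, ← cancel_mono (HomologicalComplex.homologyMap (π n) i), h0]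
  simp

/-- Compact objects are perfect. -/
theorem isPerfect_of_compactD {K : Dual.D A} (hK : CompactD K) : DRing.IsPerfect A K := by
  classical
  obtain ⟨b, hb⟩ := exists_isLE_of_compactD hK
  obtain ⟨P, hP, hPz, ⟨e⟩⟩ := exists_projective_rep (A := A) K b
  choose Q π hπ hQ hiso using fun n : ULift.{u} ℕ => exists_quotient P b hPz n.down
  obtain ⟨F, hF⟩ := exists_finset_map_eq_zero (hK.of_iso e.symm) Q π fun i => by
    refine ⟨(Finset.range ((b - i).toNat + 1)).map Equiv.ulift.symm.toEmbedding, fun t ht => ?_⟩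
    refine IsZero.eq_of_tgt ?_ _ _
    refine hQ t i ?_
    by_contra h
    exact ht (Finset.mem_map.2 ⟨t.down, Finset.mem_range.2 (by omega), rfl⟩)
  obtain ⟨m, hm⟩ : ∃ m : ℕ, ∀ t ∈ F, t.down ≤ m := (F.image ULift.down).bddAbove.imp
    fun m hm t ht => hm (Finset.mem_image_of_mem _ ht)
  let n : ULift.{u} ℕ := ⟨m + 1⟩
  have hz := hF n (fun h => by have := hm n h; simp [n] at this)
  haveI : Epi (π n) := HomologicalComplex.epi_of_epi_f _ (hπ n)
  let S := ShortComplex.mk (kernel.ι (π n)) (π n) (kernel.condition _)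
  have hS : S.ShortExact := { exact := ShortComplex.exact_of_f_is_kernel _ (kernelIsKernel _) }
  obtain ⟨i', hi'⟩ := Triangle.coyoneda_exact₂ _ (DerivedCategory.triangleOfSES_distinguished hS)
    (𝟙 (DerivedCategory.Q.obj P)) ((Category.id_comp _).trans hz)
  have hk : ∀ j, (b - (n.down : ℤ) < j → Nonempty ((kernel (π n)).X j ≅ P.X j)) ∧
      (j ≤ b - (n.down : ℤ) → IsZero ((kernel (π n)).X j)) := fun j => by
    have hSj := hS.map_of_exact (HomologicalComplex.eval (ModuleCat.{u} A) (ComplexShape.up ℤ) j)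
    refine ⟨fun hj => ?_, fun hj => ?_⟩
    · haveI := hSj.isIso_f_iff.2 (show IsZero ((Q n).X j) from hQ n j hj)
      exact ⟨asIso (S.map (HomologicalComplex.eval (ModuleCat.{u} A) (ComplexShape.up ℤ) j)).f⟩
    · haveI : IsIso (S.map (HomologicalComplex.eval (ModuleCat.{u} A) (ComplexShape.up ℤ) j)).g := hiso n j hj
      exact hSj.isIso_g_iff.1 inferInstance
  have hpg : PG (DerivedCategory.Q.obj (kernel (π n))) := by
    refine pg_of_bounded _ (b - n.down + 1) b (fun j hj => ?_) fun j => ?_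
    · by_cases hj' : j ≤ b - (n.down : ℤ)
      · exact (hk j).2 hj'
      · exact (hPz j (by omega)).of_iso ((hk j).1 (by omega)).some
    · by_cases hj' : j ≤ b - (n.down : ℤ)
      · haveI : Subsingleton ((kernel (π n)).X j) := ModuleCat.subsingleton_of_isZero ((hk j).2 hj')
        exact Module.Projective.of_free
      · haveI := hP j
        exact Module.Projective.of_equiv ((hk j).1 (by omega)).some.symm.toLinearEquiv
  have hid : FacP (𝟙 (DerivedCategory.Q.obj P)) := by
    have h := (hpg _ (hK.of_iso e.symm) i').comp_right (DerivedCategory.Q.map (kernel.ι (π n)))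
    exact (show i' ≫ DerivedCategory.Q.map (kernel.ι (π n)) = 𝟙 _ from hi'.symm) ▸ h
  obtain ⟨R, a, r, hR, har⟩ := hid
  obtain ⟨C, c₁, c₂, hC⟩ := Pretriangulated.distinguished_cocone_triangle a
  have h3 : c₂ = 0 := by
    haveI : Mono a := mono_of_mono_fac har
    haveI : Mono (a⟦(1 : ℤ)⟧') := inferInstance
    exact zero_of_comp_mono (a⟦(1 : ℤ)⟧') (comp_distTriang_mor_zero₃₁ _ hC)
  obtain ⟨eR, -⟩ := exists_iso_binaryBiproduct_of_distTriang _ hC h3
  exact isPerfect_of_iso ((isPerfect_of_biprod (isPerfect_of_iso hR eR)).1) e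

end Groth.Agent.DRingPC
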