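import Groth.Agent.PCohLib.Stupid
import Groth.Agent.PCohLib.Perfect
import Groth.Prelude.Def_DRing2
import Mathlib.Algebra.Category.ModuleCat.Biproducts
import Mathlib.RingTheory.Finiteness.Projective
import Mathlib.RingTheory.Finiteness.Prod

/-!
Pseudo-coherent objects of `D(A)`: the translation into the abstract theory of `PCohLib`.
-/

set_option autoImplicit false
set_option linter.style.haveILetI false
universe u

open CategoryTheory CategoryTheory.Limits CategoryTheory.Pretriangulated Groth.Agent.PCohLib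

attribute [local instance] HasDerivedCategory.standard

namespace Groth.Agent.DRingPC

variable (A : Type u) [CommRing A]

/-- Finite free modules. -/
def FF : ObjectProperty (ModuleCat.{u} A) := fun M => Module.Finite A M ∧ Module.Free A M

/-- Finite projective modules. -/
def FPj : ObjectProperty (ModuleCat.{u} A) := fun M => Module.Finite A M ∧ Module.Projective A M

instance : (FF A).IsClosedUnderIsomorphisms where
  of_iso e h := by
    haveI := h.1; haveI := h.2
    exact ⟨Module.Finite.equiv e.toLinearEquiv, Module.Free.of_equiv e.toLinearEquiv⟩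

instance : (FPj A).IsClosedUnderIsomorphisms where
  of_iso e h := by
    haveI := h.1; haveI := h.2
    exact ⟨Module.Finite.equiv e.toLinearEquiv, Module.Projective.of_equiv e.toLinearEquiv⟩

instance : (FF A).ContainsZero where
  exists_zero := ⟨ModuleCat.of A PUnit.{u + 1}, ModuleCat.isZero_of_subsingleton _,
    inferInstance, inferInstance⟩

instance : (FPj A).ContainsZero where
  exists_zero := ⟨ModuleCat.of A PUnit.{u + 1}, ModuleCat.isZero_of_subsingleton _,
    inferInstance, inferInstance⟩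

lemma FF.toFPj {M : ModuleCat.{u} A} (h : FF A M) : FPj A M :=
  haveI := h.2
  ⟨h.1, inferInstance⟩

lemma FF.sum (X Y : ModuleCat.{u} A) (hX : FF A X) (hY : FF A Y) : FF A (X ⨯ Y) := by
  haveI := hX.1; haveI := hX.2; haveI := hY.1; haveI := hY.2
  exact (FF A).prop_of_iso ((ModuleCat.biprodIsoProd X Y).symm ≪≫ biprod.isoProd X Y)
    (show FF A (ModuleCat.of A (X × Y)) from ⟨inferInstanceAs (Module.Finite A (X × Y)),
      inferInstanceAs (Module.Free A (X × Y))⟩)

lemma FPj.sum (X Y : ModuleCat.{u} A) (hX : FPj A X) (hY : FPj A Y) : FPj A (X ⨯ Y) := by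
  haveI := hX.1; haveI := hX.2; haveI := hY.1; haveI := hY.2
  exact (FPj A).prop_of_iso ((ModuleCat.biprodIsoProd X Y).symm ≪≫ biprod.isoProd X Y)
    (show FPj A (ModuleCat.of A (X × Y)) from ⟨inferInstanceAs (Module.Finite A (X × Y)),
      inferInstanceAs (Module.Projective A (X × Y))⟩)

lemma FPj.lift (E F : ModuleCat.{u} A) (f : E ⟶ F) (hf : Epi f) (hF : FPj A F) : IsSplitEpi f := by
  haveI := hF.2
  obtain ⟨s, hs⟩ := Module.projective_lifting_property f.hom LinearMap.id
    ((ModuleCat.epi_iff_surjective f).1 hf)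
  exact IsSplitEpi.mk' ⟨ModuleCat.ofHom s, ModuleCat.hom_ext hs⟩

lemma FPj.kernel (E F : ModuleCat.{u} A) (f : E ⟶ F) (hf : Epi f) (hE : FPj A E) (hF : FPj A F) :
    FPj A (kernel f) := by
  haveI := hE.1; haveI := hE.2; haveI := hF.2
  obtain ⟨s, hs⟩ := Module.projective_lifting_property f.hom LinearMap.id
    ((ModuleCat.epi_iff_surjective f).1 hf)
  let r : E →ₗ[A] LinearMap.ker f.hom := (LinearMap.id - s ∘ₗ f.hom).codRestrict _ fun x => by
    simpa [sub_eq_zero] using (LinearMap.congr_fun hs (f.hom x)).symm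
  have hr : r ∘ₗ (LinearMap.ker f.hom).subtype = LinearMap.id :=
    LinearMap.ext fun x => Subtype.ext (by simp [r])
  exact (FPj A).prop_of_iso (ModuleCat.kernelIsoKer f).symm
    ⟨Module.Finite.of_surjective r (fun x => ⟨x, LinearMap.congr_fun hr x⟩),
      Module.Projective.of_split _ r hr⟩

lemma ft_FF_iff (M : ModuleCat.{u} A) : PCoh.IsOfFiniteType (FF A) M ↔ Module.Finite A M := by
  constructor
  · rintro ⟨E, π, hE, hπ⟩
    haveI := hE.1
    exact Module.Finite.of_surjective π.hom ((ModuleCat.epi_iff_surjective π).1 hπ)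
  · intro h
    obtain ⟨n, f, hf⟩ := Module.Finite.exists_fin' A M
    let E := ModuleCat.of A (ULift.{u} (Fin n → A))
    let g : E ⟶ M := ModuleCat.ofHom (f ∘ₗ ULift.moduleEquiv.toLinearMap)
    exact ⟨E, g, ⟨inferInstanceAs (Module.Finite A (ULift.{u} (Fin n → A))),
      inferInstanceAs (Module.Free A (ULift.{u} (Fin n → A)))⟩,
      (ModuleCat.epi_iff_surjective g).2 (hf.comp ULift.moduleEquiv.surjective)⟩

lemma FF.qs : PCoh.IsQuasiStableUnderKernels (FF A) := fun K hK hb hP =>
  (ft_FF_iff A _).2 (by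
    obtain ⟨E, π, hE, hπ⟩ := quasiStable_of_stable (FPj.kernel A) K hK hb
      (fun i hi => FF.toFPj A (hP i hi))
    haveI := hE.1
    exact Module.Finite.of_surjective π.hom ((ModuleCat.epi_iff_surjective π).1 hπ))

lemma FF.ql : PCoh.IsQuasiLiftable (FF A) := fun E F f hf hF => by
  haveI := FPj.lift A E F f hf (FF.toFPj A hF)
  exact ⟨F, section_ f, hF, by rw [IsSplitEpi.id]; infer_instance⟩

lemma isPC_iff_NPC (m : ℤ) (K : Dual.D A) :
    DRing.IsPseudoCoherent A m K ↔ NPC (FF A) m K :=
  (NPC_iff_nIso (FF.sum A) (FF.qs A) (FF.ql A) m K).symm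

lemma isPC'_iff (K : Dual.D A) : DRing.IsPseudoCoherent' A K ↔ ∀ m : ℤ, NPC (FF A) m K := by
  constructor
  · rintro ⟨E, b, hb, hE, ⟨e⟩⟩ m
    exact NPC.mk ⟨⟨b, hb⟩, fun i _ => hE i⟩ e
  · intro h
    obtain ⟨b, hb⟩ := (h 0).isLE
    obtain ⟨E, hE, hz, he⟩ := exists_strictPCAll_vanishing (FF.sum A) (FF.qs A) (FF.ql A)
      (m := b + 1) (DerivedCategory.Q.objObjPreimageIso K)
      (fun n => (h n).of_iso (DerivedCategory.Q.objObjPreimageIso K).symm)
      (fun i hi => K.isZero_of_isLE b i (by lia))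
    exact ⟨E, b, fun i hi => hz i (by lia), hE, he⟩

lemma isPC'_iff_isPC (K : Dual.D A) :
    DRing.IsPseudoCoherent' A K ↔ ∀ m : ℤ, DRing.IsPseudoCoherent A m K := by
  simp only [isPC'_iff, isPC_iff_NPC]

variable {A}

lemma subsingleton_iff_isZero (M : ModuleCat.{u} A) : Subsingleton M ↔ IsZero M :=
  ⟨fun _ => ModuleCat.isZero_of_subsingleton M, fun h => ModuleCat.subsingleton_of_isZero h⟩

lemma isLE_of_subsingleton {K : Dual.D A} {b : ℤ}
    (h : ∀ i : ℤ, b < i → Subsingleton (Dual.HD A K i)) : K.IsLE b :=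
  (DerivedCategory.isLE_iff K b).2 fun i hi => (subsingleton_iff_isZero _).1 (h i hi)

lemma NPC_zero_inD_iff (M : ModuleCat.{u} A) :
    NPC (FF A) 0 ((DerivedCategory.singleFunctor _ 0).obj M) ↔ Module.Finite A M := by
  rw [NPC_iff_ft_homology (FF.sum A) (FF.qs A) (FF.ql A) 0 _
    (fun i hi => DerivedCategory.isZero_of_isLE _ 0 i hi), ft_FF_iff]
  exact ⟨fun h => Module.Finite.equiv (singleHomologyIso 0 M).toLinearEquiv,
    fun h => Module.Finite.equiv (singleHomologyIso 0 M).symm.toLinearEquiv⟩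

/-- A module of finite free terms, in degree `0`, is pseudo-coherent. -/
lemma NPC_single_of_mem {C : Type*} [Category C] [Abelian C] [HasDerivedCategory C]
    {P : ObjectProperty C} [P.IsClosedUnderIsomorphisms] [P.ContainsZero] {X : C} (hX : P X)
    (m : ℤ) : NPC P m ((DerivedCategory.singleFunctor C 0).obj X) := by
  refine NPC.mk (E := (HomologicalComplex.single C (ComplexShape.up ℤ) 0).obj X)
    ⟨⟨0, fun i hi => HomologicalComplex.isZero_single_obj_X _ _ _ _ (by lia)⟩, fun i _ => ?_⟩
    ((DerivedCategory.singleFunctorIsoCompQ C 0).app X).symm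
  by_cases hi : i = 0
  · subst hi
    exact P.prop_of_iso (HomologicalComplex.singleObjXSelf (ComplexShape.up ℤ) 0 X).symm hX
  · exact P.prop_of_isZero (HomologicalComplex.isZero_single_obj_X _ _ _ _ hi)

end Groth.Agent.DRingPC
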