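import Groth.Agent.DRingPC.Homology
import Mathlib.Algebra.Module.FinitePresentation
import Mathlib.LinearAlgebra.Pi

/-!
Pseudo-coherence over a coherent ring.
-/

set_option autoImplicit false
set_option linter.style.haveILetI false
universe u

open CategoryTheory CategoryTheory.Limits Groth.Agent.PCohLib

attribute [local instance] HasDerivedCategory.standard

namespace Groth.Agent.DRingPC

variable {A : Type u} [CommRing A] (hA : ∀ I : Ideal A, I.FG → Module.FinitePresentation A I)

include hA

lemma finitePresentation_submodule (n : ℕ) (N : Submodule A (Fin n → A)) (hN : N.FG) :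
    Module.FinitePresentation A N := by
  induction n with
  | zero =>
    haveI : Subsingleton N := inferInstance
    haveI : Module.Finite A N := Module.Finite.of_finite
    haveI : Module.Projective A N := Module.Projective.of_free
    exact Module.finitePresentation_of_projective A N
  | succ n ih =>
    haveI : Module.Finite A N := Module.Finite.iff_fg.2 hN
    let p : N →ₗ[A] A := (LinearMap.proj 0) ∘ₗ N.subtype
    let t : (Fin (n + 1) → A) →ₗ[A] (Fin n → A) := LinearMap.funLeft A A Fin.succ
    haveI : Module.FinitePresentation A (LinearMap.range p) :=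
      hA _ (Module.Finite.iff_fg.1 (Module.Finite.range p))
    have hkfg : (LinearMap.ker p.rangeRestrict).FG :=
      Module.FinitePresentation.fg_ker _ p.surjective_rangeRestrict
    let r : LinearMap.ker p.rangeRestrict →ₗ[A] (Fin n → A) :=
      t ∘ₗ N.subtype ∘ₗ (LinearMap.ker p.rangeRestrict).subtype
    have hr : Function.Injective r := by
      rw [injective_iff_map_eq_zero]
      intro x hx
      ext i
      induction i using Fin.cases with
      | zero => exact congr_arg Subtype.val (LinearMap.mem_ker.1 x.2)
      | succ i => exact congr_fun hx i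
    haveI : Module.Finite A (LinearMap.ker p.rangeRestrict) := Module.Finite.iff_fg.2 hkfg
    haveI := ih (LinearMap.range r) (Module.Finite.iff_fg.1 (Module.Finite.range r))
    haveI : Module.FinitePresentation A (LinearMap.ker p.rangeRestrict) :=
      by exact Module.FinitePresentation.of_equiv (M := LinearMap.range r)
          (N := LinearMap.ker p.rangeRestrict) (LinearEquiv.ofInjective r hr).symm
    exact Module.finitePresentation_of_ker p.rangeRestrict p.surjective_rangeRestrict

lemma precoh_of_coherent (X : ModuleCat.{u} A) (hX : FF A X) : Precoh (FF A) X := fun E g hE => by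
  haveI := hE.1; haveI := hX.1; haveI := hX.2
  obtain ⟨n, ⟨e⟩⟩ : ∃ n : ℕ, Nonempty (X ≃ₗ[A] (Fin n → A)) :=
    ⟨_, ⟨((Module.Free.chooseBasis A X).reindex (Fintype.equivFin _)).equivFun⟩⟩
  let h : E →ₗ[A] (Fin n → A) := e.toLinearMap ∘ₗ g.hom
  haveI : Module.FinitePresentation A (LinearMap.range h) :=
    finitePresentation_submodule hA n _ (Module.Finite.iff_fg.1 (Module.Finite.range h))
  have hk : (LinearMap.ker h).FG := by
    rw [← LinearMap.ker_rangeRestrict]
    exact Module.FinitePresentation.fg_ker _ h.surjective_rangeRestrict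
  have : LinearMap.ker h = LinearMap.ker g.hom := LinearEquiv.ker_comp e g.hom
  haveI : Module.Finite A (LinearMap.ker g.hom) := Module.Finite.iff_fg.2 (this ▸ hk)
  exact (ft_FF_iff A _).2 (Module.Finite.equiv (ModuleCat.kernelIsoKer g).symm.toLinearEquiv)

lemma coh_iff_finitePresentation (M : ModuleCat.{u} A) :
    Coh (FF A) M ↔ Module.FinitePresentation A M := by
  refine ⟨fun h => ?_, fun h => ?_⟩
  · exact (NPC_negOne_inD_iff M).1
      (NPC_single_of_coh (FF.sum A) (FF.ql A) (precoh_of_coherent hA) h (-1))
  · obtain ⟨E, π, hE, hπ⟩ := (ft_FF_iff A M).2 inferInstance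
    haveI := hπ
    have hker : PCoh.IsOfFiniteType (FF A) (kernel π) :=
      haveI := hE.1
      haveI : Module.Finite A ↥(LinearMap.ker π.hom) := Module.Finite.iff_fg.2
        (Module.FinitePresentation.fg_ker π.hom ((ModuleCat.epi_iff_surjective π).1 hπ))
      (ft_FF_iff A _).2 (Module.Finite.equiv (ModuleCat.kernelIsoKer π).symm.toLinearEquiv)
    exact ⟨(ft_FF_iff A M).2 inferInstance, Precoh.of_exact_epi (FF.sum A) (FF.ql A)
      (ShortComplex.mk (kernel.ι π) π (kernel.condition π))
      (ShortComplex.exact_of_f_is_kernel _ (kernelIsKernel π)) hπ hker (precoh_of_coherent hA E hE)⟩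

end Groth.Agent.DRingPC
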