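import Groth.Agent.DRingPC.Perfect
import Groth.Agent.PCohLib.Presentation
import Mathlib.CategoryTheory.Abelian.Projective.Extend
import Mathlib.CategoryTheory.Abelian.Projective.Resolution
import Mathlib.Algebra.Category.ModuleCat.Projective

/-!
Perfect modules are the modules with a finite resolution by finite projective modules.
-/

set_option autoImplicit false
set_option linter.style.haveILetI false
universe u

open CategoryTheory CategoryTheory.Limits CategoryTheory.Pretriangulated Groth.Agent.PCohLib
open ComplexShape (embeddingDownNat)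

attribute [local instance] HasDerivedCategory.standard

namespace Groth.Agent.DRingPC

variable {A : Type u} [CommRing A]

lemma categoryProjective_of_FPj {M : ModuleCat.{u} A} (h : FPj A M) : CategoryTheory.Projective M :=
  projective_of_liftable (P := FPj A) (FPj.lift A) h

lemma isPerfectModule_iff_resolution (M : Type u) [AddCommGroup M] [Module A M] :
    DRing.IsPerfectModule A M ↔
      ∃ (P : ProjectiveResolution (ModuleCat.of A M)) (d : ℕ),
        (∀ i : ℕ, d < i → IsZero (P.complex.X i)) ∧ ∀ i : ℕ, Module.Finite A (P.complex.X i) := by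
  constructor
  · rintro ⟨E₀, a₀, b₀, hz₀, hE₀, ⟨e₀⟩⟩
    have hH₀ : ∀ i : ℤ, (0 : ℤ) < i → IsZero (E₀.homology i) := fun i hi =>
      (DerivedCategory.isZero_of_isLE _ 0 i hi).of_iso
        ((homologyQIso E₀ i).symm ≪≫ (DerivedCategory.homologyFunctor _ i).mapIso e₀)
    obtain ⟨E, hE, hz, ⟨e'⟩⟩ := exists_truncLE_rep (P := FPj A) (FPj.lift A) (FPj.kernel A)
      (FPj.sum A) (min a₀ 0) 0 b₀ (min_le_right _ _) E₀ hE₀ (fun i hi => hz₀ i (by lia)) hH₀
    let e : DRing.toD E ≅ (DerivedCategory.singleFunctor (ModuleCat.{u} A) 0).obj (ModuleCat.of A M) :=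
      e' ≪≫ e₀
    let K := E.restriction embeddingDownNat
    have hEz : IsZero (E.X 1) := hz 1 (by lia)
    let h0 : E.homology 0 ≅ ModuleCat.of A M :=
      (homologyQIso E 0).symm ≪≫ (DerivedCategory.homologyFunctor _ 0).mapIso e ≪≫
        singleHomologyIso 0 _
    let ι₀ : E.homology 0 ≅ E.opcycles 0 := E.isoHomologyι 0 1 (by simp) (hEz.eq_of_tgt _ _)
    let φ : E.X 0 ⟶ ModuleCat.of A M := E.pOpcycles 0 ≫ ι₀.inv ≫ h0.hom
    haveI hφ : Epi φ := epi_comp _ _
    let u : E.X (-1) ⟶ E.X 0 := E.d (-1) 0
    have hd : (K.d 1 0 : E.X (-1) ⟶ E.X 0) = u := rfl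
    have ex : (ShortComplex.mk u φ (by simp [u, φ])).Exact := by
      refine (ShortComplex.exact_iff_of_iso ?_).1 (ShortComplex.exact_of_g_is_cokernel
        (ShortComplex.mk _ _ (E.d_pOpcycles (-1) 0))
        (E.opcyclesIsCokernel (-1) 0 (by simp)))
      exact ShortComplex.isoMk (Iso.refl _) (Iso.refl _) (ι₀.symm ≪≫ h0) (by simp [u]) (by simp [φ])
    have hex : ∀ j : ℕ, K.ExactAt (j + 1) := fun j =>
      restrictionDown_exactAt E j (by
        rw [HomologicalComplex.exactAt_iff_isZero_homology]
        exact (DerivedCategory.isZero_of_isGE _ 0 _ (by lia)).of_iso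
          ((homologyQIso E _).symm ≪≫ (DerivedCategory.homologyFunctor _ _).mapIso e))
    let π : K ⟶ (ChainComplex.single₀ _).obj (ModuleCat.of A M) :=
      (ChainComplex.toSingle₀Equiv _ _).symm ⟨φ, (ShortComplex.mk u φ (by simp [u, φ])).zero⟩
    have hπ : QuasiIso π := ⟨fun n => by
      cases n
      · rw [ChainComplex.quasiIsoAt₀_iff, ShortComplex.quasiIso_iff_of_zeros']
        · refine (ShortComplex.exact_and_epi_g_iff_of_iso ?_).2 ⟨ex, hφ⟩
          exact ShortComplex.isoMk (Iso.refl _) (Iso.refl _) (Iso.refl _)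
            (by simp; exact hd.symm) (by simp [π]; rfl)
        all_goals first | rfl | exact K.shape _ _ (by simp)
      · rw [quasiIsoAt_iff_exactAt']
        · exact hex _
        · exact ChainComplex.exactAt_succ_single_obj _ _⟩
    refine ⟨{ complex := K
              projective := fun n => categoryProjective_of_FPj (hE (-(n : ℤ)))
              π := π
              quasiIso := hπ }, (-(min a₀ 0)).toNat, fun i hi => hz (-(i : ℤ)) (by lia),
      fun i => (hE (-(i : ℤ))).1⟩
  · rintro ⟨P, d, hz, hfin⟩
    refine ⟨P.cochainComplex, -(d : ℤ), 0, fun i hi => ?_, fun i => ?_,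
      ⟨asIso (DerivedCategory.Q.map P.π') ≪≫ singleQIso 0 _⟩⟩
    · rcases hi with hi | hi
      · exact (hz (-i).toNat (by lia)).of_iso (P.cochainComplexXIso i (-i).toNat (by lia))
      · exact P.cochainComplex.isZero_of_isStrictlyLE 0 i hi
    · by_cases hi : i ≤ 0
      · refine (FPj A).prop_of_iso (P.cochainComplexXIso i (-i).toNat (by lia)).symm ⟨hfin _, ?_⟩
        exact (IsProjective.iff_projective _).2
          (inferInstanceAs (CategoryTheory.Projective (P.complex.X (-i).toNat)))
      · exact (FPj A).prop_of_isZero (P.cochainComplex.isZero_of_isStrictlyLE 0 i (by lia))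

end Groth.Agent.DRingPC
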