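import Groth.Agent.DRingPC.BaseChange
import Groth.Agent.DRingPC.Resolution
import Mathlib.RingTheory.Finiteness.Descent
import Mathlib.RingTheory.Flat.FaithfullyFlat.Basic
import Mathlib.RingTheory.Localization.Finiteness
import Mathlib.RingTheory.Localization.BaseChange
import Mathlib.RingTheory.Flat.Stability
import Mathlib.RingTheory.Flat.Localization

/-!
Descent of pseudo-coherence along flat covers.
-/

set_option autoImplicit false
set_option linter.style.haveILetI false
set_option linter.unusedSectionVars false
universe u v

open CategoryTheory CategoryTheory.Limits CategoryTheory.Pretriangulated Groth.Agent.PCohLib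
open CochainComplex (mappingCone)
open TensorProduct

attribute [local instance] HasDerivedCategory.standard

namespace Groth.Agent.DRingPC

variable {A : Type u} [CommRing A]

section

variable {B : Type u} [CommRing B] [Algebra A B] [Module.Flat A B]

/-- Flat base change commutes with cohomology. -/
noncomputable def extHomologyIso (K : DRing.Cx A) (i : ℤ) :
    ((extCx (algebraMap A B)).obj K).homology i ≅
      ModuleCat.of B (B ⊗[A] (K.homology i)) :=
  haveI := ModuleCat.preservesFiniteLimits_extendScalars_of_flat.{u}
    (RingHom.flat_algebraMap_iff.2 (inferInstance : Module.Flat A B))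
  ShortComplex.mapHomologyIso (K.sc i) (ModuleCat.extendScalars.{u, u, u} (algebraMap A B)) ≪≫
    (extendEquiv A B (K.homology i)).symm

end

variable {ι : Type v} (B : ι → Type u) [∀ j, CommRing (B j)] [∀ j, Algebra A (B j)]
  [∀ j, Module.Flat A (B j)]

/-- Flat cover descending finiteness and vanishing. -/
structure IsCover : Prop where
  finite : ∀ (M : Type u) [AddCommGroup M] [Module A M],
    (∀ j, Module.Finite (B j) (B j ⊗[A] M)) → Module.Finite A M
  zero : ∀ (M : Type u) [AddCommGroup M] [Module A M],
    (∀ j, Subsingleton (B j ⊗[A] M)) → Subsingleton M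

variable {B}

lemma exists_lift_complex (X : DRing.Cx A) (b : ℤ) [Module.Finite A (X.homology b)] :
    ∃ (M : ModuleCat.{u} A) (g : (HomologicalComplex.single _ (ComplexShape.up ℤ) b).obj M ⟶ X),
      FF A M ∧ Epi (HomologicalComplex.homologyMap g b) := by
  obtain ⟨M, q, hM, hq⟩ := (ft_FF_iff A (X.homology b)).2 inferInstance
  haveI := categoryProjective_of_FPj (FF.toFPj A hM)
  haveI := hq
  let γ : M ⟶ X.cycles b := Projective.factorThru q (X.homologyπ b)
  let g : (HomologicalComplex.single _ (ComplexShape.up ℤ) b).obj M ⟶ X :=
    HomologicalComplex.mkHomFromSingle (γ ≫ X.iCycles b) (fun k _ => by simp)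
  refine ⟨M, g, hM, ?_⟩
  haveI : Epi ((HomologicalComplex.singleObjHomologySelfIso (ComplexShape.up ℤ) b M).inv ≫
      HomologicalComplex.homologyMap g b) := by
    have hc : (HomologicalComplex.singleObjCyclesSelfIso (ComplexShape.up ℤ) b M).inv ≫
        HomologicalComplex.cyclesMap g b = γ := by
      rw [← cancel_mono (X.iCycles b)]
      simp [g, HomologicalComplex.mkHomFromSingle_f]
    rw [← HomologicalComplex.singleObjCyclesSelfIso_inv_homologyπ, Category.assoc,
      HomologicalComplex.homologyπ_naturality, ← Category.assoc, hc, Projective.factorThru_comp]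
    exact hq
  exact epi_of_epi (HomologicalComplex.singleObjHomologySelfIso (ComplexShape.up ℤ) b M).inv _

lemma exact_of_cover (hB : IsCover (A := A) B) (K : DRing.Cx A) (i : ℤ)
    (h : ∀ j, ((extCx (algebraMap A (B j))).obj K).ExactAt i) : K.ExactAt i := by
  rw [HomologicalComplex.exactAt_iff_isZero_homology, ← subsingleton_iff_isZero]
  exact hB.zero _ fun j => (subsingleton_iff_isZero (ModuleCat.of (B j) (B j ⊗[A] (K.homology i)))).2
    ((h j).isZero_homology.of_iso (extHomologyIso K i).symm)

lemma NPC_of_cover (hB : IsCover (A := A) B) {m : ℤ} (K : DRing.Cx A) (b : ℤ)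
    (hb : ExactFrom (b + 1) K)
    (h : ∀ j, NPC (FF (B j)) m (DRing.toD ((extCx (algebraMap A (B j))).obj K))) :
    NPC (FF A) m (DRing.toD K) := by
  obtain ⟨k, hk⟩ : ∃ k : ℕ, b < m + k := ⟨(b - m + 1).toNat, by lia⟩
  induction k generalizing K b with
  | zero =>
    haveI : (DRing.toD K).IsLE b := (DerivedCategory.isLE_iff _ _).2 fun i hi =>
      (hb i (by lia)).isZero_homology.of_iso (homologyQIso K i)
    exact NPC_of_isLE _ (b := b) (by lia)
  | succ k ih =>
    by_cases hbm : b < m
    · haveI : (DRing.toD K).IsLE b := (DerivedCategory.isLE_iff _ _).2 fun i hi =>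
        (hb i (by lia)).isZero_homology.of_iso (homologyQIso K i)
      exact NPC_of_isLE _ (b := b) hbm
    have hK : ∀ j i, b < i → ((extCx (algebraMap A (B j))).obj K).ExactAt i := fun j i hi => by
      rw [HomologicalComplex.exactAt_iff_isZero_homology]
      refine IsZero.of_iso ?_ (extHomologyIso K i)
      haveI := (subsingleton_iff_isZero _).2 (hb i (by lia)).isZero_homology
      exact ModuleCat.isZero_of_subsingleton _
    haveI : Module.Finite A (K.homology b) := hB.finite _ fun j => by
      have h' := (ft_FF_iff _ _).1 ((NPC_iff_ft_homology (FF.sum _) (FF.qs _) (FF.ql _) b _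
        (fun i hi => (hK j i hi).isZero_homology.of_iso (homologyQIso _ i))).1 ((h j).mono (by lia)))
      haveI := h'
      exact Module.Finite.equiv (homologyQIso ((extCx (algebraMap A (B j))).obj K) b ≪≫
        extHomologyIso K b).toLinearEquiv
    obtain ⟨M, g, hM, hg⟩ := exists_lift_complex K b
    let S := (HomologicalComplex.single (ModuleCat.{u} A) (ComplexShape.up ℤ) b).obj M
    have hS : ∀ i, NPC (FF A) i (DRing.toD S) := fun i =>
      ((NPC_single_of_mem hM (i - b)).single_shift b i (by lia)).of_iso (singleQIso b M).symm
    have hSe : ∀ i, b < i → S.ExactAt i := fun i hi =>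
      ShortComplex.exact_of_isZero_X₂ _ (HomologicalComplex.isZero_single_obj_X (ComplexShape.up ℤ) _ _ _ (by lia))
    have hex : ExactFrom b (mappingCone g) := NQ.exactFrom ⟨fun i hi =>
      isIso_of_source_target_iso_zero _ ((hSe i hi).isZero_homology.isoZero)
        ((hb i (by lia)).isZero_homology.isoZero), hg⟩
    have hC : NPC (FF A) m (DRing.toD (mappingCone g)) := by
      refine ih (mappingCone g) (b - 1) (fun i hi => hex i (by lia)) (fun j => ?_) (by lia)
      exact (NPC.of_triangle₃ (FF.sum _) (FF.qs _) (FF.ql _)
        (DerivedCategory.mappingCone_triangle_distinguished ((extCx (algebraMap A (B j))).map g))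
        (NPC_extend_of_flat _ (RingHom.flat_algebraMap_iff.2 (inferInstance : Module.Flat A (B j)))
          (hS (m + 1))) (h j)).of_iso
        (DerivedCategory.Q.mapIso (CochainComplex.mappingCone.mapHomologicalComplexIso g
          (ModuleCat.extendScalars.{u, u, u} (algebraMap A (B j))))).symm
    exact NPC.of_triangle₂ (FF.sum A) (FF.qs A) (FF.ql A)
      (DerivedCategory.mappingCone_triangle_distinguished g) (hS m) hC

lemma NPC_of_cover' [Finite ι] (hB : IsCover (A := A) B) {m : ℤ} (K : DRing.Cx A)
    (h : ∀ j, NPC (FF (B j)) m (DRing.toD ((extCx (algebraMap A (B j))).obj K))) :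
    NPC (FF A) m (DRing.toD K) := by
  choose b hb using fun j => (h j).exists_exactFrom
  obtain ⟨c, hc⟩ := Finite.exists_le b
  exact NPC_of_cover hB K c (fun i hi => exact_of_cover hB K i fun j => hb j i (by linarith [hc j])) h

lemma isCover_faithfullyFlat (S : Type u) [CommRing S] [Algebra A S]
    [Module.FaithfullyFlat A S] : IsCover (A := A) (fun _ : Unit => S) where
  finite M _ _ h := by
    haveI := h ()
    exact Module.Finite.of_finite_tensorProduct_of_faithfullyFlat S
  zero M _ _ h := (Module.FaithfullyFlat.subsingleton_tensorProduct_iff_right A S).1 (h ())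

lemma isCover_localization {r : ℕ} (f : Fin r → A) (hf : Ideal.span (Set.range f) = ⊤) :
    IsCover (A := A) (fun j => Localization.Away (f j)) where
  finite M _ _ h := by
    haveI : ∀ g : Set.range f, IsLocalizedModule.Away g.val
        (TensorProduct.mk A (Localization.Away g.val) M 1) := fun g =>
      (isLocalizedModule_iff_isBaseChange (Submonoid.powers g.val) (Localization.Away g.val) _).2
        (TensorProduct.isBaseChange A M _)
    refine Module.Finite.of_localizationSpan' (Set.range f) hf
      (Rₚ := fun g => Localization.Away g.val)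
      (fun g => TensorProduct.mk A (Localization.Away g.val) M 1) ?_
    rintro ⟨_, j, rfl⟩
    exact h j
  zero M _ _ h := by
    refine ⟨fun x y => sub_eq_zero.1 ?_⟩
    generalize x - y = z
    have key : ∀ j, ∃ n : ℕ, (f j ^ n) • z = 0 := fun j => by
      haveI : IsLocalizedModule.Away (f j) (TensorProduct.mk A (Localization.Away (f j)) M 1) :=
        (isLocalizedModule_iff_isBaseChange (Submonoid.powers (f j)) (Localization.Away (f j)) _).2
          (TensorProduct.isBaseChange A M _)
      haveI := h j
      obtain ⟨⟨_, n, rfl⟩, hn⟩ := (IsLocalizedModule.eq_zero_iff (Submonoid.powers (f j))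
        (TensorProduct.mk A (Localization.Away (f j)) M 1)).1
        (Subsingleton.elim (TensorProduct.mk A (Localization.Away (f j)) M 1 z) 0)
      exact ⟨n, hn⟩
    choose n hn using key
    have htop : (Ideal.span (Set.range fun j => f j ^ n j)) = ⊤ := by
      refine top_le_iff.1 ((Ideal.span_range_pow_eq_top (Set.range f) hf
        (fun x => n x.2.choose)).ge.trans (Ideal.span_mono ?_))
      rintro _ ⟨x, rfl⟩
      exact ⟨x.2.choose, by simp [x.2.choose_spec]⟩
    have hle : Ideal.span (Set.range fun j => f j ^ n j) ≤ (Submodule.span A {z}).annihilator := by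
      rw [Ideal.span_le]
      rintro _ ⟨j, rfl⟩
      exact Submodule.mem_annihilator_span_singleton z _ |>.2 (hn j)
    rw [htop, top_le_iff] at hle
    have h1 : (1 : A) • z = 0 := (Submodule.mem_annihilator_span_singleton z 1).1 (hle ▸ Submodule.mem_top)
    rwa [one_smul] at h1

end Groth.Agent.DRingPC
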