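import Groth.Agent.DRingPC.Homology
import Mathlib.Algebra.Homology.DerivedCategory.Linear
import Mathlib.RingTheory.Filtration
import Mathlib.LinearAlgebra.FreeModule.Finite.Basic

/-!
`Ext` out of a bounded above complex of projectives, through cocycles.
-/

set_option autoImplicit false
set_option linter.style.haveILetI false
set_option linter.unusedSectionVars false
universe u

open CategoryTheory CategoryTheory.Limits Groth.Agent.PCohLib

attribute [local instance] HasDerivedCategory.standard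

namespace Groth.Agent.DRingPC

variable {A : Type u} [CommRing A] (E : DRing.Cx A)

/-- Cocycles in degree `p` of the complex `Hom(E, N)`. -/
noncomputable def Cocyc (p : ℤ) (N : ModuleCat.{u} A) : Submodule A (E.X (-p) →ₗ[A] N) :=
  LinearMap.ker (LinearMap.lcomp A N (E.d (-p - 1) (-p)).hom)

variable {E}

lemma mem_cocyc {p : ℤ} {N : ModuleCat.{u} A} {h : E.X (-p) →ₗ[A] N} :
    h ∈ Cocyc E p N ↔ h ∘ₗ (E.d (-p - 1) (-p)).hom = 0 := Iff.rfl

lemma comp_mem_cocyc {p : ℤ} {N N' : ModuleCat.{u} A} (g : N →ₗ[A] N') {h : E.X (-p) →ₗ[A] N}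
    (hh : h ∈ Cocyc E p N) : g ∘ₗ h ∈ Cocyc E p N' := by
  rw [mem_cocyc] at hh ⊢
  rw [LinearMap.comp_assoc, hh, LinearMap.comp_zero]

lemma cobound_mem_cocyc {p : ℤ} {N : ModuleCat.{u} A} (g : E.X (-p + 1) →ₗ[A] N) :
    g ∘ₗ (E.d (-p) (-p + 1)).hom ∈ Cocyc E p N := by
  rw [mem_cocyc, LinearMap.comp_assoc, ← ModuleCat.hom_comp, HomologicalComplex.d_comp_d]
  exact LinearMap.comp_zero g

/-- The chain map to `N[p]` of a cocycle. -/
noncomputable def cocycMap {p : ℤ} {N : ModuleCat.{u} A} (h : Cocyc E p N) :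
    E ⟶ (HomologicalComplex.single _ (ComplexShape.up ℤ) (-p)).obj N :=
  HomologicalComplex.mkHomToSingle (ModuleCat.ofHom h.1) (fun k hk => by
    obtain rfl : k = -p - 1 := by have : k + 1 = -p := hk; lia
    exact ModuleCat.hom_ext (mem_cocyc.1 h.2))

/-- `N[p]` as a shift. -/
noncomputable def singleShiftTarget (p : ℤ) (N : ModuleCat.{u} A) :
    DerivedCategory.Q.obj ((HomologicalComplex.single _ (ComplexShape.up ℤ) (-p)).obj N) ≅
      (shiftFunctor (Dual.D A) p).obj ((DerivedCategory.singleFunctor _ 0).obj N) :=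
  singleQIso (-p) N ≪≫ (singleShiftIso p (-p) 0 (by lia) N).symm

/-- The class in `Ext^p` of a cocycle. -/
noncomputable def cls {p : ℤ} {N : ModuleCat.{u} A} (h : Cocyc E p N) :
    DerivedCategory.Q.obj E ⟶ (shiftFunctor (Dual.D A) p).obj ((DerivedCategory.singleFunctor _ 0).obj N) :=
  DerivedCategory.Q.map (cocycMap h) ≫ (singleShiftTarget p N).hom

lemma cocycMap_f {p : ℤ} {N : ModuleCat.{u} A} (h : Cocyc E p N) :
    (cocycMap h).f (-p) = ModuleCat.ofHom h.1 ≫
      (HomologicalComplex.singleObjXSelf (ComplexShape.up ℤ) (-p) N).inv :=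
  HomologicalComplex.mkHomToSingle_f _ _

lemma cls_add {p : ℤ} {N : ModuleCat.{u} A} (h h' : Cocyc E p N) :
    cls (h + h') = cls h + cls h' := by
  have : cocycMap (h + h') = cocycMap h + cocycMap h' := by
    apply HomologicalComplex.to_single_hom_ext
    rw [HomologicalComplex.add_f_apply, cocycMap_f, cocycMap_f, cocycMap_f, ← Preadditive.add_comp]
    rfl
  rw [cls, this, Functor.map_add, Preadditive.add_comp]
  rfl

lemma cls_smul {p : ℤ} {N : ModuleCat.{u} A} (a : A) (h : Cocyc E p N) :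
    cls (a • h) = a • cls h := by
  have : cocycMap (a • h) = a • cocycMap h := by
    apply HomologicalComplex.to_single_hom_ext
    rw [HomologicalComplex.smul_f_apply, cocycMap_f, cocycMap_f, ← Linear.smul_comp]
    rfl
  rw [cls, this, Functor.map_smul, Linear.smul_comp]
  rfl

/-- `cls` as a linear map. -/
noncomputable def clsHom (p : ℤ) (N : ModuleCat.{u} A) :
    Cocyc E p N →ₗ[A] (DerivedCategory.Q.obj E ⟶
      (shiftFunctor (Dual.D A) p).obj ((DerivedCategory.singleFunctor _ 0).obj N)) where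
  toFun := cls
  map_add' := cls_add
  map_smul' := cls_smul

lemma cls_comp {p : ℤ} {N N' : ModuleCat.{u} A} (g : N ⟶ N') (h : Cocyc E p N) :
    cls h ≫ (shiftFunctor (Dual.D A) p).map ((DerivedCategory.singleFunctor _ 0).map g) =
      cls ⟨g.hom ∘ₗ h.1, comp_mem_cocyc g.hom h.2⟩ := by
  have h1 : cocycMap h ≫ (HomologicalComplex.single _ (ComplexShape.up ℤ) (-p)).map g =
      cocycMap ⟨g.hom ∘ₗ h.1, comp_mem_cocyc g.hom h.2⟩ := by
    apply HomologicalComplex.to_single_hom_ext
    rw [HomologicalComplex.comp_f, cocycMap_f, cocycMap_f, HomologicalComplex.single_map_f_self,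
      Category.assoc, Iso.inv_hom_id_assoc]
    exact (Category.assoc _ _ _).symm
  have h2 : (singleShiftTarget p N).hom ≫
      (shiftFunctor (Dual.D A) p).map ((DerivedCategory.singleFunctor _ 0).map g) =
      DerivedCategory.Q.map ((HomologicalComplex.single _ (ComplexShape.up ℤ) (-p)).map g) ≫
        (singleShiftTarget p N').hom := by
    have n1 := ((DerivedCategory.singleFunctors (ModuleCat.{u} A)).shiftIso p (-p) 0 (by lia)).inv.naturality g
    have n2 := (DerivedCategory.singleFunctorIsoCompQ (ModuleCat.{u} A) (-p)).inv.naturality g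
    exact (Category.assoc _ _ _).trans ((congrArg (_ ≫ ·) n1.symm).trans
      ((Category.assoc _ _ _).symm.trans ((congrArg (· ≫ _) n2.symm).trans (Category.assoc _ _ _))))
  simp only [cls, Category.assoc]
  rw [h2, ← Category.assoc, ← Functor.map_comp, h1]

lemma cls_surjective {p : ℤ} {N : ModuleCat.{u} A} (b : ℤ) (hb : ∀ i, b < i → IsZero (E.X i))
    (hE : ∀ i, FF A (E.X i)) : Function.Surjective (cls (E := E) (p := p) (N := N)) := by
  intro α
  obtain ⟨g, hg⟩ := exists_Q_map_eq (P := FPj A) (FPj.lift A) E (fun i => FF.toFPj A (hE i)) b hb _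
    (α ≫ (singleShiftTarget p N).inv)
  let k : E.X (-p) ⟶ N := g.f (-p) ≫ (HomologicalComplex.singleObjXSelf (ComplexShape.up ℤ) (-p) N).hom
  have hk : k.hom ∈ Cocyc E p N := by
    rw [mem_cocyc, ← ModuleCat.hom_comp, ← Category.assoc, ← g.comm (-p - 1) (-p),
      HomologicalComplex.single_obj_d, comp_zero, zero_comp]
    rfl
  have : cocycMap ⟨k.hom, hk⟩ = g := by
    apply HomologicalComplex.to_single_hom_ext
    rw [cocycMap_f]
    exact (Category.assoc _ _ _).trans (by rw [Iso.hom_inv_id, Category.comp_id])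
  exact ⟨⟨k.hom, hk⟩, by rw [cls, this, hg, Category.assoc, Iso.inv_hom_id, Category.comp_id]⟩

lemma cls_eq_zero_iff {p : ℤ} {N : ModuleCat.{u} A} (b : ℤ) (hb : ∀ i, b < i → IsZero (E.X i))
    (hE : ∀ i, FF A (E.X i)) (h : Cocyc E p N) :
    cls h = 0 ↔ ∃ g : E.X (-p + 1) →ₗ[A] N, g ∘ₗ (E.d (-p) (-p + 1)).hom = h.1 := by
  haveI := isKProjective_of_mem (P := FPj A) (FPj.lift A) E (fun i => FF.toFPj A (hE i)) b hb
  constructor
  · intro h0
    rw [cls, ← zero_comp (f := (singleShiftTarget p N).hom), cancel_mono] at h0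
    have hq : (HomotopyCategory.quotient _ _).map (cocycMap h) =
        (HomotopyCategory.quotient _ _).map (0 : E ⟶ _) := by
      refine (CochainComplex.IsKProjective.Qh_map_bijective E _).injective ?_
      rw [← cancel_mono ((DerivedCategory.quotientCompQhIso _).hom.app _)]
      have n := (DerivedCategory.quotientCompQhIso (ModuleCat.{u} A)).hom.naturality (cocycMap h)
      have n0 := (DerivedCategory.quotientCompQhIso (ModuleCat.{u} A)).hom.naturality
        (0 : E ⟶ (HomologicalComplex.single _ (ComplexShape.up ℤ) (-p)).obj N)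
      refine n.trans (((congrArg _ ?_)).trans n0.symm)
      rw [h0, Functor.map_zero]
    let H := HomotopyCategory.homotopyOfEq _ _ hq
    have hc := H.comm (-p)
    rw [dNext_eq _ (show (ComplexShape.up ℤ).Rel (-p) (-p + 1) from rfl),
      prevD_eq _ (show (ComplexShape.up ℤ).Rel (-p - 1) (-p) from by simp),
      HomologicalComplex.single_obj_d, comp_zero, add_zero, HomologicalComplex.zero_f, add_zero,
      cocycMap_f, Iso.comp_inv_eq, Category.assoc] at hc
    exact ⟨(H.hom (-p + 1) (-p) ≫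
      (HomologicalComplex.singleObjXSelf (ComplexShape.up ℤ) (-p) N).hom).hom,
      by rw [← ModuleCat.hom_comp, ← Category.assoc]; exact (congrArg ModuleCat.Hom.hom hc).symm⟩
  · rintro ⟨g, hg⟩
    let φ : ∀ i j : ℤ, (ComplexShape.up ℤ).Rel j i →
        (E.X i ⟶ ((HomologicalComplex.single _ (ComplexShape.up ℤ) (-p)).obj N).X j) := fun i j hij =>
      if hj : j = -p then
        eqToHom (by have : j + 1 = i := hij; rw [show i = -p + 1 by lia]) ≫ ModuleCat.ofHom g ≫
          (HomologicalComplex.singleObjXSelf (ComplexShape.up ℤ) (-p) N).inv ≫ eqToHom (by rw [hj])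
      else 0
    have : cocycMap h = Homotopy.nullHomotopicMap' φ := by
      apply HomologicalComplex.to_single_hom_ext
      rw [Homotopy.nullHomotopicMap'_f (show (ComplexShape.up ℤ).Rel (-p - 1) (-p) from by simp)
        (show (ComplexShape.up ℤ).Rel (-p) (-p + 1) from rfl), HomologicalComplex.single_obj_d,
        comp_zero, add_zero, cocycMap_f]
      simp only [φ, dif_pos, eqToHom_refl, Category.id_comp, Category.comp_id]
      rw [← Category.assoc]
      refine congrArg (· ≫ _) (ModuleCat.hom_ext ?_)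
      exact hg.symm
    have hq := HomotopyCategory.eq_of_homotopy _ _ (Homotopy.nullHomotopy' φ)
    rw [cls, this]
    refine Eq.trans (congrArg (· ≫ _) ?_) zero_comp
    rw [← cancel_epi ((DerivedCategory.quotientCompQhIso _).hom.app E), comp_zero]
    have n := (DerivedCategory.quotientCompQhIso (ModuleCat.{u} A)).hom.naturality
      (Homotopy.nullHomotopicMap' φ)
    refine n.symm.trans ?_
    rw [Functor.comp_map, hq, Functor.map_zero, Functor.map_zero, zero_comp]

/-- A map out of a finite free module with values in `J•N` lies in `J•Hom(F, N)`. -/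
lemma mem_smul_top_of_forall {F N : Type u} [AddCommGroup F] [Module A F] [Module.Finite A F]
    [Module.Free A F] [AddCommGroup N] [Module A N] (J : Ideal A) (h : F →ₗ[A] N)
    (hh : ∀ x, h x ∈ (J • ⊤ : Submodule A N)) : h ∈ (J • ⊤ : Submodule A (F →ₗ[A] N)) := by
  classical
  let b := Module.Free.chooseBasis A F
  have : h = ∑ i, (b.coord i).smulRight (h (b i)) := b.ext fun j => by
    simp [Finsupp.single_apply]
  rw [this]
  refine Submodule.sum_mem _ fun i _ => ?_
  have h1 : LinearMap.smulRightₗ (b.coord i) (h (b i)) ∈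
      (J • ⊤ : Submodule A N).map (LinearMap.smulRightₗ (b.coord i)) :=
    Submodule.mem_map_of_mem (hh (b i))
  rw [Submodule.map_smul''] at h1
  exact Submodule.smul_mono le_rfl le_top h1

/-- The image of a multiple is a multiple. -/
lemma mem_smul_top_map {N N' : Type*} [AddCommGroup N] [Module A N] [AddCommGroup N'] [Module A N']
    (J : Ideal A) (f : N →ₗ[A] N') {x : N} (hx : x ∈ (J • ⊤ : Submodule A N)) :
    f x ∈ (J • ⊤ : Submodule A N') := by
  have h1 := Submodule.mem_map_of_mem (f := f) hx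
  rw [Submodule.map_smul''] at h1
  exact Submodule.smul_mono le_rfl le_top h1

/-- The image of `Ext^p(E, I^n M)` in `Ext^p(E, M)` is in `I^(n-c)`. -/
lemma exists_artinRees_ext [IsNoetherianRing A] (I : Ideal A) (b : ℤ)
    (hb : ∀ i, b < i → IsZero (E.X i)) (hE : ∀ i, FF A (E.X i)) (M : ModuleCat.{u} A)
    [Module.Finite A M] (p : ℤ) :
    ∃ c : ℕ, ∀ n : ℕ, c ≤ n → ∀ α : DerivedCategory.Q.obj E ⟶ (shiftFunctor (Dual.D A) p).obj
        ((DerivedCategory.singleFunctor _ 0).obj (ModuleCat.of A (I ^ n • ⊤ : Submodule A M))),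
      α ≫ (shiftFunctor (Dual.D A) p).map ((DerivedCategory.singleFunctor _ 0).map
        (ModuleCat.ofHom (I ^ n • ⊤ : Submodule A M).subtype)) ∈
      (I ^ (n - c) • ⊤ : Submodule A (DerivedCategory.Q.obj E ⟶ (shiftFunctor (Dual.D A) p).obj
        ((DerivedCategory.singleFunctor _ 0).obj M))) := by
  haveI := (hE (-p)).1
  haveI := (hE (-p)).2
  obtain ⟨c, hc⟩ := Ideal.exists_pow_inf_eq_pow_smul I (Cocyc E p M)
  refine ⟨c, fun n hn α => ?_⟩
  obtain ⟨h, rfl⟩ := cls_surjective b hb hE α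
  rw [cls_comp]
  have h1 : (I ^ n • ⊤ : Submodule A M).subtype ∘ₗ h.1 ∈
      (I ^ n • ⊤ : Submodule A (E.X (-p) →ₗ[A] M)) ⊓ Cocyc E p M :=
    ⟨mem_smul_top_of_forall _ _ fun x => (h.1 x).2, comp_mem_cocyc _ h.2⟩
  rw [hc n hn] at h1
  have h2 := Submodule.smul_mono (le_refl (I ^ (n - c))) inf_le_right h1
  have h3 : (⟨(I ^ n • ⊤ : Submodule A M).subtype ∘ₗ h.1, comp_mem_cocyc _ h.2⟩ : Cocyc E p M) ∈
      (I ^ (n - c) • ⊤ : Submodule A (Cocyc E p M)) := by
    rw [Submodule.mem_smul_top_iff]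
    exact h2
  exact mem_smul_top_map _ (clsHom p M) h3

lemma isUniformTorsion {Z : Type*} [AddCommGroup Z] [Module A Z] [Module.Finite A Z] (I : Ideal A)
    (B : Submodule A Z) (h : ∀ z : Z, ∃ n : ℕ, ∀ x ∈ I ^ n, x • z ∈ B) :
    ∃ t : ℕ, ∀ x ∈ I ^ t, ∀ z : Z, x • z ∈ B := by
  classical
  obtain ⟨S, hS⟩ := Module.Finite.fg_top (R := A) (M := Z)
  choose n hn using h
  refine ⟨S.sup n, fun x hx z => ?_⟩
  have hz : z ∈ Submodule.span A (S : Set Z) := hS ▸ Submodule.mem_top
  induction hz using Submodule.span_induction with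
  | mem y hy => exact hn y x (Ideal.pow_le_pow_right (Finset.le_sup hy) hx)
  | zero => rw [smul_zero]; exact B.zero_mem
  | add y w _ _ hy hw => rw [smul_add]; exact B.add_mem hy hw
  | smul a y _ hy => rw [smul_comm]; exact B.smul_mem a hy

lemma exists_injective_ext [IsNoetherianRing A] (I : Ideal A) (b : ℤ)
    (hb : ∀ i, b < i → IsZero (E.X i)) (hE : ∀ i, FF A (E.X i)) (M : ModuleCat.{u} A)
    [Module.Finite A M] (i : ℤ)
    (htors : ∀ e : DerivedCategory.Q.obj E ⟶ (shiftFunctor (Dual.D A) i).obj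
        ((DerivedCategory.singleFunctor _ 0).obj M), ∃ n : ℕ, ∀ x ∈ I ^ n, x • e = 0) :
    ∃ m : ℕ, ∀ e : DerivedCategory.Q.obj E ⟶ (shiftFunctor (Dual.D A) i).obj
        ((DerivedCategory.singleFunctor _ 0).obj M),
      e ≫ (shiftFunctor (Dual.D A) i).map ((DerivedCategory.singleFunctor _ 0).map
        (ModuleCat.ofHom (I ^ m • ⊤ : Submodule A M).mkQ)) = 0 → e = 0 := by
  haveI := (hE (-i)).1
  haveI := (hE (-i)).2
  haveI := (hE (-i + 1)).1
  haveI := (hE (-i + 1)).2
  obtain ⟨c, hc⟩ := Ideal.exists_pow_inf_eq_pow_smul I (Cocyc E i M)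
  haveI : Module.Finite A (Cocyc E i M) := inferInstance
  obtain ⟨t, ht⟩ := isUniformTorsion I (LinearMap.ker (clsHom i M)) fun z => by
    obtain ⟨n, hn⟩ := htors (clsHom i M z)
    exact ⟨n, fun x hx => LinearMap.mem_ker.2 (by rw [map_smul]; exact hn x hx)⟩
  refine ⟨c + t, fun e he => ?_⟩
  obtain ⟨h, rfl⟩ := cls_surjective b hb hE e
  rw [cls_comp, cls_eq_zero_iff b hb hE] at he
  obtain ⟨g, hg⟩ := he
  obtain ⟨g', hg'⟩ := Module.projective_lifting_property
    (I ^ (c + t) • ⊤ : Submodule A M).mkQ g (Submodule.mkQ_surjective _)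
  let z : Cocyc E i M := h - ⟨g' ∘ₗ (E.d (-i) (-i + 1)).hom, cobound_mem_cocyc g'⟩
  have hz0 : cls (⟨g' ∘ₗ (E.d (-i) (-i + 1)).hom, cobound_mem_cocyc g'⟩ : Cocyc E i M) = 0 :=
    (cls_eq_zero_iff b hb hE _).2 ⟨g', rfl⟩
  have h1 : z.1 ∈ (I ^ (c + t) • ⊤ : Submodule A (E.X (-i) →ₗ[A] M)) ⊓ Cocyc E i M :=
    ⟨mem_smul_top_of_forall _ _ fun x => (Submodule.Quotient.mk_eq_zero _).1 (by
      have e1 := LinearMap.congr_fun hg x
      rw [← hg'] at e1
      exact (Submodule.Quotient.mk_sub _).trans (sub_eq_zero.2 e1.symm)), z.2⟩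
  rw [hc _ (Nat.le_add_right c t), Nat.add_sub_cancel_left] at h1
  have h2 : z ∈ (I ^ t • ⊤ : Submodule A (Cocyc E i M)) :=
    (Submodule.mem_smul_top_iff _ _ _).2 (Submodule.smul_mono le_rfl inf_le_right h1)
  have h3 : z ∈ LinearMap.ker (clsHom i M) := Submodule.smul_le.2 (fun x hx w _ => ht x hx w) h2
  have h4 : cls z = cls h - cls _ := map_sub (clsHom i M) _ _
  rw [hz0, sub_zero] at h4
  exact h4.symm.trans (LinearMap.mem_ker.1 h3)

lemma exists_range_ext [IsNoetherianRing A] (I : Ideal A) (b : ℤ)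
    (hb : ∀ i, b < i → IsZero (E.X i)) (hE : ∀ i, FF A (E.X i)) (M : ModuleCat.{u} A)
    [Module.Finite A M] (i : ℤ) (n : ℕ) :
    ∃ (m : ℕ) (hnm : n ≤ m), ∀ e : DerivedCategory.Q.obj E ⟶ (shiftFunctor (Dual.D A) i).obj
        ((DerivedCategory.singleFunctor _ 0).obj (ModuleCat.of A (M ⧸ (I ^ m • ⊤ : Submodule A M)))),
      ∃ e₀ : DerivedCategory.Q.obj E ⟶ (shiftFunctor (Dual.D A) i).obj
        ((DerivedCategory.singleFunctor _ 0).obj M),
      e₀ ≫ (shiftFunctor (Dual.D A) i).map ((DerivedCategory.singleFunctor _ 0).map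
          (ModuleCat.ofHom (I ^ n • ⊤ : Submodule A M).mkQ)) =
        e ≫ (shiftFunctor (Dual.D A) i).map ((DerivedCategory.singleFunctor _ 0).map
          (ModuleCat.ofHom (Submodule.mapQ (I ^ m • ⊤ : Submodule A M) (I ^ n • ⊤) LinearMap.id
            (Submodule.smul_mono_left (Ideal.pow_le_pow_right hnm))))) := by
  haveI := (hE (-i)).1
  haveI := (hE (-i)).2
  haveI := (hE (-i - 1)).1
  haveI := (hE (-i - 1)).2
  let d1 : (E.X (-i) →ₗ[A] M) →ₗ[A] (E.X (-i - 1) →ₗ[A] M) :=
    LinearMap.lcomp A M (E.d (-i - 1) (-i)).hom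
  obtain ⟨c, hc⟩ := Ideal.exists_pow_inf_eq_pow_smul I (LinearMap.range d1)
  refine ⟨n + c, Nat.le_add_right n c, fun e => ?_⟩
  obtain ⟨h, rfl⟩ := cls_surjective b hb hE e
  obtain ⟨h', hh'⟩ := Module.projective_lifting_property
    (I ^ (n + c) • ⊤ : Submodule A M).mkQ h.1 (Submodule.mkQ_surjective _)
  have h1 : d1 h' ∈ (I ^ (n + c) • ⊤ : Submodule A (E.X (-i - 1) →ₗ[A] M)) ⊓ LinearMap.range d1 :=
    ⟨mem_smul_top_of_forall _ _ fun x => (Submodule.Quotient.mk_eq_zero _).1
      ((LinearMap.congr_fun hh' _).trans (LinearMap.congr_fun (mem_cocyc.1 h.2) x)), ⟨h', rfl⟩⟩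
  rw [hc _ (Nat.le_add_left c n), Nat.add_sub_cancel] at h1
  have h2 := Submodule.smul_mono (le_refl (I ^ n)) inf_le_right h1
  rw [LinearMap.range_eq_map, ← Submodule.map_smul''] at h2
  obtain ⟨u, hu, hu'⟩ := h2
  have hz : h' - u ∈ Cocyc E i M := by
    show d1 (h' - u) = 0
    rw [map_sub, hu', sub_self]
  refine ⟨cls ⟨h' - u, hz⟩, ?_⟩
  rw [cls_comp, cls_comp]
  refine congrArg cls (Subtype.ext (LinearMap.ext fun x => ?_))
  have hx : u x ∈ (I ^ n • ⊤ : Submodule A M) := mem_smul_top_map _ (LinearMap.applyₗ x) hu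
  have hx' := LinearMap.congr_fun hh' x
  show Submodule.Quotient.mk (h' x - u x) = Submodule.mapQ (I ^ (n + c) • ⊤ : Submodule A M)
    (I ^ n • ⊤) LinearMap.id
      (Submodule.smul_mono_left (Ideal.pow_le_pow_right (Nat.le_add_right n c))) (h.1 x)
  rw [← hx']
  exact (Submodule.Quotient.eq _).2 (by simpa using hx)

end Groth.Agent.DRingPC
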