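import Groth.Agent.DRingPC.TorAmp
import Groth.Agent.DRingPC.Restrict
import Groth.Agent.DRingPC.BaseChange
import Mathlib.CategoryTheory.Abelian.Projective.Dimension

/-!
Operations on tor amplitude.
-/

set_option autoImplicit false
set_option linter.style.haveILetI false
universe u

open CategoryTheory CategoryTheory.Limits CategoryTheory.MonoidalCategory ZeroObject
open CategoryTheory.Pretriangulated Groth.Agent.PCohLib
open scoped TensorProduct

attribute [local instance] HasDerivedCategory.standard

namespace Groth.Agent.DRingPC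

variable {A : Type u} [CommRing A]

lemma torAmp_of_isZero {K : Dual.D A} (h : IsZero K) (a b : ℤ) :
    DRing.HasTorAmplitudeIn A a b K :=
  ⟨0, fun i _ => (HomologicalComplex.eval _ _ i).map_isZero (isZero_zero _),
    fun i => (FL A).prop_of_isZero ((HomologicalComplex.eval _ _ i).map_isZero (isZero_zero _)),
    ⟨(DerivedCategory.Q.map_isZero (isZero_zero _)).iso h⟩⟩

lemma isZero_of_homology {K : Dual.D A}
    (h : ∀ i : ℤ, IsZero ((DerivedCategory.homologyFunctor _ i).obj K)) : IsZero K := by
  haveI : IsIso (0 : (0 : Dual.D A) ⟶ K) := (DerivedCategory.isIso_iff _ _).2 fun i =>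
    ⟨0, (Functor.map_isZero _ (isZero_zero _)).eq_of_src _ _, (h i).eq_of_src _ _⟩
  exact (isZero_zero _).of_iso (asIso (0 : (0 : Dual.D A) ⟶ K)).symm

lemma homotopy_of_Q_eq {P : DRing.Cx A} (hP : ∀ i, Module.Projective A (P.X i)) (b : ℤ)
    (hb : ∀ i, b < i → IsZero (P.X i)) {X : DRing.Cx A} (f g : P ⟶ X)
    (h : DerivedCategory.Q.map f = DerivedCategory.Q.map g) : Nonempty (Homotopy f g) := by
  haveI := isKProjective_of_mem (P := PR A) (PR.lift A) P hP b hb
  refine ⟨HomotopyCategory.homotopyOfEq _ _ ?_⟩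
  refine (CochainComplex.IsKProjective.Qh_map_bijective P _).injective ?_
  rw [← cancel_mono ((DerivedCategory.quotientCompQhIso _).hom.app _)]
  have n := (DerivedCategory.quotientCompQhIso (ModuleCat.{u} A)).hom.naturality f
  have n' := (DerivedCategory.quotientCompQhIso (ModuleCat.{u} A)).hom.naturality g
  exact n.trans ((congrArg _ h).trans n'.symm)

/-- Tor amplitude passes to retracts. -/
lemma torAmp_of_retract {K L : Dual.D A} (i : K ⟶ L) (r : L ⟶ K) (h : i ≫ r = 𝟙 K) {a b : ℤ}
    (hL : DRing.HasTorAmplitudeIn A a b L) : DRing.HasTorAmplitudeIn A a b K := by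
  haveI := isLE_of_torAmp hL
  haveI : K.IsLE b := (DerivedCategory.isLE_iff _ _).2 fun k hk => by
    haveI : Mono ((DerivedCategory.homologyFunctor (ModuleCat.{u} A) k).map i) :=
      mono_of_mono_fac (show _ ≫ (DerivedCategory.homologyFunctor _ k).map r = 𝟙 _ by
        rw [← Functor.map_comp, h, CategoryTheory.Functor.map_id])
    exact IsZero.of_mono ((DerivedCategory.homologyFunctor (ModuleCat.{u} A) k).map i)
      (L.isZero_of_isLE b k hk)
  obtain ⟨P, hP, hPz, ⟨e⟩⟩ := exists_projective_rep A K b
  obtain ⟨R, hR, hRz, ⟨r'⟩⟩ := exists_projective_rep A L b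
  obtain ⟨f, hf⟩ := exists_Q_map_eq (P := PR A) (PR.lift A) P hP b hPz R (e.hom ≫ i ≫ r'.inv)
  obtain ⟨g, hg⟩ := exists_Q_map_eq (P := PR A) (PR.lift A) R hR b hRz P (r'.hom ≫ r ≫ e.inv)
  obtain ⟨H⟩ := homotopy_of_Q_eq hP b hPz (f ≫ g) (𝟙 P) (by
    rw [Functor.map_comp, hf, hg, Category.assoc, Category.assoc, Iso.inv_hom_id_assoc,
      reassoc_of% h, Iso.hom_inv_id, CategoryTheory.Functor.map_id])
  refine (torAmp_iff hP b hPz e a b).2 fun N k hk => ?_
  have hLk := (torAmp_iff hR b hRz r' a b).1 hL N k hk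
  rw [HomologicalComplex.exactAt_iff_isZero_homology] at hLk ⊢
  have he : HomologicalComplex.homologyMap ((tcx N).map f) k ≫
      HomologicalComplex.homologyMap ((tcx N).map g) k = 𝟙 _ := by
    rw [← HomologicalComplex.homologyMap_comp, ← Functor.map_comp,
      (((tensoringLeft (ModuleCat.{u} A)).obj N).mapHomotopy H).homologyMap_eq k, CategoryTheory.Functor.map_id,
      HomologicalComplex.homologyMap_id]
  haveI := mono_of_mono_fac he
  exact IsZero.of_mono (HomologicalComplex.homologyMap ((tcx N).map f) k) hLk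

lemma torAmp_of_terms (a b : ℤ) (K : DRing.Cx A) (c d : ℤ)
    (hcd : ∀ i, i < c ∨ d < i → IsZero (K.X i))
    (hK : ∀ i : ℤ, c ≤ i → i ≤ d → DRing.HasTorAmplitudeIn A (a - i) (b - i)
      ((DerivedCategory.singleFunctor _ 0).obj (K.X i))) :
    DRing.HasTorAmplitudeIn A a b (DerivedCategory.Q.obj K) := by
  obtain ⟨k, hk⟩ : ∃ k : ℕ, d < c + k := ⟨(d - c + 1).toNat, by lia⟩
  induction k generalizing K d with
  | zero =>
    refine torAmp_of_isZero (Functor.map_isZero _ ?_) a b
    exact IsZero.iff_id_eq_zero _ |>.2 (HomologicalComplex.hom_ext _ _ fun i =>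
      (hcd i (by lia)).eq_of_src _ _)
  | succ k ih =>
    by_cases hdc : d < c
    · refine torAmp_of_isZero (Functor.map_isZero _ ?_) a b
      exact IsZero.iff_id_eq_zero _ |>.2 (HomologicalComplex.hom_ext _ _ fun i =>
        (hcd i (by lia)).eq_of_src _ _)
    obtain ⟨S, hS, h₁, rfl, hz, hiso⟩ := exists_ses_top K d (hcd _ (Or.inr (by lia)))
    refine torAmp_triangle₂ (DerivedCategory.triangleOfSES_distinguished hS) ?_ ?_
    · exact torAmp_of_iso (torAmp_of_iso (torAmp_shift (hK d (by lia) le_rfl) (-d) a b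
        (by lia) (by lia)) (singleShiftIso (-d) d 0 (by lia) _))
        ((singleQIso d _).symm ≪≫ eqToIso (by rw [← h₁]; rfl))
    · refine ih S.X₃ (d - 1) (fun i hi => ?_) (fun i hc hi => ?_) (by lia)
      · by_cases hid : i = d
        · exact hid ▸ hz
        · obtain ⟨e⟩ := hiso i hid
          exact (hcd i (by lia)).of_iso e.symm
      · obtain ⟨e⟩ := hiso i (by lia)
        exact torAmp_of_iso (hK i hc (by lia)) ((DerivedCategory.singleFunctor _ 0).mapIso e)

lemma torAmp_of_homology (a b : ℤ) (K : Dual.D A) (c d : ℤ)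
    (hcd : ∀ i, i < c ∨ d < i → IsZero ((DerivedCategory.homologyFunctor _ i).obj K))
    (hK : ∀ i : ℤ, c ≤ i → i ≤ d → DRing.HasTorAmplitudeIn A (a - i) (b - i)
      ((DerivedCategory.singleFunctor _ 0).obj ((DerivedCategory.homologyFunctor _ i).obj K))) :
    DRing.HasTorAmplitudeIn A a b K := by
  obtain ⟨k, hk⟩ : ∃ k : ℕ, d < c + k := ⟨(d - c + 1).toNat, by lia⟩
  induction k generalizing K d with
  | zero => exact torAmp_of_isZero (isZero_of_homology fun i => hcd i (by lia)) a b
  | succ k ih =>
    by_cases hdc : d < c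
    · exact torAmp_of_isZero (isZero_of_homology fun i => hcd i (by lia)) a b
    haveI : K.IsLE d := (DerivedCategory.isLE_iff _ _).2 fun i hi => hcd i (Or.inr hi)
    obtain ⟨T, hT, rfl, hT₁, hlow, ⟨e⟩⟩ := exists_top_triangle K d
    refine torAmp_triangle₂ hT ?_ ?_
    · refine ih T.obj₁ (d - 1) (fun i hi => ?_) (fun i hc hi => ?_) (by lia)
      · by_cases hid : i < d
        · obtain ⟨e'⟩ := hlow i hid
          exact (hcd i (by lia)).of_iso e'
        · exact T.obj₁.isZero_of_isLE (d - 1) i (by lia)
      · obtain ⟨e'⟩ := hlow i (by lia)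
        exact torAmp_of_iso (hK i hc (by lia))
          ((DerivedCategory.singleFunctor _ 0).mapIso e'.symm)
    · exact torAmp_of_iso (torAmp_of_iso (torAmp_shift (hK d (by lia) le_rfl) (-d) a b
        (by lia) (by lia)) (singleShiftIso (-d) d 0 (by lia) _)) e.symm

lemma td_of_projDim {d : ℕ} (M : ModuleCat.{u} A) (h : HasProjectiveDimensionLT M (d + 1)) :
    TD d M := by
  induction d generalizing M with
  | zero =>
    haveI : Projective M := projective_iff_hasProjectiveDimensionLT_one.2 h
    haveI : Module.Projective A M := (IsProjective.iff_projective _).2 inferInstance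
    exact td_of_flat 0
  | succ d ih =>
    let π : ModuleCat.of A (M →₀ A) ⟶ M :=
      ModuleCat.ofHom (Finsupp.linearCombination A (id : M → M))
    haveI : Epi π := (ModuleCat.epi_iff_surjective _).2 (Finsupp.linearCombination_id_surjective A M)
    let S := ShortComplex.mk (kernel.ι π) π (kernel.condition π)
    have hS : S.ShortExact :=
      { exact := ShortComplex.exact_of_f_is_kernel S (kernelIsKernel π) }
    haveI hp : Module.Projective A (M →₀ A) := inferInstance
    haveI : Projective S.X₂ := (IsProjective.iff_projective (R := A) (M →₀ A)).1 hp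
    exact (td_shift hS (inferInstanceAs (Module.Flat A (M →₀ A))) d).2
      (ih _ ((hS.hasProjectiveDimensionLT_X₃_iff d inferInstance).1 h))

section Restrict

variable {B : Type u} [CommRing B] [Algebra A B]

lemma td_restrict {d : ℕ} (hB : TD d (ModuleCat.of A B)) (N : Type u) [AddCommGroup N] [Module A N]
    [Module B N] [IsScalarTower A B N] [Module.Flat B N] : TD d (ModuleCat.of A N) := by
  intro X p hp
  obtain ⟨q, rfl⟩ : ∃ q, p = q + 1 := ⟨p - 1, by lia⟩
  let P := projectiveResolution X
  have hb := (torIsZero_iff _ P _).1 (hB X (q + 1) hp)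
  rw [torIsZero_iff _ P]
  rw [← HomologicalComplex.exactAt_iff_isZero_homology,
    HomologicalComplex.exactAt_iff' _ (q + 2) (q + 1) q (by simp) (by simp),
    ShortComplex.ShortExact.moduleCat_exact_iff_function_exact] at hb ⊢
  show Function.Exact ((P.complex.d (q + 2) (q + 1)).hom.lTensor N)
    ((P.complex.d (q + 1) q).hom.lTensor N)
  let f := (P.complex.d (q + 2) (q + 1)).hom
  let g := (P.complex.d (q + 1) q).hom
  have hex : Function.Exact (f.baseChange B) (g.baseChange B) := hb
  have hN := Module.Flat.lTensor_exact (R := B) N hex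
  have comm : ∀ {X Y : Type u} [AddCommGroup X] [Module A X] [AddCommGroup Y] [Module A Y]
      (k : X →ₗ[A] Y) (z : N ⊗[B] (B ⊗[A] X)),
      TensorProduct.AlgebraTensorModule.cancelBaseChange A B B N Y ((k.baseChange B).lTensor N z) =
        k.lTensor N (TensorProduct.AlgebraTensorModule.cancelBaseChange A B B N X z) := by
    intro X Y _ _ _ _ k z
    induction z using TensorProduct.induction_on with
    | zero => simp
    | add z w hz hw => simp only [map_add, hz, hw]
    | tmul n t =>
      induction t using TensorProduct.induction_on with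
      | zero => simp
      | add t t' ht ht' => simp only [TensorProduct.tmul_add, map_add, ht, ht']
      | tmul c x => simp
  intro y
  obtain ⟨z, rfl⟩ := (TensorProduct.AlgebraTensorModule.cancelBaseChange A B B N _).surjective y
  rw [← comm, LinearEquiv.map_eq_zero_iff, hN z]
  constructor
  · rintro ⟨w, rfl⟩
    exact ⟨_, (comm f w).symm⟩
  · rintro ⟨w, hw⟩
    obtain ⟨w', rfl⟩ :=
      (TensorProduct.AlgebraTensorModule.cancelBaseChange A B B N _).surjective w
    rw [← comm] at hw
    exact ⟨w', (TensorProduct.AlgebraTensorModule.cancelBaseChange A B B N _).injective hw⟩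

/-- S6947. -/
lemma torAmp_restrict (d : ℕ) (hB : DRing.HasTorAmplitudeIn A (-(d : ℤ)) 0 (Dual.inD A B))
    {K : Dual.D B} {a b : ℤ} (hK : DRing.HasTorAmplitudeIn B a b K) :
    DRing.HasTorAmplitudeIn A (a - d) b ((DRing.restrictD (algebraMap A B)).obj K) := by
  obtain ⟨E, hz, hE, ⟨e⟩⟩ := hK
  refine torAmp_of_iso ?_ ((restrictQ (algebraMap A B) E).symm ≪≫
    (DRing.restrictD (algebraMap A B)).mapIso e)
  refine torAmp_of_terms (a - d) b _ a b
    (fun i hi => (ModuleCat.restrictScalars (algebraMap A B)).map_isZero (hz i hi)) fun i hia hib => ?_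
  letI : Module A (E.X i) := Module.compHom _ (algebraMap A B)
  haveI : IsScalarTower A B (E.X i) := IsScalarTower.of_algebraMap_smul fun _ _ => rfl
  haveI := hE i
  exact torAmp_mono ((td_iff_amplitude d _).1
    (td_restrict (((td_iff_amplitude d _).2 hB)) (E.X i))) (by lia) (by lia)

/-- S7001. -/
lemma torAmp_baseChange_flat [Module.Flat A B] {a b : ℤ} {M : Type u} [AddCommGroup M] [Module A M]
    (hM : DRing.HasTorAmplitudeIn A a b (Dual.inD A M)) :
    DRing.HasTorAmplitudeIn B a b (Dual.inD B (B ⊗[A] M)) := by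
  obtain ⟨E, hz, hE, ⟨e⟩⟩ := hM
  haveI := ModuleCat.preservesFiniteLimits_extendScalars_of_flat.{u} (f := algebraMap A B)
    (RingHom.flat_algebraMap_iff.2 inferInstance)
  let F := ModuleCat.extendScalars.{u, u, u} (algebraMap A B)
  haveI : PreservesFiniteColimits F := inferInstance
  refine ⟨(extCx (algebraMap A B)).obj E, fun i hi => F.map_isZero (hz i hi), fun i => ?_,
    ⟨(F.mapDerivedCategoryFactors.app E).symm ≪≫ F.mapDerivedCategory.mapIso e ≪≫
      (F.mapDerivedCategorySingleFunctor 0).app _ ≪≫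
      (DerivedCategory.singleFunctor _ 0).mapIso (extendEquiv A B M).symm⟩⟩
  haveI := hE i
  exact Module.Flat.of_linearEquiv (extendLEquiv A B (E.X i)).symm

end Restrict

end Groth.Agent.DRingPC
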