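import Groth.Agent.DRingPC.FibreLin
import Groth.Agent.DRingPC.TorAmpOps
import Groth.Agent.DRingPC.BaseChange
import Groth.Agent.LBC.Basic

/-!
Perfectness from the fibres at maximal ideals.
-/

set_option autoImplicit false
set_option linter.style.haveILetI false
universe u

open CategoryTheory CategoryTheory.Limits Groth.Agent.PCohLib

attribute [local instance] HasDerivedCategory.standard

namespace Groth.Agent.DRingPC

variable {A : Type u} [CommRing A]

/-- The fibres at maximal ideals have no cohomology in degree `i`. -/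
def FibreExact (E : DRing.Cx A) (i : ℤ) : Prop :=
  ∀ m : Ideal A, m.IsMaximal → ((tcx (ModuleCat.of A (A ⧸ m))).obj E).ExactAt i

lemma exactAt_iff_subsingleton_LBC {S : Type u} [CommRing S] [Algebra A S]
    [DRing.HasLBaseChange (algebraMap A S)] (E : DRing.Cx A) [E.IsKProjective] (i : ℤ) :
    Subsingleton (Dual.HD S ((DRing.LBaseChange (algebraMap A S)).obj (DerivedCategory.Q.obj E)) i) ↔
      ((tcx (ModuleCat.of A S)).obj E).ExactAt i := by
  rw [subsingleton_iff_isZero]
  refine (((DerivedCategory.homologyFunctor _ i).mapIso (LBC.valueIso (algebraMap A S) E)) ≪≫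
    homologyQIso _ i).isZero_iff.trans ?_
  rw [← HomologicalComplex.exactAt_iff_isZero_homology,
    HomologicalComplex.exactAt_iff' _ (i - 1) i (i + 1) (by simp) (by simp),
    HomologicalComplex.exactAt_iff' _ (i - 1) i (i + 1) (by simp) (by simp),
    ShortComplex.ShortExact.moduleCat_exact_iff_function_exact,
    ShortComplex.ShortExact.moduleCat_exact_iff_function_exact]
  have hd : ∀ (j k : ℤ) (x : TensorProduct A S (E.X j)),
      (((LBC.ext (algebraMap A S)).obj E).d j k).hom (extendLEquiv A S (E.X j) x) =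
        extendLEquiv A S (E.X k) ((E.d j k).hom.lTensor S x) := fun j k x => by
    induction x using TensorProduct.induction_on with
    | zero => rw [map_zero, map_zero, map_zero]; exact map_zero _
    | tmul c y => rfl
    | add x y hx hy =>
      rw [map_add, map_add, map_add]
      exact (map_add _ _ _).trans (congrArg₂ (· + ·) hx hy)
  exact Function.Exact.iff_of_ladder_addEquiv (extendLEquiv A S _).toAddEquiv
    (extendLEquiv A S _).toAddEquiv (extendLEquiv A S _).toAddEquiv
    (f₁₂ := ((E.d (i - 1) i).hom.lTensor S).toAddMonoidHom)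
    (f₂₃ := ((E.d i (i + 1)).hom.lTensor S).toAddMonoidHom)
    (g₁₂ := (((LBC.ext (algebraMap A S)).obj E).d (i - 1) i).hom.toAddMonoidHom)
    (g₂₃ := (((LBC.ext (algebraMap A S)).obj E).d i (i + 1)).hom.toAddMonoidHom)
    (AddMonoidHom.ext (hd (i - 1) i)) (AddMonoidHom.ext (hd i (i + 1)))

lemma exactAt_top (E : DRing.Cx A) (hE : ∀ i, FF A (E.X i)) (n : ℤ) (hz : IsZero (E.X (n + 1)))
    (h : FibreExact E n) : E.ExactAt n := by
  haveI := (hE n).1
  have hs : Function.Surjective (E.d (n - 1) n).hom := surjective_of_residual _ fun m hm => by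
    have hx := h m hm
    rw [HomologicalComplex.exactAt_iff' _ (n - 1) n (n + 1) (by simp) (by simp),
      ShortComplex.ShortExact.moduleCat_exact_iff_function_exact] at hx
    intro y
    refine (hx y).1 ?_
    have h0 : E.d n (n + 1) = 0 := hz.eq_of_tgt _ _
    show (E.d n (n + 1)).hom.lTensor (A ⧸ m) y = 0
    rw [h0, ModuleCat.hom_zero, LinearMap.lTensor_zero, LinearMap.zero_apply]
  rw [HomologicalComplex.exactAt_iff' _ (n - 1) n (n + 1) (by simp) (by simp),
    ShortComplex.ShortExact.moduleCat_exact_iff_function_exact]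
  intro y
  refine ⟨fun _ => hs y, fun _ => ?_⟩
  haveI := ModuleCat.subsingleton_of_isZero hz
  exact @Subsingleton.elim _ this _ _

lemma exact_of_fibre (E : DRing.Cx A) (hE : ∀ i, FF A (E.X i)) (i : ℤ) (h : FibreExact E i) :
    E.ExactAt i ∧ Module.Projective A (opcMod E (i + 1)) := by
  haveI := (hE i).1
  haveI := (hE (i + 1)).1
  haveI := (hE (i + 1)).2
  obtain ⟨h1, h2⟩ := split_of_residual (opcι E i (i + 1)) fun m hm =>
    (exactAt_tensor_iff E (ModuleCat.of A (A ⧸ m)) i (i + 1) rfl).1 (h m hm)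
  refine ⟨?_, ?_⟩
  · rw [HomologicalComplex.exactAt_iff' _ (i - 1) i (i + 1) (by simp) (by simp),
      ShortComplex.ShortExact.moduleCat_exact_iff_function_exact]
    intro y
    constructor
    · intro hy
      have : opcι E i (i + 1) (Submodule.Quotient.mk y) = 0 := hy
      exact (Submodule.Quotient.mk_eq_zero _).1 (h1 (this.trans (map_zero _).symm))
    · rintro ⟨x, rfl⟩
      exact ConcreteCategory.congr_hom (E.d_comp_d (i - 1) i (i + 1)) x
  · haveI := h2
    have hr : LinearMap.range (opcι E i (i + 1)) = LinearMap.range (E.d (i + 1 - 1) (i + 1)).hom := by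
      rw [show i + 1 - 1 = i by lia]
      exact Submodule.range_liftQ _ _ _
    exact Module.Projective.of_equiv (Submodule.quotEquivOfEq _ _ hr)

/-- A pseudo-coherent object with fibre cohomology in `[a, b]` is perfect of that amplitude. -/
lemma exists_rep_of_fibres {K : Dual.D A} (hK : DRing.IsPseudoCoherent' A K) (a b : ℤ)
    (hb : ∀ (E : DRing.Cx A) (b' : ℤ), (∀ i, FF A (E.X i)) → (∀ i, b' < i → IsZero (E.X i)) →
      Nonempty (DerivedCategory.Q.obj E ≅ K) → ∀ i, (i < a ∨ b < i) → FibreExact E i) :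
    DRing.IsPerfect A K ∧ DRing.HasTorAmplitudeIn A a b K := by
  have hPC := (isPC'_iff A K).1 hK
  have rep : ∀ n : ℤ, K.IsLE n → ∃ E : DRing.Cx A, (∀ i, FF A (E.X i)) ∧
      (∀ i, n < i → IsZero (E.X i)) ∧ Nonempty (DerivedCategory.Q.obj E ≅ K) := fun n hn => by
    obtain ⟨E, hE, hz, he⟩ := exists_strictPCAll_vanishing (FF.sum A) (FF.qs A) (FF.ql A)
      (m := n + 1) (DerivedCategory.Q.objObjPreimageIso K)
      (fun k => (hPC k).of_iso (DerivedCategory.Q.objObjPreimageIso K).symm)
      (fun i hi => K.isZero_of_isLE n i (by lia))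
    exact ⟨E, hE, fun i hi => hz i (by lia), he⟩
  have hle : K.IsLE b := by
    obtain ⟨n, hn⟩ := (hPC 0).isLE
    obtain ⟨k, hk⟩ : ∃ k : ℕ, n ≤ b + k := ⟨(n - b).toNat, by lia⟩
    induction k generalizing n with
    | zero =>
      haveI := hn
      exact (DerivedCategory.isLE_iff _ _).2 fun i hi => K.isZero_of_isLE n i (by lia)
    | succ k ih =>
      by_cases hnb : n ≤ b
      · haveI := hn
        exact (DerivedCategory.isLE_iff _ _).2 fun i hi => K.isZero_of_isLE n i (by lia)
      obtain ⟨E, hE, hz, ⟨e⟩⟩ := rep n hn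
      refine ih (n - 1) ((DerivedCategory.isLE_iff _ _).2 fun i hi => ?_) (by lia)
      refine IsZero.of_iso ?_ ((DerivedCategory.homologyFunctor _ i).mapIso e.symm ≪≫ homologyQIso E i)
      rw [← HomologicalComplex.exactAt_iff_isZero_homology]
      by_cases hin : i = n
      · subst hin
        exact exactAt_top E hE i (hz _ (by lia)) (hb E i hE hz ⟨e⟩ i (Or.inr (by lia)))
      · exact ShortComplex.exact_of_isZero_X₂ _ (hz i (by lia))
  obtain ⟨E, hE, hz, ⟨e⟩⟩ := rep b hle
  by_cases hab : a ≤ b
  · have hlow : ∀ i, i < a → E.ExactAt i ∧ Module.Projective A (opcMod E (i + 1)) := fun i hi =>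
      exact_of_fibre E hE i (hb E b hE hz ⟨e⟩ i (Or.inl hi))
    haveI : E.IsGE a := (CochainComplex.isGE_iff _ _).2 fun i hi => (hlow i hi).1
    have hop : FPj A (opcMod E a) := by
      haveI := (hE a).1
      have h := (hlow (a - 1) (by lia)).2
      rw [show a - 1 + 1 = a by lia] at h
      exact ⟨inferInstance, h⟩
    let E₁ := E.truncGE a
    have hE₁ : ∀ i, FPj A (E₁.X i) := fun i => by
      rcases lt_trichotomy i a with h | rfl | h
      · exact (FPj A).prop_of_isZero (E₁.isZero_of_isStrictlyGE a i h)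
      · exact (FPj A).prop_of_iso (opcModIso E i ≪≫ (E.truncGEXIsoOpcycles i).symm) hop
      · exact (FPj A).prop_of_iso (E.truncGEXIso a i h).symm (FF.toFPj A (hE i))
    have hzE₁ : DRing.VanishesOutside E₁ a b := fun i hi => by
      rcases hi with h | h
      · exact E₁.isZero_of_isStrictlyGE a i h
      · exact (hz i h).of_iso (E.truncGEXIso a i (by lia))
    let e₁ : DerivedCategory.Q.obj E₁ ≅ K :=
      (asIso (DerivedCategory.Q.map (E.πTruncGE a))).symm ≪≫ e
    exact ⟨⟨E₁, a, b, hzE₁, hE₁, ⟨e₁⟩⟩, E₁, hzE₁, fun i => flat_of_FPj (hE₁ i), ⟨e₁⟩⟩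
  · have hzero : IsZero K := isZero_of_homology fun i => by
      refine IsZero.of_iso ?_ ((DerivedCategory.homologyFunctor _ i).mapIso e.symm ≪≫ homologyQIso E i)
      rw [← HomologicalComplex.exactAt_iff_isZero_homology]
      exact (exact_of_fibre E hE i (hb E b hE hz ⟨e⟩ i (by lia))).1
    exact ⟨isPerfect_of_isZero hzero, torAmp_of_isZero hzero a b⟩

end Groth.Agent.DRingPC
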