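import Mathlib.RingTheory.LocalRing.Module
import Mathlib.RingTheory.LocalProperties.Projective
import Mathlib.RingTheory.LocalProperties.Submodule
import Mathlib.RingTheory.Localization.BaseChange
import Mathlib.RingTheory.Finiteness.Nakayama
import Mathlib.LinearAlgebra.TensorProduct.Quotient
import Mathlib.RingTheory.Flat.Basic

/-!
Linear algebra over all residue fields at maximal ideals.
-/

set_option autoImplicit false
set_option linter.style.haveILetI false
universe u

open scoped TensorProduct

namespace Groth.Agent.DRingPC

variable {R : Type u} [CommRing R] {M F : Type u} [AddCommGroup M] [Module R M]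
  [AddCommGroup F] [Module R F]

lemma cancelBaseChange_natural {S L : Type u} [CommRing S] [Algebra R S] [AddCommGroup L]
    [Module R L] [Module S L] [IsScalarTower R S L] (f : M →ₗ[R] F) (z : L ⊗[S] (S ⊗[R] M)) :
    TensorProduct.AlgebraTensorModule.cancelBaseChange R S S L F ((f.baseChange S).lTensor L z) =
      f.lTensor L (TensorProduct.AlgebraTensorModule.cancelBaseChange R S S L M z) := by
  induction z using TensorProduct.induction_on with
  | zero => simp
  | add x y hx hy => simp only [map_add, hx, hy]
  | tmul l t =>
    induction t using TensorProduct.induction_on with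
    | zero => simp
    | add t t' ht ht' => simp only [TensorProduct.tmul_add, map_add, ht, ht']
    | tmul c x => simp

lemma surjective_of_residual [Module.Finite R F] (f : M →ₗ[R] F)
    (h : ∀ m : Ideal R, m.IsMaximal → Function.Surjective (f.lTensor (R ⧸ m))) :
    Function.Surjective f := by
  have hm : ∀ m : Ideal R, m.IsMaximal →
      (⊤ : Submodule R (F ⧸ LinearMap.range f)) ≤ m • (⊤ : Submodule R (F ⧸ LinearMap.range f)) := by
    intro m hm
    have h1 : Subsingleton ((R ⧸ m) ⊗[R] (F ⧸ LinearMap.range f)) := by
      refine ⟨fun a b => ?_⟩
      obtain ⟨a', rfl⟩ := LinearMap.lTensor_surjective (R ⧸ m) (Submodule.mkQ_surjective _) a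
      obtain ⟨b', rfl⟩ := LinearMap.lTensor_surjective (R ⧸ m) (Submodule.mkQ_surjective _) b
      obtain ⟨a'', rfl⟩ := h m hm a'
      obtain ⟨b'', rfl⟩ := h m hm b'
      rw [← LinearMap.lTensor_comp_apply, ← LinearMap.lTensor_comp_apply, LinearMap.range_mkQ_comp,
        LinearMap.lTensor_zero]
      rfl
    have h2 := (TensorProduct.quotTensorEquivQuotSMul (F ⧸ LinearMap.range f) m).symm.subsingleton
    exact (Submodule.Quotient.subsingleton_iff.1 h2).ge
  have key : Submodule.annihilator (⊤ : Submodule R (F ⧸ LinearMap.range f)) = ⊤ := by
    by_contra hne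
    obtain ⟨m, hmax, hle⟩ := Ideal.exists_le_maximal _ hne
    obtain ⟨r, hr1, hr2⟩ := Submodule.exists_sub_one_mem_and_smul_eq_zero_of_fg_of_le_smul m ⊤
      Module.Finite.fg_top (hm m hmax)
    have hrm : r ∈ m := hle (Submodule.mem_annihilator.2 hr2)
    exact hmax.ne_top ((Ideal.eq_top_iff_one m).2 (by simpa using sub_mem hrm hr1))
  intro y
  have := Submodule.mem_annihilator.1 (key ▸ Submodule.mem_top : (1 : R) ∈ _)
    (Submodule.Quotient.mk y : F ⧸ LinearMap.range f) Submodule.mem_top
  rw [one_smul] at this
  exact (Submodule.Quotient.mk_eq_zero _).1 this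

/-- Universally injective at all maximal residue fields implies split injective. -/
lemma split_of_residual [Module.Finite R M] [Module.Finite R F] [Module.Free R F] (f : M →ₗ[R] F)
    (h : ∀ m : Ideal R, m.IsMaximal → Function.Injective (f.lTensor (R ⧸ m))) :
    Function.Injective f ∧ Module.Projective R (F ⧸ LinearMap.range f) := by
  haveI : Module.FinitePresentation R (F ⧸ LinearMap.range f) :=
    Module.finitePresentation_of_free_of_surjective _ (Submodule.mkQ_surjective _) (by
      rw [Submodule.ker_mkQ, LinearMap.range_eq_map]
      exact (Module.Finite.fg_top).map f)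
  have key : ∀ (m : Ideal R) [m.IsMaximal],
      Function.Injective (f.baseChange (Localization.AtPrime m)) ∧
        Module.Free (Localization.AtPrime m)
          (Localization.AtPrime m ⊗[R] (F ⧸ LinearMap.range f)) := by
    intro m hm
    let S := Localization.AtPrime m
    let k := IsLocalRing.ResidueField S
    let e : (R ⧸ m) ≃ₗ[R] k :=
      LinearEquiv.ofBijective
        ({ toFun := IsLocalization.AtPrime.equivQuotMaximalIdeal m S
           map_add' := map_add _
           map_smul' := fun a x => by
            obtain ⟨x, rfl⟩ := Ideal.Quotient.mk_surjective x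
            show IsLocalization.AtPrime.equivQuotMaximalIdeal m S (Ideal.Quotient.mk m (a * x)) = _
            rw [IsLocalization.AtPrime.equivQuotMaximalIdeal_apply_mk,
              IsLocalization.AtPrime.equivQuotMaximalIdeal_apply_mk, map_mul, RingHom.id_apply,
              map_mul]
            exact (Algebra.smul_def (A := k) a _).symm } : (R ⧸ m) →ₗ[R] k)
        (IsLocalization.AtPrime.equivQuotMaximalIdeal m S).bijective
    have hk : Function.Injective (f.lTensor k) := by
      have e1 : ∀ z, f.lTensor k (e.toLinearMap.rTensor M z) =
          e.toLinearMap.rTensor F (f.lTensor (R ⧸ m) z) := fun z =>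
        LinearMap.congr_fun ((LinearMap.lTensor_comp_rTensor _ _ _).trans
          (LinearMap.rTensor_comp_lTensor _ _ _).symm) z
      rw [injective_iff_map_eq_zero]
      intro z hz
      obtain ⟨w, rfl⟩ := LinearMap.rTensor_surjective M e.surjective z
      have h2 : Function.Injective (e.toLinearMap.rTensor F) := (LinearEquiv.rTensor F e).injective
      rw [e1, LinearMap.map_eq_zero_iff _ h2, LinearMap.map_eq_zero_iff _ (h m hm)] at hz
      rw [hz, map_zero]
    have hk' : Function.Injective ((f.baseChange S).lTensor k) := by
      rw [injective_iff_map_eq_zero]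
      intro z hz
      have h2 := cancelBaseChange_natural (L := k) f z
      rw [hz, map_zero, eq_comm, LinearMap.map_eq_zero_iff _ hk, LinearEquiv.map_eq_zero_iff] at h2
      exact h2
    refine ⟨?_, ?_⟩
    · obtain ⟨r, hr⟩ := (IsLocalRing.split_injective_iff_lTensor_residueField_injective _).2 hk'
      exact Function.HasLeftInverse.injective ⟨r, LinearMap.congr_fun hr⟩
    · exact Module.free_of_lTensor_residueField_injective (f.baseChange S)
        ((LinearMap.range f).mkQ.baseChange S) (LinearMap.lTensor_surjective S (Submodule.mkQ_surjective _))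
        (lTensor_exact S (LinearMap.exact_map_mkQ_range f) (Submodule.mkQ_surjective _)) hk'
  refine ⟨?_, ?_⟩
  · rw [injective_iff_map_eq_zero]
    intro x hx
    refine Module.eq_zero_of_localization_maximal
      (fun P [P.IsMaximal] => Localization.AtPrime P ⊗[R] M)
      (fun P _ => TensorProduct.mk R (Localization.AtPrime P) M 1) x fun P _ => ?_
    apply (key P).1
    rw [map_zero, TensorProduct.mk_apply, LinearMap.baseChange_tmul, hx, TensorProduct.tmul_zero]
  · exact Module.projective_of_localization_maximal' (fun P [P.IsMaximal] => Localization.AtPrime P)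
      (fun P [P.IsMaximal] => Localization.AtPrime P ⊗[R] (F ⧸ LinearMap.range f))
      (fun P _ => TensorProduct.mk R (Localization.AtPrime P) _ 1) fun P hP => by
        haveI := (key P).2
        exact Module.Projective.of_free

end Groth.Agent.DRingPC
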