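import Groth.Agent.DRingPC.Perfect
import Groth.Agent.DRingPC.Amplitude

/-!
Perfect complexes are generated by `A`; maps out of pseudo-coherent complexes.
-/

set_option autoImplicit false
set_option linter.style.haveILetI false
set_option linter.unusedSectionVars false
universe u

open CategoryTheory CategoryTheory.Limits CategoryTheory.Pretriangulated Groth.Agent.PCohLib ZeroObject

attribute [local instance] HasDerivedCategory.standard

namespace Groth.Agent.DRingPC

variable {A : Type u} [CommRing A]

section Generate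

variable (P : ObjectProperty (Dual.D A)) [P.IsClosedUnderIsomorphisms]
  (hA : P (Dual.inD A A))
  (hshift : ∀ (K : Dual.D A) (n : ℤ), P K → P ((shiftFunctor (Dual.D A) n).obj K))
  (hext : ∀ T : Triangle (Dual.D A), T ∈ distinguishedTriangles → P T.obj₁ → P T.obj₃ → P T.obj₂)
  (hfac : ∀ (X Y : Dual.D A) [HasBinaryBiproduct X Y], P (X ⊞ Y) → P X)

include hA hshift hext hfac

lemma mem_zero : P 0 := by
  have hz : P (Dual.inD A A ⊞ (0 : Dual.D A)) :=
    P.prop_of_iso (isoBiprodZero (isZero_zero _)) hA
  exact hfac _ _ (P.prop_of_iso (biprod.braiding _ _) hz)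

lemma mem_single_of_FPj {M : ModuleCat.{u} A} (h : FPj A M) :
    P ((DerivedCategory.singleFunctor _ 0).obj M) := by
  haveI := h.1
  obtain ⟨n, f, hf⟩ := Module.Finite.exists_fin' A M
  have free : ∀ n : ℕ, P ((DerivedCategory.singleFunctor _ 0).obj (ModuleCat.of A (Fin n → A))) := by
    intro n
    induction n with
    | zero =>
      exact P.prop_of_iso ((isZero_zero _).iso (Functor.map_isZero _
        (ModuleCat.isZero_of_subsingleton (ModuleCat.of A (Fin 0 → A))))) (mem_zero P hA hshift hext hfac)
    | succ n ih =>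
      let S := ShortComplex.mk (biprod.inl : ModuleCat.of A A ⟶ _ ⊞ ModuleCat.of A (Fin n → A))
        biprod.snd biprod.inl_snd
      have hS : S.ShortExact :=
        (ShortComplex.Splitting.ofHasBinaryBiproduct (ModuleCat.of A A)
          (ModuleCat.of A (Fin n → A))).shortExact
      exact P.prop_of_iso ((DerivedCategory.singleFunctor _ 0).mapIso
        (ModuleCat.biprodIsoProd (ModuleCat.of A A) (ModuleCat.of A (Fin n → A)) ≪≫
          (Fin.consLinearEquiv A (fun _ => A)).toModuleIso))
        (hext _ hS.singleTriangle_distinguished hA ih)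
  let π : ModuleCat.of A (Fin n → A) ⟶ M := ModuleCat.ofHom f
  have hπ : Epi π := (ModuleCat.epi_iff_surjective π).2 hf
  haveI := FPj.lift A _ _ π hπ h
  let S := ShortComplex.mk (kernel.ι π) π (kernel.condition π)
  have hS : S.ShortExact :=
    { exact := ShortComplex.exact_of_f_is_kernel S (kernelIsKernel π) }
  let s := ShortComplex.Splitting.ofExactOfSection S hS.exact (section_ π) (IsSplitEpi.id _) hS.mono_f
  haveI : PreservesBinaryBiproducts (DerivedCategory.singleFunctor (ModuleCat.{u} A) 0) :=
    preservesBinaryBiproducts_of_preservesBiproducts _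
  exact hfac _ _ (P.prop_of_iso ((DerivedCategory.singleFunctor _ 0).mapIso s.isoBinaryBiproduct ≪≫
    (DerivedCategory.singleFunctor _ 0).mapBiprod _ _ ≪≫ biprod.braiding _ _) (free n))

lemma mem_of_perfect (K : Dual.D A) (hK : DRing.IsPerfect A K) : P K := by
  obtain ⟨E, a, b, hz, hE, ⟨e⟩⟩ := hK
  refine P.prop_of_iso e ?_
  clear e
  obtain ⟨k, hk⟩ : ∃ k : ℕ, b < a + k := ⟨(b - a + 1).toNat, by lia⟩
  have base : ∀ (E : DRing.Cx A), (∀ i, IsZero (E.X i)) → P (DerivedCategory.Q.obj E) := fun E hE => by
    have : IsZero E := by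
      refine (IsZero.iff_id_eq_zero E).2 ?_
      ext i : 1
      exact (hE i).eq_of_src _ _
    exact P.prop_of_iso ((isZero_zero _).iso (Functor.map_isZero _ this)) (mem_zero P hA hshift hext hfac)
  induction k generalizing E b with
  | zero => exact base E fun i => hz i (by lia)
  | succ k ih =>
    by_cases hba : b < a
    · exact base E fun i => hz i (by lia)
    obtain ⟨S, hS, h₁, rfl, hz₃, hiso⟩ := exists_ses_top E b (hz _ (by lia))
    refine hext _ (DerivedCategory.triangleOfSES_distinguished hS) ?_
      (ih S.X₃ (b - 1) (fun i hi => ?_) (fun i => ?_) (by lia))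
    · exact P.prop_of_iso (singleShiftIso (-b) b 0 (by lia) _ ≪≫ (singleQIso b _).symm ≪≫
        eqToIso (by rw [← h₁]; rfl)) (hshift _ (-b) (mem_single_of_FPj P hA hshift hext hfac (hE b)))
    · by_cases hib : i = b
      · exact hib ▸ hz₃
      · obtain ⟨e⟩ := hiso i hib
        exact (hz i (by lia)).of_iso e.symm
    · by_cases hib : i = b
      · exact (FPj A).prop_of_isZero (hib ▸ hz₃)
      · obtain ⟨e⟩ := hiso i hib
        exact (FPj A).prop_of_iso e (hE i)

end Generate

lemma exists_map_mono_homology {K : Dual.D A} (hK : DRing.IsPseudoCoherent' A K) (i : ℤ) :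
    ∃ (M : Type u) (_ : AddCommGroup M) (_ : Module A M) (_ : Module.FinitePresentation A M)
      (f : K ⟶ (shiftFunctor (Dual.D A) (-i)).obj (Dual.inD A M)),
      Mono ((DerivedCategory.homologyFunctor (ModuleCat.{u} A) i).map f) := by
  obtain ⟨E, b, hb, hE, ⟨e⟩⟩ := hK
  let g : E ⟶ (HomologicalComplex.single _ (ComplexShape.up ℤ) i).obj (E.opcycles i) :=
    HomologicalComplex.mkHomToSingle (E.pOpcycles i) (fun k _ => E.d_pOpcycles k i)
  have hg : Mono (HomologicalComplex.homologyMap g i) := by
    have h : HomologicalComplex.opcyclesMap g i ≫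
        (HomologicalComplex.singleObjOpcyclesSelfIso (ComplexShape.up ℤ) i (E.opcycles i)).inv = 𝟙 _ := by
      rw [← cancel_epi (E.pOpcycles i)]
      simp [g, HomologicalComplex.mkHomToSingle_f]
    haveI : IsSplitMono (HomologicalComplex.opcyclesMap g i) := IsSplitMono.mk' ⟨_, h⟩
    exact mono_of_mono_fac (HomologicalComplex.homologyι_naturality g i)
  refine ⟨E.opcycles i, inferInstance, inferInstance,
    finitePresentation_opcycles E (fun j => FF.toFPj A (hE j)) i,
    e.inv ≫ DerivedCategory.Q.map g ≫ (singleQIso i _).hom ≫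
      (singleShiftIso (-i) i 0 (by lia) _).inv, ?_⟩
  rw [Functor.map_comp, Functor.map_comp]
  haveI : Mono ((DerivedCategory.homologyFunctor (ModuleCat.{u} A) i).map (DerivedCategory.Q.map g)) :=
    by rw [homologyMap_Q]; infer_instance
  infer_instance

end Groth.Agent.DRingPC
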