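import Groth.Agent.DRingPC.TorAmpOps
import Mathlib.Algebra.Homology.HomotopyCategory.KProjective

/-!
Maps from complexes in degrees `≤ 0` with projective degree zero to complexes in degrees `≥ -1`.
-/

set_option autoImplicit false
set_option linter.style.haveILetI false
universe u

open CategoryTheory CategoryTheory.Limits Groth.Agent.PCohLib
open CochainComplex (mappingCone)

attribute [local instance] HasDerivedCategory.standard

namespace Groth.Agent.DRingPC.HomTwoTerm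

variable {A : Type u} [CommRing A] {M K : DRing.Cx A}

/-- The chain map with two nonzero components. -/
noncomputable def mkHom (hK : ∀ i : ℤ, i ≤ -2 → IsZero (K.X i)) (hM : ∀ i : ℤ, 0 < i → IsZero (M.X i))
    (f1 : M.X (-1) ⟶ K.X (-1)) (f0 : M.X 0 ⟶ K.X 0) (h1 : f1 ≫ K.d (-1) 0 = M.d (-1) 0 ≫ f0)
    (h0 : f0 ≫ K.d 0 1 = 0) (h2 : M.d (-2) (-1) ≫ f1 = 0) : M ⟶ K where
  f i := if h : i = 0 then h ▸ f0 else if h' : i = -1 then h' ▸ f1 else 0
  comm' i j hij := by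
    have hij' : i + 1 = j := hij
    by_cases hi0 : i = 0
    · subst hi0; obtain rfl : j = 1 := by lia
      simp only [↓reduceDIte, one_ne_zero, show (1 : ℤ) ≠ -1 by decide, comp_zero]
      exact h0
    by_cases hi1 : i = -1
    · subst hi1; obtain rfl : j = 0 := by lia
      simp only [show (-1 : ℤ) ≠ 0 by decide, ↓reduceDIte]
      exact h1
    by_cases hi2 : i = -2
    · subst hi2; obtain rfl : j = -1 := by lia
      simp only [show (-2 : ℤ) ≠ 0 by decide, show (-2 : ℤ) ≠ -1 by decide, show (-1 : ℤ) ≠ 0 by decide,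
        ↓reduceDIte, zero_comp]
      exact h2.symm
    rcases lt_or_ge 0 j with hj | hj
    · simp [hi0, hi1, show j ≠ 0 by lia, show j ≠ -1 by lia]
    · exact (hK j (by lia)).eq_of_tgt _ _

lemma mkHom_f0 (hK : ∀ i : ℤ, i ≤ -2 → IsZero (K.X i)) (hM : ∀ i : ℤ, 0 < i → IsZero (M.X i))
    (f1 : M.X (-1) ⟶ K.X (-1)) (f0 : M.X 0 ⟶ K.X 0) (h1 : f1 ≫ K.d (-1) 0 = M.d (-1) 0 ≫ f0)
    (h0 : f0 ≫ K.d 0 1 = 0) (h2 : M.d (-2) (-1) ≫ f1 = 0) : (mkHom hK hM f1 f0 h1 h0 h2).f 0 = f0 := rfl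

lemma mkHom_f1 (hK : ∀ i : ℤ, i ≤ -2 → IsZero (K.X i)) (hM : ∀ i : ℤ, 0 < i → IsZero (M.X i))
    (f1 : M.X (-1) ⟶ K.X (-1)) (f0 : M.X 0 ⟶ K.X 0) (h1 : f1 ≫ K.d (-1) 0 = M.d (-1) 0 ≫ f0)
    (h0 : f0 ≫ K.d 0 1 = 0) (h2 : M.d (-2) (-1) ≫ f1 = 0) : (mkHom hK hM f1 f0 h1 h0 h2).f (-1) = f1 := rfl

lemma quotient_eq_of_components (hK : ∀ i : ℤ, i ≤ -2 → IsZero (K.X i)) (hM : ∀ i : ℤ, 0 < i → IsZero (M.X i))
    (φ ψ : M ⟶ K) (k : M.X 0 ⟶ K.X (-1)) (e0 : φ.f 0 - ψ.f 0 = k ≫ K.d (-1) 0)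
    (e1 : φ.f (-1) - ψ.f (-1) = M.d (-1) 0 ≫ k) :
    (HomotopyCategory.quotient _ _).map φ = (HomotopyCategory.quotient _ _).map ψ := by
  let H : ∀ i j : ℤ, (ComplexShape.up ℤ).Rel j i → (M.X i ⟶ K.X j) := fun i j hij =>
    if hj : j = -1 then eqToHom (by have : j + 1 = i := hij; rw [show i = 0 by lia]) ≫ k ≫ eqToHom (by rw [hj])
    else 0
  have he : φ - ψ = Homotopy.nullHomotopicMap' H := by
    refine HomologicalComplex.hom_ext _ _ fun i => ?_
    rw [Homotopy.nullHomotopicMap'_f (show (ComplexShape.up ℤ).Rel (i - 1) i from by simp)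
      (show (ComplexShape.up ℤ).Rel i (i + 1) from rfl), HomologicalComplex.sub_f_apply]
    by_cases hi0 : i = 0
    · subst hi0
      simp only [H, show (0 : ℤ) ≠ -1 by decide, show (0 : ℤ) - 1 = -1 by decide, ↓reduceDIte, comp_zero,
        zero_add, eqToHom_refl, Category.id_comp, Category.comp_id]
      exact e0
    by_cases hi1 : i = -1
    · subst hi1
      simp only [H, show (-1 : ℤ) - 1 ≠ -1 by decide, show (-1 : ℤ) + 1 = 0 by decide, ↓reduceDIte,
        zero_comp, add_zero, eqToHom_refl, Category.id_comp, Category.comp_id]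
      exact e1
    rcases lt_or_ge 0 i with hi | hi
    · exact (hM i hi).eq_of_src _ _
    · exact (hK i (by lia)).eq_of_tgt _ _
  rw [← sub_eq_zero, ← Functor.map_sub, he, HomotopyCategory.eq_of_homotopy _ _ (Homotopy.nullHomotopy' H),
    Functor.map_zero]

lemma exists_components (hK : ∀ i : ℤ, i ≤ -2 → IsZero (K.X i)) (hM : ∀ i : ℤ, 0 < i → IsZero (M.X i))
    (φ ψ : M ⟶ K) (h : (HomotopyCategory.quotient _ _).map φ = (HomotopyCategory.quotient _ _).map ψ) :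
    ∃ k : M.X 0 ⟶ K.X (-1), φ.f 0 - ψ.f 0 = k ≫ K.d (-1) 0 ∧ φ.f (-1) - ψ.f (-1) = M.d (-1) 0 ≫ k := by
  let H := HomotopyCategory.homotopyOfEq _ _ h
  refine ⟨H.hom 0 (-1), ?_, ?_⟩
  · have hc := H.comm 0
    rw [dNext_eq _ (show (ComplexShape.up ℤ).Rel 0 1 from rfl),
      prevD_eq _ (show (ComplexShape.up ℤ).Rel (-1) 0 from rfl), (hM 1 one_pos).eq_of_tgt (M.d 0 1) 0,
      zero_comp, zero_add] at hc
    rw [hc, add_sub_cancel_right]
  · have hc := H.comm (-1)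
    rw [dNext_eq _ (show (ComplexShape.up ℤ).Rel (-1) 0 from rfl),
      prevD_eq _ (show (ComplexShape.up ℤ).Rel (-2) (-1) from rfl), (hK (-2) le_rfl).eq_of_src (K.d (-2) (-1)) 0,
      comp_zero, add_zero] at hc
    rw [hc, add_sub_cancel_right]

variable {P : DRing.Cx A}

/-- What quasi-isomorphism gives in low degrees. -/
lemma low_exact (hP : ∀ i : ℤ, 0 < i → IsZero (P.X i)) (hM : ∀ i : ℤ, 0 < i → IsZero (M.X i))
    (s : P ⟶ M) [QuasiIso s] :
    (∀ x : M.X 0, ∃ (u : M.X (-1)) (p : P.X 0), M.d (-1) 0 u + s.f 0 p = x) ∧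
    (∀ (u : M.X (-1)) (p : P.X 0), M.d (-1) 0 u + s.f 0 p = 0 → ∃ (y : P.X (-1)) (z : M.X (-2)),
      u = s.f (-1) y + M.d (-2) (-1) z ∧ p = -(P.d (-1) 0 y)) ∧
    ∀ (y : P.X (-1)) (z : M.X (-2)), s.f (-1) y + M.d (-2) (-1) z = 0 → P.d (-1) 0 y = 0 →
      ∃ a : P.X (-2), y = P.d (-2) (-1) a := by
  have hn : ∀ k, (mappingCone s).ExactAt k := fun k => by
    have hn : NQ (k - 1) s := ⟨fun l _ => inferInstance, inferInstance⟩
    exact hn.exactFrom k (by lia)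
  have hex : ∀ i j k : ℤ, i + 1 = j → j + 1 = k →
      Function.Exact ((mappingCone s).d i j) ((mappingCone s).d j k) := fun i j k hij hjk => by
    have := hn j
    rw [HomologicalComplex.exactAt_iff' _ i j k (by simp; omega) (by simp; omega),
      ShortComplex.ShortExact.moduleCat_exact_iff_function_exact] at this
    exact this
  have hd : ∀ (i j k : ℤ) (hij : i + 1 = j) (hjk : j + 1 = k) (x : (mappingCone s).X i),
      ((CochainComplex.mappingCone.fst s).1.v j k hjk) ((mappingCone s).d i j x) =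
        -(P.d j k ((CochainComplex.mappingCone.fst s).1.v i j hij x)) ∧
      ((CochainComplex.mappingCone.snd s).v j j (add_zero j)) ((mappingCone s).d i j x) =
        s.f j ((CochainComplex.mappingCone.fst s).1.v i j hij x) +
          M.d i j ((CochainComplex.mappingCone.snd s).v i i (add_zero i) x) := fun i j k hij hjk x =>
    ⟨ConcreteCategory.congr_hom (CochainComplex.mappingCone.d_fst_v s i j k hij hjk) x,
      ConcreteCategory.congr_hom (CochainComplex.mappingCone.d_snd_v s i j hij) x⟩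
  have hmk : ∀ (i j : ℤ) (hij : i + 1 = j) (p : P.X j) (m : M.X i), ∃ x : (mappingCone s).X i,
      (CochainComplex.mappingCone.fst s).1.v i j hij x = p ∧
      (CochainComplex.mappingCone.snd s).v i i (add_zero i) x = m := fun i j hij p m => by
    refine ⟨(CochainComplex.mappingCone.inl s).v j i (by omega) p + (CochainComplex.mappingCone.inr s).f i m, ?_, ?_⟩
    · rw [map_add, ← ModuleCat.comp_apply, ← ModuleCat.comp_apply, CochainComplex.mappingCone.inl_v_fst_v,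
        CochainComplex.mappingCone.inr_f_fst_v]
      simp
    · rw [map_add, ← ModuleCat.comp_apply, ← ModuleCat.comp_apply, CochainComplex.mappingCone.inl_v_snd_v,
        CochainComplex.mappingCone.inr_f_snd_v]
      simp
  have hzero : ∀ (i j : ℤ) (hij : i + 1 = j) (x : (mappingCone s).X i),
      (CochainComplex.mappingCone.fst s).1.v i j hij x = 0 →
      (CochainComplex.mappingCone.snd s).v i i (add_zero i) x = 0 → x = 0 := fun i j hij x h1 h2 => by
    have e := ConcreteCategory.congr_hom (CochainComplex.mappingCone.id_X s i j hij) x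
    simp only [ModuleCat.hom_add, ModuleCat.hom_comp, LinearMap.add_apply, LinearMap.comp_apply] at e
    rw [h1, h2, map_zero, map_zero, add_zero] at e
    exact e.symm
  have hP1 : ∀ p : P.X 1, p = 0 := fun p => by
    haveI := ModuleCat.subsingleton_of_isZero (hP 1 one_pos); exact Subsingleton.elim _ _
  have hM1 : ∀ m : M.X 1, m = 0 := fun p => by
    haveI := ModuleCat.subsingleton_of_isZero (hM 1 one_pos); exact Subsingleton.elim _ _
  refine ⟨fun x => ?_, fun u p h => ?_, fun y z h hy => ?_⟩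
  · obtain ⟨c, hc1, hc2⟩ := hmk 0 1 rfl 0 x
    have hcd : (mappingCone s).d 0 1 c = 0 := by
      refine hzero 1 2 rfl _ ?_ (hM1 _)
      rw [(hd 0 1 2 rfl rfl c).1, hc1, map_zero, neg_zero]
    obtain ⟨w, hw⟩ := (hex (-1) 0 1 rfl rfl c).1 hcd
    refine ⟨(CochainComplex.mappingCone.snd s).v (-1) (-1) (add_zero _) w,
      (CochainComplex.mappingCone.fst s).1.v (-1) 0 rfl w, ?_⟩
    rw [add_comm, ← (hd (-1) 0 1 rfl rfl w).2, hw, hc2]
  · obtain ⟨c, hc1, hc2⟩ := hmk (-1) 0 rfl p u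
    have hcd : (mappingCone s).d (-1) 0 c = 0 := by
      refine hzero 0 1 rfl _ (hP1 _) ?_
      rw [(hd (-1) 0 1 rfl rfl c).2, hc1, hc2, add_comm, h]
    obtain ⟨w, hw⟩ := (hex (-2) (-1) 0 rfl rfl c).1 hcd
    refine ⟨(CochainComplex.mappingCone.fst s).1.v (-2) (-1) rfl w,
      (CochainComplex.mappingCone.snd s).v (-2) (-2) (add_zero _) w, ?_, ?_⟩
    · rw [← (hd (-2) (-1) 0 rfl rfl w).2, hw, hc2]
    · rw [← (hd (-2) (-1) 0 rfl rfl w).1, hw, hc1]
  · obtain ⟨c, hc1, hc2⟩ := hmk (-2) (-1) rfl y z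
    have hcd : (mappingCone s).d (-2) (-1) c = 0 := by
      refine hzero (-1) 0 rfl _ ?_ ?_
      · rw [(hd (-2) (-1) 0 rfl rfl c).1, hc1, hy, neg_zero]
      · rw [(hd (-2) (-1) 0 rfl rfl c).2, hc1, hc2, h]
    obtain ⟨w, hw⟩ := (hex (-3) (-2) (-1) rfl rfl c).1 hcd
    exact ⟨-((CochainComplex.mappingCone.fst s).1.v (-3) (-2) rfl w), by
      rw [map_neg, ← (hd (-3) (-2) (-1) rfl rfl w).1, hw, hc1]⟩

theorem bijective_precomp (hP : ∀ i : ℤ, 0 < i → IsZero (P.X i)) (hM : ∀ i : ℤ, 0 < i → IsZero (M.X i))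
    (hM0 : Module.Projective A (M.X 0)) (hK : ∀ i : ℤ, i ≤ -2 → IsZero (K.X i)) (s : P ⟶ M) [QuasiIso s] :
    (∀ φ φ' : M ⟶ K, (HomotopyCategory.quotient _ _).map (s ≫ φ) = (HomotopyCategory.quotient _ _).map (s ≫ φ') →
      (HomotopyCategory.quotient _ _).map φ = (HomotopyCategory.quotient _ _).map φ') ∧
    ∀ ψ : P ⟶ K, ∃ φ : M ⟶ K, (HomotopyCategory.quotient _ _).map (s ≫ φ) = (HomotopyCategory.quotient _ _).map ψ := by
  obtain ⟨hA, hB, hC⟩ := low_exact hP hM s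
  let π : (M.X (-1) × P.X 0) →ₗ[A] M.X 0 := (M.d (-1) 0).hom.coprod (s.f 0).hom
  have hπ : Function.Surjective π := fun x => by
    obtain ⟨u, p, h⟩ := hA x
    exact ⟨(u, p), h⟩
  obtain ⟨σ, hσ⟩ := Module.projective_lifting_property π LinearMap.id hπ
  have hσ' : ∀ x, M.d (-1) 0 (σ x).1 + s.f 0 (σ x).2 = x := LinearMap.congr_fun hσ
  have hsd : ∀ y, s.f 0 (P.d (-1) 0 y) = M.d (-1) 0 (s.f (-1) y) := fun y =>
    (ConcreteCategory.congr_hom (s.comm (-1) 0) y).symm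
  have hrest : ∀ v : M.X (-1) × P.X 0, π (v - σ (π v)) = 0 := fun v => by
    rw [map_sub, show π (σ (π v)) = π v from LinearMap.congr_fun hσ _, sub_self]
  constructor
  · intro φ φ' hq
    obtain ⟨h, h0, h1⟩ := exists_components hK hP (s ≫ φ) (s ≫ φ') hq
    let χ := φ - φ'
    have h0' : ∀ p, χ.f 0 (s.f 0 p) = K.d (-1) 0 (h p) := fun p => by
      have := ConcreteCategory.congr_hom h0 p
      simpa [χ] using this
    have h1' : ∀ y, χ.f (-1) (s.f (-1) y) = h (P.d (-1) 0 y) := fun y => by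
      have := ConcreteCategory.congr_hom h1 y
      simpa [χ] using this
    have hcomm : ∀ u, K.d (-1) 0 (χ.f (-1) u) = χ.f 0 (M.d (-1) 0 u) := fun u =>
      ConcreteCategory.congr_hom (χ.comm (-1) 0) u
    have hdz : ∀ z, χ.f (-1) (M.d (-2) (-1) z) = 0 := fun z => by
      rw [← ModuleCat.comp_apply, ← χ.comm (-2) (-1), (hK (-2) le_rfl).eq_of_tgt (χ.f (-2)) 0, zero_comp]
      rfl
    let k : M.X 0 ⟶ K.X (-1) := ModuleCat.ofHom
      ((χ.f (-1)).hom ∘ₗ LinearMap.fst A _ _ ∘ₗ σ + h.hom ∘ₗ LinearMap.snd A _ _ ∘ₗ σ)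
    refine quotient_eq_of_components hK hM φ φ' k (ModuleCat.hom_ext (LinearMap.ext fun x => ?_))
      (ModuleCat.hom_ext (LinearMap.ext fun u => ?_))
    · show χ.f 0 x = K.d (-1) 0 (χ.f (-1) (σ x).1 + h (σ x).2)
      rw [map_add, hcomm, ← h0', ← map_add, hσ']
    · show χ.f (-1) u = χ.f (-1) (σ (M.d (-1) 0 u)).1 + h (σ (M.d (-1) 0 u)).2
      have h3 := hrest (u, 0)
      have hπu : π (u, 0) = M.d (-1) 0 u := by simp [π]
      rw [hπu] at h3
      obtain ⟨y, z, hy, hy'⟩ := hB (u - (σ (M.d (-1) 0 u)).1) ((0 : P.X 0) - (σ (M.d (-1) 0 u)).2) h3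
      rw [show (σ (M.d (-1) 0 u)).2 = P.d (-1) 0 y by simpa using congrArg Neg.neg hy', ← h1',
        ← map_add, ← sub_eq_zero, ← map_sub,
        show u - ((σ (M.d (-1) 0 u)).1 + s.f (-1) y) = M.d (-2) (-1) z by rw [← sub_sub, hy]; abel]
      exact hdz z
  · intro ψ
    let E : (P.X (-1) × M.X (-2)) →ₗ[A] (M.X (-1) × P.X 0) :=
      ((s.f (-1)).hom.coprod (M.d (-2) (-1)).hom).prod ((-(P.d (-1) 0).hom).comp (LinearMap.fst A _ _))
    let Ψ : (P.X (-1) × M.X (-2)) →ₗ[A] K.X (-1) := (ψ.f (-1)).hom ∘ₗ LinearMap.fst A _ _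
    have hker : LinearMap.ker E ≤ LinearMap.ker Ψ := by
      rintro ⟨y, z⟩ h
      obtain ⟨h1, h2⟩ := Prod.ext_iff.1 (LinearMap.mem_ker.1 h)
      obtain ⟨a, rfl⟩ := hC y z h1 (neg_eq_zero.1 h2)
      show ψ.f (-1) (P.d (-2) (-1) a) = 0
      rw [← ModuleCat.comp_apply, ← ψ.comm (-2) (-1), (hK (-2) le_rfl).eq_of_tgt (ψ.f (-2)) 0, zero_comp]
      rfl
    have hmem : ∀ v : M.X (-1) × P.X 0,
        ((LinearMap.id : (M.X (-1) × P.X 0) →ₗ[A] _) - σ ∘ₗ π) v ∈ LinearMap.range E := fun v => by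
      obtain ⟨y, z, h1, h2⟩ := hB _ _ (hrest v)
      exact ⟨(y, z), Prod.ext h1.symm h2.symm⟩
    let Φ : (M.X (-1) × P.X 0) →ₗ[A] K.X (-1) :=
      (Submodule.liftQ _ Ψ hker) ∘ₗ E.quotKerEquivRange.symm.toLinearMap ∘ₗ
        (LinearMap.id - σ ∘ₗ π).codRestrict _ hmem
    have hΦ : ∀ v y z, E (y, z) = v - σ (π v) → Φ v = ψ.f (-1) y := fun v y z h => by
      have : E.quotKerEquivRange.symm ⟨_, hmem v⟩ = Submodule.Quotient.mk (y, z) := by
        rw [LinearEquiv.symm_apply_eq]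
        exact Subtype.ext h.symm
      show (Submodule.liftQ _ Ψ hker) (E.quotKerEquivRange.symm ⟨_, hmem v⟩) = _
      rw [this]
      rfl
    have hψd : ∀ y, K.d (-1) 0 (ψ.f (-1) y) = ψ.f 0 (P.d (-1) 0 y) := fun y =>
      ConcreteCategory.congr_hom (ψ.comm (-1) 0) y
    let f1 : M.X (-1) ⟶ K.X (-1) := ModuleCat.ofHom (Φ ∘ₗ LinearMap.inl A _ _)
    let f0 : M.X 0 ⟶ K.X 0 := ModuleCat.ofHom ((ψ.f 0).hom ∘ₗ LinearMap.snd A _ _ ∘ₗ σ)
    have h1 : f1 ≫ K.d (-1) 0 = M.d (-1) 0 ≫ f0 := ModuleCat.hom_ext (LinearMap.ext fun u => by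
      obtain ⟨⟨y, z⟩, he⟩ := hmem (u, 0)
      show K.d (-1) 0 (Φ (u, 0)) = ψ.f 0 (σ (M.d (-1) 0 u)).2
      rw [hΦ (u, 0) y z he, hψd]
      refine congrArg (ψ.f 0) ?_
      have h2 := congrArg Prod.snd he
      have hπu : π (u, 0) = M.d (-1) 0 u := by simp [π]
      simp only [E, LinearMap.sub_apply, LinearMap.id_apply, LinearMap.comp_apply, hπu] at h2
      simpa using congrArg Neg.neg h2)
    have h0 : f0 ≫ K.d 0 1 = 0 := ModuleCat.hom_ext (LinearMap.ext fun x => by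
      show K.d 0 1 (ψ.f 0 _) = 0
      rw [← ModuleCat.comp_apply, ψ.comm 0 1, (hP 1 one_pos).eq_of_tgt (P.d 0 1) 0, zero_comp]
      rfl)
    have h2 : M.d (-2) (-1) ≫ f1 = 0 := ModuleCat.hom_ext (LinearMap.ext fun z => by
      show Φ (M.d (-2) (-1) z, 0) = 0
      have hπz : π (M.d (-2) (-1) z, 0) = 0 := by
        show M.d (-1) 0 (M.d (-2) (-1) z) + s.f 0 0 = 0
        rw [← ModuleCat.comp_apply, M.d_comp_d, map_zero, add_zero]
        rfl
      rw [hΦ _ 0 z (by rw [hπz, map_zero, sub_zero]; exact Prod.ext (by simp [E]) (by simp [E])), map_zero])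
    refine ⟨mkHom hK hM f1 f0 h1 h0 h2, ?_⟩
    refine quotient_eq_of_components hK hP _ _ (ModuleCat.ofHom (Φ ∘ₗ LinearMap.inr A _ _))
      (ModuleCat.hom_ext (LinearMap.ext fun p => ?_)) (ModuleCat.hom_ext (LinearMap.ext fun y => ?_))
    · show ψ.f 0 (σ (s.f 0 p)).2 - ψ.f 0 p = K.d (-1) 0 (Φ (0, p))
      obtain ⟨⟨y, z⟩, he⟩ := hmem (0, p)
      rw [hΦ (0, p) y z he, hψd, ← map_sub]
      refine congrArg (ψ.f 0) ?_
      have h3 := congrArg Prod.snd he
      have hπp : π (0, p) = s.f 0 p := by simp [π]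
      simp only [E, LinearMap.sub_apply, LinearMap.id_apply, LinearMap.comp_apply, hπp] at h3
      simp at h3
      rw [← neg_sub, ← h3, neg_neg]
    · show Φ (s.f (-1) y, 0) - ψ.f (-1) y = Φ (0, P.d (-1) 0 y)
      have hπe : π (s.f (-1) y, -(P.d (-1) 0 y)) = 0 := by
        show M.d (-1) 0 (s.f (-1) y) + s.f 0 (-(P.d (-1) 0 y)) = 0
        rw [map_neg, hsd, add_neg_cancel]
      have h4 := hΦ (s.f (-1) y, -(P.d (-1) 0 y)) y 0
        (by rw [hπe, map_zero, sub_zero]; exact Prod.ext (by simp [E]) (by simp [E]))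
      rw [show ((s.f (-1) y, -(P.d (-1) 0 y)) : M.X (-1) × P.X 0) = (s.f (-1) y, 0) - (0, P.d (-1) 0 y) by simp,
        map_sub] at h4
      rw [← h4]; abel

end Groth.Agent.DRingPC.HomTwoTerm
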