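import Groth.Agent.DRingPC.Module

/-!
Cohomology of pseudo-coherent objects of `D(A)`.
-/

set_option autoImplicit false
set_option linter.style.haveILetI false
universe u

open CategoryTheory CategoryTheory.Limits CategoryTheory.Pretriangulated Groth.Agent.PCohLib

attribute [local instance] HasDerivedCategory.standard

namespace Groth.Agent.DRingPC

variable {A : Type u} [CommRing A]

lemma NPC_of_homology' {m b : ℤ} {K : Dual.D A} [K.IsLE b]
    (h : ∀ i : ℤ, m ≤ i → i ≤ b → NPC (FF A) (m - i)
      ((DerivedCategory.singleFunctor _ 0).obj ((DerivedCategory.homologyFunctor _ i).obj K))) :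
    NPC (FF A) m K :=
  NPC_of_homology (FF.sum A) (FF.qs A) (FF.ql A) m K b fun i hi => by
    by_cases hib : i ≤ b
    · exact h i hi hib
    · exact finite_zero _ _ (K.isZero_of_isLE b i (by lia))

lemma finitePresentation_top {m : ℤ} {K : Dual.D A} [K.IsLE (m + 1)] (h : NPC (FF A) m K) :
    Module.FinitePresentation A ((DerivedCategory.homologyFunctor (ModuleCat.{u} A) (m + 1)).obj K) := by
  obtain ⟨T, hT, h₂, hT₁, -, ⟨e⟩⟩ := exists_top_triangle K (m + 1)
  have h₁ : NPC (FF A) (m + 1) T.obj₁ :=
    haveI := hT₁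
    NPC_of_isLE _ (b := m + 1 - 1) (by lia)
  have := ((NPC.of_triangle₃ (FF.sum A) (FF.qs A) (FF.ql A) hT h₁
    (h.of_iso (eqToIso h₂.symm))).of_iso e).single_shift 0 (-1) (by lia)
  exact (NPC_negOne_inD_iff _).1 this

end Groth.Agent.DRingPC
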