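import Groth.Agent.DRingPC.ProjAmp
import Mathlib.Algebra.Homology.Factorizations.CM5a
import Mathlib.Algebra.Category.ModuleCat.EnoughInjectives

/-!
Injective amplitude through maps out of cyclic modules.
-/

set_option autoImplicit false
set_option linter.style.haveILetI false
universe u

open CategoryTheory CategoryTheory.Limits Groth.Agent.PCohLib

attribute [local instance] HasDerivedCategory.standard

namespace Groth.Agent.DRingPC

variable {A : Type u} [CommRing A]

/-- `N` in degree `n`. -/
noncomputable abbrev sgl (n : ℤ) (N : ModuleCat.{u} A) : DRing.Cx A :=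
  (HomologicalComplex.single _ (ComplexShape.up ℤ) n).obj N

/-- `Hom(N, K[i]) = 0` kills the maps out of `N` in degree `i`. -/
lemma hom_eq_zero_of_extD {K : Dual.D A} {P : DRing.Cx A} (e : DerivedCategory.Q.obj P ≅ K) (i : ℤ)
    (N : ModuleCat.{u} A) (h : Subsingleton (DRing.ExtD A (Dual.inD A N) K i))
    (f : DerivedCategory.Q.obj (sgl i N) ⟶ DerivedCategory.Q.obj P) : f = 0 := by
  let t : DerivedCategory.Q.obj (sgl i N) ≅
      (shiftFunctor (Dual.D A) (-i)).obj ((DerivedCategory.singleFunctor _ 0).obj N) :=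
    singleQIso i N ≪≫ (singleShiftIso (-i) i 0 (by lia) N).symm
  rw [← cancel_mono e.hom, zero_comp, ← cancel_epi t.inv, comp_zero]
  apply (shiftFunctor (Dual.D A) i).map_injective
  rw [Functor.map_zero, ← cancel_epi ((shiftFunctorCompIsoId (Dual.D A) (-i) i (by lia)).inv.app
    ((DerivedCategory.singleFunctor _ 0).obj N)), comp_zero]
  exact @Subsingleton.elim (Dual.inD A N ⟶ (shiftFunctor (Dual.D A) i).obj K) h _ _

lemma exactAt_of_extD {K : Dual.D A} {P : DRing.Cx A} (e : DerivedCategory.Q.obj P ≅ K) (n : ℤ)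
    (h : Subsingleton (DRing.ExtD A (Dual.inD A (ModuleCat.of A A)) K n)) : P.ExactAt n := by
  rw [HomologicalComplex.exactAt_iff' _ (n - 1) n (n + 1) (by simp) (by simp),
    ShortComplex.ShortExact.moduleCat_exact_iff_function_exact]
  intro y
  refine ⟨fun hy => ?_, ?_⟩
  · have hy' : (P.d n (n + 1)).hom y = 0 := hy
    let g : sgl n (ModuleCat.of A A) ⟶ P := HomologicalComplex.mkHomFromSingle
      (ModuleCat.ofHom (LinearMap.toSpanSingleton A _ y)) (fun k hk => by
        obtain rfl : k = n + 1 := by have : n + 1 = k := hk; lia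
        refine ModuleCat.hom_ext (LinearMap.ext_ring ?_)
        rw [ModuleCat.hom_comp, LinearMap.comp_apply, ModuleCat.hom_ofHom, LinearMap.toSpanSingleton_apply, one_smul]
        exact hy')
    have hP : ∀ i, Module.Projective A ((sgl n (ModuleCat.of A A)).X i) := fun i => by
      by_cases hi : i = n
      · subst hi
        exact (PR A).prop_of_iso (HomologicalComplex.singleObjXSelf _ _ _).symm (inferInstanceAs (Module.Projective A A))
      · exact (PR A).prop_of_isZero (HomologicalComplex.isZero_single_obj_X _ _ _ _ hi)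
    obtain ⟨H⟩ := homotopy_of_Q_eq hP n (fun i hi => HomologicalComplex.isZero_single_obj_X _ _ _ _ (by lia)) g 0
      (by rw [hom_eq_zero_of_extD e n _ h (DerivedCategory.Q.map g), Functor.map_zero])
    have hc := H.comm n
    rw [dNext_eq _ (show (ComplexShape.up ℤ).Rel n (n + 1) from rfl),
      prevD_eq _ (show (ComplexShape.up ℤ).Rel (n - 1) n from by simp),
      HomologicalComplex.zero_f, add_zero, HomologicalComplex.single_obj_d, zero_comp, zero_add,
      HomologicalComplex.mkHomFromSingle_f] at hc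
    refine ⟨(H.hom n (n - 1)).hom ((HomologicalComplex.singleObjXSelf (ComplexShape.up ℤ) n (ModuleCat.of A A)).inv (1 : A)), ?_⟩
    have h2 := ConcreteCategory.congr_hom hc
      ((HomologicalComplex.singleObjXSelf (ComplexShape.up ℤ) n (ModuleCat.of A A)).inv (1 : A))
    simp only [ModuleCat.hom_comp, LinearMap.comp_apply, ModuleCat.hom_ofHom] at h2
    rw [← ModuleCat.comp_apply, Iso.inv_hom_id, ModuleCat.id_apply, LinearMap.toSpanSingleton_apply, one_smul] at h2
    exact h2.symm
  · rintro ⟨x, rfl⟩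
    exact ConcreteCategory.congr_hom (P.d_comp_d (n - 1) n (n + 1)) x

lemma exists_lift_of_hom_eq_zero {L : CochainComplex (ModuleCat.{u} A) ℤ} [L.IsKInjective] {n : ℤ}
    {N : ModuleCat.{u} A} (f : N ⟶ L.X n) (hf : f ≫ L.d n (n + 1) = 0)
    (h : ∀ φ : DerivedCategory.Q.obj (sgl n N) ⟶ DerivedCategory.Q.obj L, φ = 0) :
    ∃ k : N ⟶ L.X (n - 1), k ≫ L.d (n - 1) n = f := by
  let g : sgl n N ⟶ L := HomologicalComplex.mkHomFromSingle f (fun k hk => by
    obtain rfl : k = n + 1 := by have : n + 1 = k := hk; lia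
    exact hf)
  have hq : (HomotopyCategory.quotient _ _).map g = (HomotopyCategory.quotient _ _).map (0 : sgl n N ⟶ L) := by
    refine (CochainComplex.IsKInjective.Qh_map_bijective _ L).injective ?_
    rw [← cancel_mono ((DerivedCategory.quotientCompQhIso _).hom.app _)]
    have n1 := (DerivedCategory.quotientCompQhIso (ModuleCat.{u} A)).hom.naturality g
    have n0 := (DerivedCategory.quotientCompQhIso (ModuleCat.{u} A)).hom.naturality (0 : sgl n N ⟶ L)
    refine n1.trans ((congrArg _ ?_).trans n0.symm)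
    rw [h (DerivedCategory.Q.map g), Functor.map_zero]
  let H := HomotopyCategory.homotopyOfEq _ _ hq
  have hc := H.comm n
  rw [dNext_eq _ (show (ComplexShape.up ℤ).Rel n (n + 1) from rfl),
    prevD_eq _ (show (ComplexShape.up ℤ).Rel (n - 1) n from by simp),
    HomologicalComplex.zero_f, add_zero, HomologicalComplex.single_obj_d, zero_comp, zero_add,
    HomologicalComplex.mkHomFromSingle_f] at hc
  exact ⟨(HomologicalComplex.singleObjXSelf (ComplexShape.up ℤ) n N).inv ≫ H.hom n (n - 1), by
    rw [Category.assoc, ← hc, Iso.inv_hom_id_assoc]⟩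

/-- Vanishing of the maps out of cyclic modules bounds the injective amplitude. -/
lemma injAmp_of_extD {K : Dual.D A} (a b : ℤ)
    (h : ∀ (I : Ideal A) (i : ℤ), (i < a ∨ b < i) → Subsingleton (DRing.ExtD A (Dual.inD A (A ⧸ I)) K i)) :
    DRing.HasInjAmplitudeIn A a b K := by
  let e0 : ModuleCat.of A (A ⧸ (⊥ : Ideal A)) ≅ ModuleCat.of A A :=
    (Submodule.quotEquivOfEqBot (⊥ : Ideal A) rfl).toModuleIso
  have hA : ∀ i, (i < a ∨ b < i) → Subsingleton (DRing.ExtD A (Dual.inD A (ModuleCat.of A A)) K i) :=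
    fun i hi => ⟨fun f g => by
      rw [← cancel_epi ((DerivedCategory.singleFunctor _ 0).map e0.hom)]
      exact @Subsingleton.elim (Dual.inD A (A ⧸ (⊥ : Ideal A)) ⟶ (shiftFunctor (Dual.D A) i).obj K)
        (h ⊥ i hi) _ _⟩
  let P := DerivedCategory.Q.objPreimage K
  let e : DerivedCategory.Q.obj P ≅ K := DerivedCategory.Q.objObjPreimageIso K
  haveI : K.IsGE a := (DerivedCategory.isGE_iff K a).2 fun i hi =>
    ((HomologicalComplex.exactAt_iff_isZero_homology _ _).1 (exactAt_of_extD e i (hA i (Or.inl hi)))).of_iso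
      ((DerivedCategory.homologyFunctor _ i).mapIso e.symm ≪≫ homologyQIso P i)
  obtain ⟨L₀, _, ⟨e₀⟩⟩ := DerivedCategory.exists_iso_Q_obj_of_isGE K a
  obtain ⟨E, i, hq, hEinj, hEge⟩ := CochainComplex.Plus.modelCategoryQuillen.exists_quasiIso_injective L₀ a
  haveI := hEinj
  haveI := hEge
  haveI : E.IsKInjective := CochainComplex.isKInjective_of_injective E a
  let eE : DerivedCategory.Q.obj E ≅ K := (asIso (DerivedCategory.Q.map i)).symm ≪≫ e₀.symm
  have hex : ∀ n, b < n → E.ExactAt n := fun n hn => exactAt_of_extD eE n (hA n (Or.inr hn))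
  haveI : E.IsLE b := (CochainComplex.isLE_iff _ _).2 hex
  have hZ : Module.Injective A (LinearMap.ker (E.d b (b + 1)).hom) := by
    refine Module.Baer.injective fun I g => ?_
    haveI : Module.Injective A (E.X b) := Module.injective_module_of_injective_object A (E.X b)
    obtain ⟨g', hg'⟩ := (Module.Baer.of_injective (inferInstance : Module.Injective A (E.X b))) I
      ((LinearMap.ker (E.d b (b + 1)).hom).subtype ∘ₗ g)
    let φ : ModuleCat.of A (A ⧸ I) ⟶ E.X (b + 1) := ModuleCat.ofHom
      (Submodule.liftQ I ((E.d b (b + 1)).hom ∘ₗ g') fun x hx => by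
        rw [LinearMap.mem_ker, LinearMap.comp_apply, hg' x hx]
        exact (g ⟨x, hx⟩).2)
    have hφ : φ ≫ E.d (b + 1) (b + 1 + 1) = 0 := ModuleCat.hom_ext (Submodule.linearMap_qext _
      (LinearMap.ext fun x => ConcreteCategory.congr_hom (E.d_comp_d b (b + 1) (b + 1 + 1)) (g' x)))
    obtain ⟨k, hk⟩ := exists_lift_of_hom_eq_zero φ hφ
      (fun ψ => hom_eq_zero_of_extD eE (b + 1) (ModuleCat.of A (A ⧸ I)) (h I (b + 1) (Or.inr (by lia))) ψ)
    obtain ⟨k', hk'⟩ : ∃ k' : ModuleCat.of A (A ⧸ I) ⟶ E.X b, k' ≫ E.d b (b + 1) = φ := by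
      have key : ∀ j, j = b → ∀ (l : ModuleCat.of A (A ⧸ I) ⟶ E.X j), l ≫ E.d j (b + 1) = φ →
          ∃ k' : ModuleCat.of A (A ⧸ I) ⟶ E.X b, k' ≫ E.d b (b + 1) = φ := by
        rintro j rfl l hl; exact ⟨l, hl⟩
      exact key (b + 1 - 1) (by lia) k hk
    refine ⟨(g' - k'.hom ∘ₗ Submodule.mkQ I).codRestrict _ fun x => ?_, fun x hx => Subtype.ext ?_⟩
    · have h1 : (E.d b (b + 1)).hom (k'.hom (Submodule.Quotient.mk x)) = (E.d b (b + 1)).hom (g' x) :=
        ConcreteCategory.congr_hom hk' (Submodule.Quotient.mk x)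
      simp only [LinearMap.mem_ker, LinearMap.sub_apply, LinearMap.comp_apply, Submodule.mkQ_apply, map_sub,
        h1, sub_self]
    · simp only [LinearMap.codRestrict_apply, LinearMap.sub_apply, LinearMap.comp_apply, Submodule.mkQ_apply,
        (Submodule.Quotient.mk_eq_zero I).2 hx, map_zero, sub_zero]
      exact hg' x hx
  refine ⟨E.truncLE b, fun j hj => ?_, fun j => ?_,
    ⟨asIso (DerivedCategory.Q.map (E.ιTruncLE b)) ≪≫ eE⟩⟩
  · rcases lt_trichotomy j b with h | rfl | h
    · exact (E.isZero_of_isStrictlyGE a j (by lia)).of_iso (E.truncLEXIso b j h)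
    · exact (IsZero.of_mono (E.iCycles j) (E.isZero_of_isStrictlyGE a j (by lia))).of_iso
        (E.truncLEXIsoCycles j)
    · exact (E.truncLE b).isZero_of_isStrictlyLE b j h
  · rcases lt_trichotomy j b with h | rfl | h
    · haveI : Module.Injective A (E.X j) := Module.injective_module_of_injective_object A (E.X j)
      exact Module.Baer.injective (Module.Baer.of_equiv (E.truncLEXIso b j h).symm.toLinearEquiv (Module.Baer.of_injective inferInstance))
    · let c : E.cycles j ≅ ModuleCat.of A (LinearMap.ker (E.d j (j + 1)).hom) :=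
        (E.cyclesIsKernel j (j + 1) (by simp)).conePointUniqueUpToIso (ModuleCat.kernelIsLimit (E.d j (j + 1)))
      haveI := hZ
      exact Module.Baer.injective (Module.Baer.of_equiv (c.symm ≪≫ (E.truncLEXIsoCycles j).symm).toLinearEquiv (Module.Baer.of_injective inferInstance))
    · haveI := ModuleCat.subsingleton_of_isZero ((E.truncLE b).isZero_of_isStrictlyLE b j h)
      exact ⟨fun _ _ _ _ _ _ f hf g => ⟨0, fun x => Subsingleton.elim _ _⟩⟩

end Groth.Agent.DRingPC
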