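import Groth.Agent.DRingPC.Thicken

/-!
Derived base change: tor amplitude and pseudo-coherence.
-/

set_option autoImplicit false
set_option linter.style.haveILetI false
universe u

open CategoryTheory CategoryTheory.Limits CategoryTheory.MonoidalCategory
open CategoryTheory.Pretriangulated Groth.Agent.PCohLib

attribute [local instance] HasDerivedCategory.standard

namespace Groth.Agent.DRingPC

variable {A B : Type u} [CommRing A] [CommRing B] (φ : A →+* B)

lemma torVanish_ext {P : DRing.Cx A} {a b : ℤ} (h : TorVanish P a b) :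
    TorVanish ((LBC.ext φ).obj P) a b := fun N i hi => by
  letI := φ.toAlgebra
  letI : Module A N := Module.compHom N φ
  haveI : IsScalarTower A B N := IsScalarTower.of_algebraMap_smul fun _ _ => rfl
  exact (exactAt_tensor_cancel (S := B) N P i).2 (h (ModuleCat.of A N) i hi)

variable [DRing.HasLBaseChange φ]

/-- Derived base change read off a K-flat representative. -/
noncomputable def lbcRep {K : Dual.D A} {P : DRing.Cx A} (hP : DRing.IsKFlat A P)
    (e : DerivedCategory.Q.obj P ≅ K) :
    DerivedCategory.Q.obj ((LBC.ext φ).obj P) ≅ (DRing.LBaseChange φ).obj K :=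
  (lbcValueIso φ P hP).symm ≪≫ (DRing.LBaseChange φ).mapIso e

lemma hasTorAmplitude_LBC {K : Dual.D A} {a b : ℤ} (h : DRing.HasTorAmplitudeIn A a b K) :
    DRing.HasTorAmplitudeIn B a b ((DRing.LBaseChange φ).obj K) := by
  obtain ⟨P, hP, -, ⟨e⟩⟩ := exists_kFlat_rep K
  exact (torAmp_iff_kFlat (KFlat.isKFlat_ext φ hP) (lbcRep φ hP e) a b).2
    (torVanish_ext φ ((torAmp_iff_kFlat hP e a b).1 h))

lemma isPC'_LBC {K : Dual.D A} (h : DRing.IsPseudoCoherent' A K) :
    DRing.IsPseudoCoherent' B ((DRing.LBaseChange φ).obj K) := by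
  rw [isPC'_iff] at h ⊢
  obtain ⟨n, hn⟩ := (h 0).isLE
  obtain ⟨E, hE, hz, ⟨e⟩⟩ := exists_strictPCAll_vanishing (FF.sum A) (FF.qs A) (FF.ql A)
    (m := n + 1) (DerivedCategory.Q.objObjPreimageIso K)
    (fun k => (h k).of_iso (DerivedCategory.Q.objObjPreimageIso K).symm)
    (fun i hi => K.isZero_of_isLE n i (by lia))
  haveI := isKProjective_of_mem (P := FPj A) (FPj.lift A) E (fun j => FF.toFPj A (hE j)) n
    (fun i hi => hz i (by lia))
  exact fun m => NPC.mk (E := (LBC.ext φ).obj E)
    ⟨⟨n, fun i hi => (ModuleCat.extendScalars.{u, u, u} φ).map_isZero (hz i (by lia))⟩,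
      fun i _ => FF_extend φ (hE i)⟩
    ((LBC.valueIso φ E).symm ≪≫ (DRing.LBaseChange φ).mapIso e)

end Groth.Agent.DRingPC
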