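import Groth.Agent.DRingPC.Fibre
import Groth.Agent.DRingPC.Homology
import Groth.Agent.KFlat.RingFlat
import Groth.Agent.KFlat.BaseChange
import Groth.Agent.LBC.Basic

/-!
Perfectness lifts along nilpotent ideals.
-/

set_option autoImplicit false
set_option linter.style.haveILetI false
universe u

open CategoryTheory CategoryTheory.Limits CategoryTheory.MonoidalCategory
open CategoryTheory.Pretriangulated Groth.Agent.PCohLib
open CochainComplex (mappingCone)

attribute [local instance] HasDerivedCategory.standard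

namespace Groth.Agent.DRingPC

variable {A : Type u} [CommRing A]

/-- `N ⊗ P` against `single N ⊗ P`. -/
noncomputable def tcxSingleIso (N : ModuleCat.{u} A) (P : DRing.Cx A) :
    (tcx N).obj P ≅ (HomologicalComplex.single _ (ComplexShape.up ℤ) 0).obj N ⊗ P :=
  (NatIso.mapHomologicalComplex (NatIso.ofComponents (fun Y => β_ N Y) (fun f => by simp) :
      (tensoringLeft (ModuleCat.{u} A)).obj N ≅ (curriedTensor (ModuleCat.{u} A)).flip.obj N)
      (ComplexShape.up ℤ)).app P ≪≫
    KFlat.singleIso (curriedTensor (ModuleCat.{u} A)) P N ≪≫ DTen.braidCx P _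

lemma exactAt_tensor_of_quasiIso {P Q : DRing.Cx A} (hP : DRing.IsKFlat A P)
    (hQ : DRing.IsKFlat A Q) (f : P ⟶ Q) (hf : QuasiIso f) (N : ModuleCat.{u} A) (i : ℤ) :
    ((tcx N).obj P).ExactAt i ↔ ((tcx N).obj Q).ExactAt i := by
  rw [HomologicalComplex.exactAt_iff_isZero_homology, HomologicalComplex.exactAt_iff_isZero_homology]
  have : IsIso (HomologicalComplex.homologyMap
      ((HomologicalComplex.single _ (ComplexShape.up ℤ) 0).obj N ◁ f) i) :=
    (quasiIsoAt_iff_isIso_homologyMap _ _).1 ((KFlat.quasiIso_whiskerLeft_of_kFlat hP hQ f hf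
      ((HomologicalComplex.single _ (ComplexShape.up ℤ) 0).obj N)).quasiIsoAt i)
  exact ((HomologicalComplex.homologyFunctor _ _ i).mapIso (tcxSingleIso N P) ≪≫
    @asIso _ _ _ _ _ this ≪≫
    ((HomologicalComplex.homologyFunctor _ _ i).mapIso (tcxSingleIso N Q)).symm).isZero_iff

lemma ext_d_extendLEquiv {S : Type u} [CommRing S] [Algebra A S] (E : DRing.Cx A) (j k : ℤ)
    (x : TensorProduct A S (E.X j)) :
    (((LBC.ext (algebraMap A S)).obj E).d j k).hom (extendLEquiv A S (E.X j) x) =
      extendLEquiv A S (E.X k) (((E.d j k).hom.baseChange S) x) := by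
  induction x using TensorProduct.induction_on with
  | zero => rw [map_zero, map_zero, map_zero]; exact map_zero _
  | tmul c y => rfl
  | add x y hx hy =>
    rw [map_add, map_add, map_add]
    exact (map_add _ _ _).trans (congrArg₂ (· + ·) hx hy)

/-- Tensoring with a module over `S` factors through base change. -/
lemma exactAt_tensor_cancel {S : Type u} [CommRing S] [Algebra A S] (N : Type u) [AddCommGroup N]
    [Module A N] [Module S N] [IsScalarTower A S N] (E : DRing.Cx A) (i : ℤ) :
    ((tcx (ModuleCat.of S N)).obj ((LBC.ext (algebraMap A S)).obj E)).ExactAt i ↔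
      ((tcx (ModuleCat.of A N)).obj E).ExactAt i := by
  rw [HomologicalComplex.exactAt_iff' _ (i - 1) i (i + 1) (by simp) (by simp),
    HomologicalComplex.exactAt_iff' _ (i - 1) i (i + 1) (by simp) (by simp),
    ShortComplex.ShortExact.moduleCat_exact_iff_function_exact,
    ShortComplex.ShortExact.moduleCat_exact_iff_function_exact]
  let e : ∀ j, TensorProduct S N (((LBC.ext (algebraMap A S)).obj E).X j) ≃+
      TensorProduct A N (E.X j) := fun j =>
    ((extendLEquiv A S (E.X j)).symm.lTensor N).toAddEquiv.trans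
      (TensorProduct.AlgebraTensorModule.cancelBaseChange A S S N (E.X j)).toAddEquiv
  have hd : ∀ (j k : ℤ) (z : TensorProduct S N (((LBC.ext (algebraMap A S)).obj E).X j)),
      (E.d j k).hom.lTensor N (e j z) =
        e k ((((LBC.ext (algebraMap A S)).obj E).d j k).hom.lTensor N z) := fun j k z => by
    induction z using TensorProduct.induction_on with
    | zero => simp
    | add x y hx hy => simp only [map_add, hx, hy]
    | tmul l t =>
      obtain ⟨t, rfl⟩ := (extendLEquiv A S (E.X j)).surjective t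
      show (E.d j k).hom.lTensor N (TensorProduct.AlgebraTensorModule.cancelBaseChange A S S N (E.X j)
          (l ⊗ₜ[S] (extendLEquiv A S (E.X j)).symm (extendLEquiv A S (E.X j) t))) =
        TensorProduct.AlgebraTensorModule.cancelBaseChange A S S N (E.X k) (l ⊗ₜ[S]
          (extendLEquiv A S (E.X k)).symm
            ((((LBC.ext (algebraMap A S)).obj E).d j k).hom (extendLEquiv A S (E.X j) t)))
      rw [ext_d_extendLEquiv, LinearEquiv.symm_apply_apply, LinearEquiv.symm_apply_apply]
      exact (cancelBaseChange_natural (E.d j k).hom (l ⊗ₜ[S] t)).symm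
  refine (Function.Exact.iff_of_ladder_addEquiv (e _) (e _) (e _)
    (f₁₂ := ((((LBC.ext (algebraMap A S)).obj E).d (i - 1) i).hom.lTensor N).toAddMonoidHom)
    (f₂₃ := ((((LBC.ext (algebraMap A S)).obj E).d i (i + 1)).hom.lTensor N).toAddMonoidHom)
    (g₁₂ := ((E.d (i - 1) i).hom.lTensor N).toAddMonoidHom)
    (g₂₃ := ((E.d i (i + 1)).hom.lTensor N).toAddMonoidHom)
    (AddMonoidHom.ext (hd (i - 1) i)) (AddMonoidHom.ext (hd i (i + 1)))).symm

/-- Dévissage along the powers of an ideal. -/
lemma exactAt_tensor_of_pow (I : Ideal A) (P : DRing.Cx A) (hfl : ∀ j, Module.Flat A (P.X j)) (i : ℤ)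
    (h : ∀ N : ModuleCat.{u} A, Module.IsTorsionBySet A N I → ((tcx N).obj P).ExactAt i) :
    ∀ (k : ℕ) (N : ModuleCat.{u} A), I ^ k • (⊤ : Submodule A N) = ⊥ →
      ((tcx N).obj P).ExactAt i := by
  intro k
  induction k with
  | zero =>
    intro N hN
    rw [pow_zero, Ideal.one_eq_top, Submodule.top_smul] at hN
    haveI : Subsingleton N := by
      rw [← Submodule.subsingleton_iff A, ← subsingleton_iff_bot_eq_top]
      exact hN.symm
    exact ShortComplex.exact_of_isZero_X₂ _
      (ModuleCat.isZero_of_subsingleton (ModuleCat.of A (TensorProduct A N (P.X i))))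
  | succ k ih =>
    intro N hN
    let N' : Submodule A N := I ^ k • ⊤
    have h' : ((tcx (ModuleCat.of A N')).obj P).ExactAt i := h _ (fun x r => Subtype.ext (by
      have : (r : A) • (x : N) ∈ I • N' := Submodule.smul_mem_smul r.2 x.2
      rw [← Submodule.mul_smul, ← pow_succ', hN] at this
      exact this))
    have h'' : ((tcx (ModuleCat.of A (N ⧸ N'))).obj P).ExactAt i := ih _ (by
      show I ^ k • (⊤ : Submodule A (N ⧸ N')) = ⊥
      rw [← Submodule.range_mkQ N', LinearMap.range_eq_map, ← Submodule.map_smul'']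
      exact Submodule.mkQ_map_self N')
    rw [HomologicalComplex.exactAt_iff' _ (i - 1) i (i + 1) (by simp) (by simp),
      ShortComplex.ShortExact.moduleCat_exact_iff_function_exact] at h' h'' ⊢
    show Function.Exact ((P.d (i - 1) i).hom.lTensor N) ((P.d i (i + 1)).hom.lTensor N)
    change Function.Exact ((P.d (i - 1) i).hom.lTensor N') ((P.d i (i + 1)).hom.lTensor N') at h'
    change Function.Exact ((P.d (i - 1) i).hom.lTensor (N ⧸ N'))
      ((P.d i (i + 1)).hom.lTensor (N ⧸ N')) at h''
    have hc : ∀ {M₁ M₂ : Type u} [AddCommGroup M₁] [Module A M₁] [AddCommGroup M₂] [Module A M₂]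
        (g : M₁ →ₗ[A] M₂) (j l : ℤ) (x : TensorProduct A M₁ (P.X j)),
        g.rTensor (P.X l) ((P.d j l).hom.lTensor M₁ x) =
          (P.d j l).hom.lTensor M₂ (g.rTensor (P.X j) x) := fun g j l x =>
      LinearMap.congr_fun ((LinearMap.rTensor_comp_lTensor _ _ _).trans
        (LinearMap.lTensor_comp_rTensor _ _ _).symm) x
    intro y
    refine ⟨fun hy => ?_, ?_⟩
    · obtain ⟨z', hz'⟩ := (h'' (N'.mkQ.rTensor (P.X i) y)).1 (by rw [← hc, hy, map_zero])
      obtain ⟨z, rfl⟩ := LinearMap.rTensor_surjective (P.X (i - 1)) N'.mkQ_surjective z'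
      obtain ⟨w, hw⟩ := (rTensor_exact (P.X i) (LinearMap.exact_subtype_mkQ N') N'.mkQ_surjective
        (y - (P.d (i - 1) i).hom.lTensor N z)).1 (by rw [map_sub, hc, hz', sub_self])
      have hinj : Function.Injective (N'.subtype.rTensor (P.X (i + 1))) := by
        haveI := hfl (i + 1)
        exact Module.Flat.rTensor_preserves_injective_linearMap _ N'.subtype_injective
      obtain ⟨v, hv⟩ := (h' w).1 (hinj (by
        rw [map_zero, hc, hw, map_sub, hy, zero_sub, neg_eq_zero, ← LinearMap.lTensor_comp_apply,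
          ← ModuleCat.hom_comp, P.d_comp_d, ModuleCat.hom_zero, LinearMap.lTensor_zero,
          LinearMap.zero_apply]))
      refine ⟨z + N'.subtype.rTensor (P.X (i - 1)) v, ?_⟩
      rw [map_add, ← hc, hv, hw, add_sub_cancel]
    · rintro ⟨x, rfl⟩
      rw [← LinearMap.lTensor_comp_apply, ← ModuleCat.hom_comp, P.d_comp_d, ModuleCat.hom_zero,
        LinearMap.lTensor_zero, LinearMap.zero_apply]

/-- Derived base change of a K-flat complex. -/
noncomputable def lbcValueIso {B : Type u} [CommRing B] (φ : A →+* B) [DRing.HasLBaseChange φ]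
    (P : DRing.Cx A) (hP : DRing.IsKFlat A P) :
    (DRing.LBaseChange φ).obj (DRing.toD P) ≅ DRing.toD ((LBC.ext φ).obj P) :=
  haveI := LBC.isIso_counit_of_kFlat φ P hP
  (DRing.LBaseChange φ).mapIso ((DerivedCategory.quotientCompQhIso (ModuleCat.{u} A)).app P).symm ≪≫
    asIso ((LBC.counit φ).app P) ≪≫ (LBC.ΦIso φ).app P

lemma finite_of_quotient_nilpotent {M : Type u} [AddCommGroup M] [Module A M] {I : Ideal A}
    (hI : IsNilpotent I) (h : Module.Finite A (M ⧸ I • (⊤ : Submodule A M))) : Module.Finite A M := by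
  obtain ⟨s, hs⟩ := h.fg_top
  choose f hf using Submodule.mkQ_surjective (I • (⊤ : Submodule A M))
  let W : Submodule A M := Submodule.span A (f '' s)
  have hW : W ⊔ I • ⊤ = ⊤ := by
    have hmap : W.map (I • (⊤ : Submodule A M)).mkQ = ⊤ := by
      rw [Submodule.map_span, ← Set.image_comp]
      simp [Function.comp_def, hf, hs]
    have := Submodule.comap_map_mkQ (I • (⊤ : Submodule A M)) W
    rw [hmap, Submodule.comap_top, sup_comm] at this
    exact this.symm
  have key : ∀ k : ℕ, W ⊔ I ^ k • ⊤ = ⊤ := by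
    intro k
    induction k with
    | zero => rw [pow_zero, Ideal.one_eq_top, Submodule.top_smul, sup_top_eq]
    | succ k ih =>
      refine eq_top_iff.2 (ih.ge.trans (sup_le le_sup_left ?_))
      calc I ^ k • (⊤ : Submodule A M) = I ^ k • (W ⊔ I • ⊤) := by rw [hW]
        _ = I ^ k • W ⊔ I ^ k • I • ⊤ := Submodule.smul_sup _ _ _
        _ ≤ W ⊔ I ^ (k + 1) • ⊤ := by
          rw [← Submodule.mul_smul, ← pow_succ]
          exact sup_le_sup_right Submodule.smul_le_right _
  obtain ⟨n, hn⟩ := hI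
  have hW' := key n
  rw [hn, Ideal.zero_eq_bot, Submodule.bot_smul, sup_bot_eq] at hW'
  exact ⟨hW' ▸ Submodule.fg_span ((s.finite_toSet).image f)⟩

/-- The top homology of a bounded above complex of projectives is finite if it is so modulo a nilpotent ideal. -/
lemma finite_opcMod (I : Ideal A) (hI : IsNilpotent I) (E : DRing.Cx A) (b : ℤ)
    (hz : ∀ i, b < i → IsZero (E.X i))
    (hp : DRing.IsPerfect (A ⧸ I) (DRing.toD ((LBC.ext (algebraMap A (A ⧸ I))).obj E))) :
    Module.Finite A (opcMod E b) := by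
  let G := (LBC.ext (algebraMap A (A ⧸ I))).obj E
  have hG : ∀ i, b < i → IsZero (G.X i) := fun i hi =>
    (ModuleCat.extendScalars.{u, u, u} (algebraMap A (A ⧸ I))).map_isZero (hz i hi)
  have hPC : ∀ m, NPC (FF (A ⧸ I)) m (DRing.toD G) := fun m => (NPC_FPj_iff m _).1 (by
    obtain ⟨Q, a', b', hz', hQ, ⟨e⟩⟩ := hp
    exact NPC.mk ⟨⟨b', fun i hi => hz' i (Or.inr hi)⟩, fun i _ => hQ i⟩ e)
  have hle : (DRing.toD G).IsLE (b - 1 + 1) := by
    rw [DerivedCategory.isLE_iff]
    intro i hi
    refine IsZero.of_iso ?_ (homologyQIso G i)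
    rw [← HomologicalComplex.exactAt_iff_isZero_homology]
    exact ShortComplex.exact_of_isZero_X₂ _ (hG i (by lia))
  have h1 := finitePresentation_top (hPC (b - 1))
  rw [show b - 1 + 1 = b by lia] at h1
  haveI : Module.Finite (A ⧸ I) (opcMod G b) :=
    haveI := h1
    Module.Finite.equiv (((homologyQIso G b) ≪≫
      G.isoHomologyι b (b + 1) (by simp) ((hG _ (by lia)).eq_of_tgt _ _) ≪≫
        (opcModIso G b).symm).toLinearEquiv)
  let g : opcMod G b →ₗ[A ⧸ I] TensorProduct A (A ⧸ I) (opcMod E b) :=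
    (LinearMap.range (G.d (b - 1) b).hom).liftQ
      (((LinearMap.range (E.d (b - 1) b).hom).mkQ.baseChange (A ⧸ I)).comp
        (extendLEquiv A (A ⧸ I) (E.X b)).symm.toLinearMap) (by
      rintro _ ⟨x, rfl⟩
      obtain ⟨x, rfl⟩ := (extendLEquiv A (A ⧸ I) (E.X (b - 1))).surjective x
      show (LinearMap.range (E.d (b - 1) b).hom).mkQ.baseChange (A ⧸ I)
        ((extendLEquiv A (A ⧸ I) (E.X b)).symm
          ((((LBC.ext (algebraMap A (A ⧸ I))).obj E).d (b - 1) b).hom
            (extendLEquiv A (A ⧸ I) (E.X (b - 1)) x))) = 0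
      rw [ext_d_extendLEquiv, LinearEquiv.symm_apply_apply, ← LinearMap.comp_apply,
        ← LinearMap.baseChange_comp,
        LinearMap.range_mkQ_comp, LinearMap.baseChange_zero, LinearMap.zero_apply])
  have hg : Function.Surjective g := fun z => by
    obtain ⟨w, rfl⟩ := LinearMap.lTensor_surjective (A ⧸ I) (Submodule.mkQ_surjective _) z
    refine ⟨Submodule.Quotient.mk (extendLEquiv A (A ⧸ I) (E.X b) w), ?_⟩
    exact congrArg _ ((extendLEquiv A (A ⧸ I) (E.X b)).symm_apply_apply w)
  haveI : Module.Finite (A ⧸ I) (TensorProduct A (A ⧸ I) (opcMod E b)) :=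
    Module.Finite.of_surjective g hg
  haveI : Module.Finite A (TensorProduct A (A ⧸ I) (opcMod E b)) :=
    Module.Finite.trans (A ⧸ I) _
  exact finite_of_quotient_nilpotent hI
    (Module.Finite.equiv (TensorProduct.quotTensorEquivQuotSMul (opcMod E b) I))

lemma NPC_of_nilpotent (I : Ideal A) (hI : IsNilpotent I) :
    ∀ (k : ℕ) (b : ℤ) (E : DRing.Cx A), (∀ i, Module.Projective A (E.X i)) →
      (∀ i, b < i → IsZero (E.X i)) →
      DRing.IsPerfect (A ⧸ I) (DRing.toD ((LBC.ext (algebraMap A (A ⧸ I))).obj E)) →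
      NPC (FF A) (b + 1 - k) (DRing.toD E) := by
  intro k
  induction k with
  | zero =>
    intro b E _ hz _
    haveI : (DRing.toD E).IsLE b := (DerivedCategory.isLE_iff _ _).2 fun i hi => by
      refine IsZero.of_iso ?_ (homologyQIso E i)
      rw [← HomologicalComplex.exactAt_iff_isZero_homology]
      exact ShortComplex.exact_of_isZero_X₂ _ (hz i hi)
    exact NPC_of_homology' (b := b) fun i hi hib => absurd hi (by lia)
  | succ k ih =>
    intro b E hE hz hp
    haveI := finite_opcMod I hI E b hz hp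
    obtain ⟨n, q, hq⟩ := Module.Finite.exists_fin' A (opcMod E b)
    obtain ⟨l, hl⟩ := Module.projective_lifting_property (LinearMap.range (E.d (b - 1) b).hom).mkQ q
      (Submodule.mkQ_surjective _)
    have hd : E.d b (b + 1) = 0 := (hz _ (by lia)).eq_of_tgt _ _
    let X := ModuleCat.of A (Fin n → A)
    have hX : FF A X := ⟨inferInstance, inferInstance⟩
    let γ : X ⟶ E.cycles b := E.liftCycles (ModuleCat.ofHom l) (b + 1) (by simp) (by rw [hd, comp_zero])
    haveI : Epi (γ ≫ E.homologyπ b) := by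
      have h1 : (γ ≫ E.homologyπ b) ≫ E.homologyι b =
          ModuleCat.ofHom q ≫ (opcModIso E b).hom := by
        rw [Category.assoc, HomologicalComplex.homology_π_ι, HomologicalComplex.liftCycles_i_assoc,
          ← hl, ModuleCat.ofHom_comp, Category.assoc]
        congr 1
        rw [opcModIso, Iso.trans_hom, Iso.symm_hom, ← Category.assoc]
        have h3 : ModuleCat.ofHom (LinearMap.range (E.d (b - 1) b).hom).mkQ ≫
            (ModuleCat.cokernelIsoRangeQuotient (E.d (b - 1) b)).inv = cokernel.π (E.d (b - 1) b) :=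
          ModuleCat.range_mkQ_cokernelIsoRangeQuotient_inv _
        rw [h3]
        exact (IsColimit.comp_coconePointUniqueUpToIso_hom (colimit.isColimit _)
          (E.opcyclesIsCokernel (b - 1) b (by simp)) WalkingParallelPair.one).symm
      haveI := E.isIso_homologyι b (b + 1) (by simp) hd
      haveI : Epi (ModuleCat.ofHom q) := (ModuleCat.epi_iff_surjective _).2 hq
      haveI : Epi ((γ ≫ E.homologyπ b) ≫ E.homologyι b) := by rw [h1]; infer_instance
      have := epi_comp ((γ ≫ E.homologyπ b) ≫ E.homologyι b) (inv (E.homologyι b))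
      rwa [Category.assoc, IsIso.hom_inv_id, Category.comp_id] at this
    have hEx : ExactFrom (b + 1) E := fun i hi =>
      ShortComplex.exact_of_isZero_X₂ _ (hz i (by lia))
    have hτ := NQ_mkHomFromSingle γ hEx
    set τ := HomologicalComplex.mkHomFromSingle (c := ComplexShape.up ℤ) (γ ≫ E.iCycles b)
      (fun k _ => by simp [hd]) with hτdef
    let T : DRing.Cx A := (HomologicalComplex.single _ (ComplexShape.up ℤ) b).obj X
    have hT : ∀ i, FPj A (T.X i) := fun i => by
      by_cases hi : i = b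
      · subst hi
        exact (FPj A).prop_of_iso (HomologicalComplex.singleObjXSelf (ComplexShape.up ℤ) i X).symm
          (FF.toFPj A hX)
      · exact (FPj A).prop_of_isZero (HomologicalComplex.isZero_single_obj_X _ _ _ _ hi)
    have hzT : ∀ i, (i < b ∨ b < i) → IsZero (T.X i) := fun i hi =>
      HomologicalComplex.isZero_single_obj_X _ _ _ _ (by lia)
    let C := mappingCone τ
    have hC : ∀ i, Module.Projective A (C.X i) := fun i => by
      haveI : Module.Projective A (T.X (i + 1)) := (hT (i + 1)).2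
      haveI := hE i
      exact (PR A).prop_of_iso ((ModuleCat.biprodIsoProd (T.X (i + 1)) (E.X i)).symm ≪≫
        (HomologicalComplex.homotopyCofiber.XIsoBiprod τ i (i + 1) rfl).symm)
        (inferInstance : Module.Projective A (T.X (i + 1) × E.X i))
    haveI : (DRing.toD C).IsLE (b - 1) := (DerivedCategory.isLE_iff _ _).2 fun i hi => by
      refine IsZero.of_iso ?_ (homologyQIso C i)
      rw [← HomologicalComplex.exactAt_iff_isZero_homology]
      exact hτ.exactFrom i (by lia)
    obtain ⟨C', hC', hzC', ⟨eC⟩⟩ := exists_projective_rep A (DRing.toD C) (b - 1)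
    obtain ⟨f, hf⟩ := exists_Q_map_eq (P := PR A) (PR.lift A) C' hC' (b - 1) hzC' C eC.hom
    haveI : QuasiIso f := by
      rw [← DerivedCategory.isIso_Q_map_iff_quasiIso, hf]; infer_instance
    have hkC' : DRing.IsKFlat A C' :=
      KFlat.isKFlat_of_boundedAbove (b - 1) hzC' (fun i => PR.toFL A (hC' i))
    have hkC : DRing.IsKFlat A C :=
      KFlat.isKFlat_of_boundedAbove b (fun i hi => (CochainComplex.mappingCone.isZero_X_iff τ i).2
        ⟨hzT (i + 1) (by lia), hz i hi⟩)
        (fun i => PR.toFL A (hC i))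
    haveI : QuasiIso ((LBC.ext (algebraMap A (A ⧸ I))).map f) :=
      LBC.quasiIso_ext_of_kFlat _ hkC' hkC f inferInstance
    haveI : IsIso (DerivedCategory.Q.map ((LBC.ext (algebraMap A (A ⧸ I))).map f)) := by
      rw [DerivedCategory.isIso_Q_map_iff_quasiIso]; infer_instance
    have hpC : DRing.IsPerfect (A ⧸ I) (DRing.toD ((LBC.ext (algebraMap A (A ⧸ I))).obj C')) := by
      refine isPerfect_of_iso ?_
        (asIso (DerivedCategory.Q.map ((LBC.ext (algebraMap A (A ⧸ I))).map f))).symm
      refine isPerfect_of_iso ?_ (DerivedCategory.Q.mapIso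
        (CochainComplex.mappingCone.mapHomologicalComplexIso τ
          (ModuleCat.extendScalars.{u, u, u} (algebraMap A (A ⧸ I))))).symm
      refine isPerfect_triangle₃ ((DerivedCategory.mem_distTriang_iff _).2
        ⟨_, _, (LBC.ext (algebraMap A (A ⧸ I))).map τ, ⟨Iso.refl _⟩⟩) ?_ hp
      exact ⟨(LBC.ext (algebraMap A (A ⧸ I))).obj T, b, b,
        fun i hi => (ModuleCat.extendScalars.{u, u, u} _).map_isZero (hzT i hi),
        fun i => FPj_extend _ (hT i), ⟨Iso.refl _⟩⟩
    have h3 : NPC (FF A) (b - k) (DRing.toD C) := by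
      have := (ih (b - 1) C' hC' hzC' hpC).of_iso eC
      rwa [show b - 1 + 1 - (k : ℤ) = b - k by lia] at this
    rw [show b + 1 - ((k + 1 : ℕ) : ℤ) = b - k by push_cast; ring]
    refine NPC.of_triangle₂ (FF.sum A) (FF.qs A) (FF.ql A)
      ((DerivedCategory.mem_distTriang_iff _).2 ⟨_, _, τ, ⟨Iso.refl _⟩⟩) ?_ h3
    exact NPC.mk ⟨⟨b, fun i hi => hzT i (Or.inr hi)⟩, fun i hi => by
      by_cases hib : i = b
      · subst hib
        exact (FF A).prop_of_iso (HomologicalComplex.singleObjXSelf (ComplexShape.up ℤ) i X).symm hX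
      · exact (FF A).prop_of_isZero (hzT i (by lia))⟩ (Iso.refl _)

/-- Perfectness lifts along a nilpotent ideal. -/
theorem isPerfect_of_nilpotent (I : Ideal A) (hI : IsNilpotent I)
    [DRing.HasLBaseChange (algebraMap A (A ⧸ I))] (K : Dual.D A)
    (hK : DRing.IsPerfect (A ⧸ I) ((DRing.LBaseChange (algebraMap A (A ⧸ I))).obj K)) :
    DRing.IsPerfect A K := by
  obtain ⟨P, q, hP, hfl, hq, -⟩ := KFlat.exists_surjective_resolution A (DerivedCategory.Q.objPreimage K)
  haveI := KFlat.isIso_Q_map q hq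
  let eP : DRing.toD P ≅ K :=
    asIso (DerivedCategory.Q.map q) ≪≫ DerivedCategory.Q.objObjPreimageIso K
  obtain ⟨Q', a, b, hz, hQ', ⟨e'⟩⟩ := hK
  let φ := algebraMap A (A ⧸ I)
  let e₂ : DerivedCategory.Q.obj Q' ≅ DerivedCategory.Q.obj ((LBC.ext φ).obj P) :=
    e' ≪≫ (DRing.LBaseChange φ).mapIso eP.symm ≪≫ lbcValueIso φ P hP
  obtain ⟨f, hf⟩ := exists_Q_map_eq (P := FPj (A ⧸ I)) (FPj.lift (A ⧸ I)) Q' hQ' b
    (fun i hi => hz i (Or.inr hi)) _ e₂.hom
  haveI : QuasiIso f := by
    rw [← DerivedCategory.isIso_Q_map_iff_quasiIso, hf]; infer_instance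
  have hkQ : DRing.IsKFlat (A ⧸ I) Q' := KFlat.isKFlat_of_boundedAbove b
    (fun i hi => hz i (Or.inr hi)) (fun i => flat_of_FPj (hQ' i))
  have hproj : ∀ i, Module.Projective (A ⧸ I) (Q'.X i) := fun i => (hQ' i).2
  have hv : TorVanish Q' a b := (torAmp_iff hproj b (fun i hi => hz i (Or.inr hi)) (Iso.refl _) a b).1
    ⟨Q', hz, fun i => flat_of_FPj (hQ' i), ⟨Iso.refl _⟩⟩
  obtain ⟨n, hn⟩ := hI
  have hvP : TorVanish P a b := fun N i hi =>
    exactAt_tensor_of_pow I P hfl i (fun N' hN' => by
      letI := hN'.module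
      haveI : IsScalarTower A (A ⧸ I) N' := hN'.isScalarTower
      exact (exactAt_tensor_cancel (S := A ⧸ I) N' P i).1
        ((exactAt_tensor_of_quasiIso hkQ (KFlat.isKFlat_ext φ hP) f inferInstance _ i).1
          (hv _ i hi)))
      n N (by rw [hn, Ideal.zero_eq_bot, Submodule.bot_smul])
  haveI : (DRing.toD P).IsLE b := (DerivedCategory.isLE_iff _ _).2 fun i hi => by
    refine IsZero.of_iso ?_ (homologyQIso P i)
    rw [← HomologicalComplex.exactAt_iff_isZero_homology]
    exact exactAt_of_tensor_unit P i (hvP _ i (Or.inr hi))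
  obtain ⟨E, hE, hzE, ⟨eE⟩⟩ := exists_projective_rep A (DRing.toD P) b
  haveI := isKProjective_of_mem (P := PR A) (PR.lift A) E hE b hzE
  have hPC : ∀ m : ℤ, NPC (FF A) m K := fun m => by
    have := NPC_of_nilpotent I ⟨n, hn⟩ (b + 1 - m).toNat b E hE hzE
      (isPerfect_of_iso ⟨Q', a, b, hz, hQ', ⟨e'⟩⟩
        ((DRing.LBaseChange φ).mapIso (eE ≪≫ eP).symm ≪≫ LBC.valueIso φ E))
    exact (this.of_iso (eE ≪≫ eP)).mono (by lia)
  refine (exists_rep_of_fibres ((isPC'_iff A K).2 hPC) a b fun E' b' hE' hz' he' i hi m _ => ?_).1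
  obtain ⟨e₃⟩ := he'
  obtain ⟨g, hg⟩ := exists_Q_map_eq (P := FPj A) (FPj.lift A) E' (fun j => FF.toFPj A (hE' j)) b' hz'
    P (e₃ ≪≫ eP.symm).hom
  haveI : QuasiIso g := by
    rw [← DerivedCategory.isIso_Q_map_iff_quasiIso, hg]; infer_instance
  exact (exactAt_tensor_of_quasiIso (KFlat.isKFlat_of_boundedAbove b' hz'
    (fun j => flat_of_FPj (FF.toFPj A (hE' j)))) hP g inferInstance _ i).2 (hvP _ i hi)

end Groth.Agent.DRingPC
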