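import Groth.Agent.DRingPC.Descent
import Groth.Agent.DRingPC.Amplitude

/-!
Descent of perfectness along flat covers.
-/

set_option autoImplicit false
set_option linter.style.haveILetI false
set_option linter.unusedSectionVars false
universe u v

open CategoryTheory CategoryTheory.Limits Groth.Agent.PCohLib
open TensorProduct

attribute [local instance] HasDerivedCategory.standard

namespace Groth.Agent.DRingPC

variable {A : Type u} [CommRing A] {ι : Type v} {B : ι → Type u} [∀ j, CommRing (B j)]
  [∀ j, Algebra A (B j)] [∀ j, Module.Flat A (B j)]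

/-- Flat base change commutes with opcycles. -/
noncomputable def extOpcyclesIso {S : Type u} [CommRing S] [Algebra A S] [Module.Flat A S]
    (K : DRing.Cx A) (i : ℤ) :
    ((extCx (algebraMap A S)).obj K).opcycles i ≅ ModuleCat.of S (S ⊗[A] (K.opcycles i)) :=
  haveI := ModuleCat.preservesFiniteLimits_extendScalars_of_flat.{u}
    (RingHom.flat_algebraMap_iff.2 (inferInstance : Module.Flat A S))
  ShortComplex.mapOpcyclesIso (K.sc i) (ModuleCat.extendScalars.{u, u, u} (algebraMap A S)) ≪≫
    (extendEquiv A S (K.opcycles i)).symm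

lemma isPerfect_of_cover [Finite ι] (hB : IsCover (A := A) B)
    (hflat : ∀ (M : Type u) [AddCommGroup M] [Module A M],
      (∀ j, Module.Flat (B j) (B j ⊗[A] M)) → Module.Flat A M)
    (K : DRing.Cx A)
    (h : ∀ j, DRing.IsPerfect (B j) (DRing.toD ((extCx (algebraMap A (B j))).obj K))) :
    DRing.IsPerfect A (DRing.toD K) := by
  choose P a b hz hP he using h
  have hPC : ∀ m : ℤ, NPC (FF A) m (DRing.toD K) := fun m => NPC_of_cover' hB K fun j =>
    (NPC_FPj_iff m _).1 (NPC.mk ⟨⟨b j, fun i hi => hz j i (Or.inr hi)⟩, fun i _ => hP j i⟩ (he j).some)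
  obtain ⟨E, q, ⟨⟨c, hc⟩, hE⟩, hq⟩ :=
    exists_strictPCAll_qiso (FF.sum A) (FF.qs A) (FF.ql A) (fun m => hPC m)
  obtain ⟨a₀, ha₀⟩ := Finite.exists_ge a
  let s := min a₀ c
  have hflat' : ∀ j, Module.Flat (B j) (B j ⊗[A] (E.opcycles s)) := fun j => by
    haveI := ModuleCat.preservesFiniteLimits_extendScalars_of_flat.{u}
      (RingHom.flat_algebraMap_iff.2 (inferInstance : Module.Flat A (B j)))
    haveI : QuasiIso ((extCx (algebraMap A (B j))).map q) := inferInstance
    haveI : IsIso (DerivedCategory.Q.map ((extCx (algebraMap A (B j))).map q)) := by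
      rw [DerivedCategory.isIso_Q_map_iff_quasiIso]; infer_instance
    have hEj : ∀ i, FPj (B j) (((extCx (algebraMap A (B j))).obj E).X i) := fun i =>
      FPj_extend _ (FF.toFPj A (hE i))
    have hEz : ∀ i, c < i → IsZero (((extCx (algebraMap A (B j))).obj E).X i) := fun i hi =>
      (ModuleCat.extendScalars.{u, u, u} (algebraMap A (B j))).map_isZero (hc i hi)
    obtain ⟨f, hf⟩ := exists_Q_map_eq (P := FPj (B j)) (FPj.lift (B j))
      ((extCx (algebraMap A (B j))).obj E) hEj c hEz (P j)
      (DerivedCategory.Q.map ((extCx (algebraMap A (B j))).map q) ≫ (he j).some.inv)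
    haveI : QuasiIso f := by
      rw [← DerivedCategory.isIso_Q_map_iff_quasiIso, hf]; infer_instance
    haveI := flat_opcycles f s (max c (b j)) hEj
      (fun i => flat_of_FPj (hP j i))
      (fun i hi => hz j i (Or.inl (by have := ha₀ j; lia)))
      (fun i hi => hEz i (by lia)) (fun i hi => hz j i (Or.inr (by lia))) (NQ.of_quasiIso _ f)
    exact Module.Flat.of_linearEquiv (extOpcyclesIso E s).toLinearEquiv.symm
  haveI : Module.Flat A (E.opcycles s) := hflat _ hflat'
  haveI := finitePresentation_opcycles E (fun i => FF.toFPj A (hE i)) s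
  have hop : FPj A (E.opcycles s) :=
    ⟨inferInstance, Module.Flat.projective_of_finitePresentation⟩
  haveI : E.IsGE s := (CochainComplex.isGE_iff _ _).2 fun i hi => by
    have hK : K.ExactAt i := exact_of_cover hB K i fun j => by
      rw [HomologicalComplex.exactAt_iff_isZero_homology]
      refine IsZero.of_iso ?_ ((homologyQIso _ i).symm ≪≫
        (DerivedCategory.homologyFunctor _ i).mapIso (he j).some.symm ≪≫ homologyQIso (P j) i)
      have h : (P j).ExactAt i := ShortComplex.exact_of_isZero_X₂ _ (hz j i (Or.inl (by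
        have := ha₀ j; lia)))
      exact h.isZero_homology
    rw [HomologicalComplex.exactAt_iff_isZero_homology] at hK ⊢
    haveI := hq
    exact hK.of_iso (asIso (HomologicalComplex.homologyMap q i))
  haveI : QuasiIso q := hq
  refine ⟨E.truncGE s, s, c, fun i hi => ?_, fun i => ?_,
    ⟨(asIso (DerivedCategory.Q.map (E.πTruncGE s))).symm ≪≫
      @asIso _ _ _ _ (DerivedCategory.Q.map q) (by
        rw [DerivedCategory.isIso_Q_map_iff_quasiIso]; infer_instance)⟩⟩
  · rcases hi with h | h
    · exact (E.truncGE s).isZero_of_isStrictlyGE s i h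
    · exact (hc i h).of_iso (E.truncGEXIso s i (by lia))
  · rcases lt_trichotomy i s with h | rfl | h
    · exact (FPj A).prop_of_isZero ((E.truncGE s).isZero_of_isStrictlyGE s i h)
    · exact (FPj A).prop_of_iso (E.truncGEXIsoOpcycles s).symm hop
    · exact (FPj A).prop_of_iso (E.truncGEXIso s i h).symm (FF.toFPj A (hE i))

lemma flat_descent_localization {r : ℕ} (f : Fin r → A) (hf : Ideal.span (Set.range f) = ⊤)
    (M : Type u) [AddCommGroup M] [Module A M]
    (h : ∀ j, Module.Flat (Localization.Away (f j)) (Localization.Away (f j) ⊗[A] M)) :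
    Module.Flat A M := by
  haveI : ∀ g : Set.range f, IsLocalizedModule.Away g.val
      (TensorProduct.mk A (Localization.Away g.val) M 1) := fun g =>
    (isLocalizedModule_iff_isBaseChange (Submonoid.powers g.val) (Localization.Away g.val) _).2
      (TensorProduct.isBaseChange A M _)
  refine Module.flat_of_isLocalized_span (S := A) M (Set.range f) hf
    (fun g => Localization.Away g.val ⊗[A] M)
    (fun g => TensorProduct.mk A (Localization.Away g.val) M 1) ?_
  rintro ⟨_, j, rfl⟩
  haveI := h j
  exact Module.Flat.trans A (Localization.Away (f j)) _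

end Groth.Agent.DRingPC
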