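import Groth.Agent.DRingPC.Restrict
import Groth.Prelude.Def_DerCA
import Mathlib.Algebra.MvPolynomial.Equiv

/-!
Independence of the presentation for relative pseudo-coherence.
-/

set_option autoImplicit false
set_option linter.style.haveILetI false
universe u

open CategoryTheory CategoryTheory.Limits Groth.Agent.PCohLib

attribute [local instance] HasDerivedCategory.standard

namespace Groth.Agent.DRingPC

lemma PCHom.of_retraction {S : Type u} [CommRing S] {k : ℕ}
    (ψ : MvPolynomial (Fin k) S →ₐ[S] S) : PCHom ψ.toRingHom := by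
  induction k with
  | zero =>
    refine PCHom.of_bijective _ ?_
    have : ψ = (MvPolynomial.isEmptyAlgEquiv S (Fin 0)).toAlgHom :=
      MvPolynomial.algHom_ext fun i => i.elim0
    rw [this]
    exact (MvPolynomial.isEmptyAlgEquiv S (Fin 0)).bijective
  | succ k ih =>
    let ψ' : MvPolynomial (Fin k) S →ₐ[S] S := MvPolynomial.aeval fun i => ψ (MvPolynomial.X i.succ)
    have : ψ.toRingHom =
        (ψ'.toRingHom.comp (Polynomial.evalRingHom (MvPolynomial.C (ψ (MvPolynomial.X 0))))).comp
          (MvPolynomial.finSuccEquiv S k).toRingEquiv.toRingHom := by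
      refine MvPolynomial.ringHom_ext (fun r => ?_) (fun i => ?_)
      · simp [MvPolynomial.finSuccEquiv_apply, ψ']
      · induction i using Fin.cases with
        | zero => simp [MvPolynomial.finSuccEquiv_X_zero, ψ']
        | succ i => simp [MvPolynomial.finSuccEquiv_X_succ, ψ']
    rw [this]
    exact (PCHom.of_bijective _ (MvPolynomial.finSuccEquiv S k).bijective).comp
      ((PCHom.eval_polynomial _).comp (ih ψ'))

variable {R A : Type u} [CommRing R] [CommRing A] [Algebra R A]

lemma relVia_iff_via_both {n k : ℕ} (α : MvPolynomial (Fin n) R →ₐ[R] A)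
    (β : MvPolynomial (Fin k) R →ₐ[R] A) (hα : Function.Surjective α) (m : ℤ) (K : Dual.D A) :
    DerCA.IsRelPseudoCoherentVia α m K ↔
      NPC (FF (MvPolynomial (Fin k ⊕ Fin n) R)) m
        ((DRing.restrictD (MvPolynomial.aeval
          (Sum.elim (fun i => β (MvPolynomial.X i)) (fun i => α (MvPolynomial.X i)))).toRingHom).obj K) := by
  let ψ : MvPolynomial (Fin k) (MvPolynomial (Fin n) R) →ₐ[MvPolynomial (Fin n) R]
      MvPolynomial (Fin n) R :=
    MvPolynomial.aeval fun j => (hα (β (MvPolynomial.X j))).choose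
  let σ := MvPolynomial.sumRingEquiv R (Fin k) (Fin n)
  have h : (MvPolynomial.aeval
      (Sum.elim (fun i => β (MvPolynomial.X i)) (fun i => α (MvPolynomial.X i)))).toRingHom =
      (α : MvPolynomial (Fin n) R →+* A).comp (ψ.toRingHom.comp σ.toRingHom) := by
    refine MvPolynomial.ringHom_ext (fun r => ?_) (fun i => ?_)
    · simp [σ, ψ]
    · rcases i with i | i
      · simp [σ, ψ, (hα (β (MvPolynomial.X i))).choose_spec]
      · simp [σ, ψ]
  rw [h, ((PCHom.of_bijective σ.toRingHom σ.bijective).comp (PCHom.of_retraction ψ)).comp_iff]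
  exact isPC_iff_NPC _ _ _

/-- S6983. -/
lemma relVia_iff {n k : ℕ} (α : MvPolynomial (Fin n) R →ₐ[R] A) (hα : Function.Surjective α)
    (β : MvPolynomial (Fin k) R →ₐ[R] A) (hβ : Function.Surjective β) (m : ℤ) (K : Dual.D A) :
    DerCA.IsRelPseudoCoherentVia α m K ↔ DerCA.IsRelPseudoCoherentVia β m K := by
  rw [relVia_iff_via_both α β hα, relVia_iff_via_both β α hβ]
  let τ := MvPolynomial.renameEquiv R (Equiv.sumComm (Fin n) (Fin k))
  have h : (MvPolynomial.aeval
      (Sum.elim (fun i => α (MvPolynomial.X i)) (fun i => β (MvPolynomial.X i)))).toRingHom =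
      (MvPolynomial.aeval
        (Sum.elim (fun i => β (MvPolynomial.X i)) (fun i => α (MvPolynomial.X i)))).toRingHom.comp
        τ.toRingEquiv.toRingHom := by
    refine MvPolynomial.ringHom_ext (fun r => ?_) (fun i => ?_)
    · simp [τ]
    · rcases i with i | i <;> simp [τ]
  rw [h]
  exact ((PCHom.of_bijective τ.toRingEquiv.toRingHom τ.bijective).comp_iff _ m K).symm

end Groth.Agent.DRingPC
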