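import Groth.Agent.DRingPC.TorAmpOps
import Groth.Agent.DRingPC.Ext
import Mathlib.Algebra.Category.ModuleCat.EnoughInjectives
import Mathlib.Algebra.Homology.DerivedCategory.KInjective

/-!
Projective amplitude through `Ext` into modules.
-/

set_option autoImplicit false
set_option linter.style.haveILetI false
universe u

open CategoryTheory CategoryTheory.Limits Groth.Agent.PCohLib

attribute [local instance] HasDerivedCategory.standard

namespace Groth.Agent.DRingPC

variable {A : Type u} [CommRing A]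

/-- A complex without maps into injective modules placed in degree `n` is exact there. -/
lemma exactAt_of_hom_injective (P : DRing.Cx A) (n : ℤ)
    (h : ∀ J : ModuleCat.{u} A, Injective J → ∀ f : DerivedCategory.Q.obj P ⟶
      DerivedCategory.Q.obj ((HomologicalComplex.single _ (ComplexShape.up ℤ) n).obj J), f = 0) :
    P.ExactAt n := by
  let pr : P.X n ⟶ opcMod P n := ModuleCat.ofHom (Submodule.mkQ _)
  let ι : opcMod P n ⟶ Injective.under (opcMod P n) := Injective.ι _
  let L : CochainComplex (ModuleCat.{u} A) ℤ := (HomologicalComplex.single (ModuleCat.{u} A) (ComplexShape.up ℤ) n).obj (Injective.under (opcMod P n))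
  let g : P ⟶ L := HomologicalComplex.mkHomToSingle (pr ≫ ι) (fun k hk => by
    obtain rfl : k = n - 1 := by have : k + 1 = n := hk; lia
    rw [← Category.assoc]
    have : P.d (n - 1) n ≫ pr = 0 :=
      ModuleCat.hom_ext (LinearMap.ext fun x => (Submodule.Quotient.mk_eq_zero _).2 ⟨x, rfl⟩)
    rw [this, zero_comp])
  haveI : ∀ k, Injective (L.X k) := fun k => by
    by_cases hk : k = n
    · subst hk
      exact Injective.of_iso (HomologicalComplex.singleObjXSelf _ _ _).symm inferInstance
    · exact (HomologicalComplex.isZero_single_obj_X _ _ _ _ hk).injective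
  haveI : L.IsStrictlyGE n := (CochainComplex.isStrictlyGE_iff _ _).2 fun k hk =>
    HomologicalComplex.isZero_single_obj_X _ _ _ _ (by lia)
  haveI : L.IsKInjective := CochainComplex.isKInjective_of_injective L n
  have hq : (HomotopyCategory.quotient _ _).map g = (HomotopyCategory.quotient _ _).map (0 : P ⟶ L) := by
    refine (CochainComplex.IsKInjective.Qh_map_bijective _ L).injective ?_
    rw [← cancel_mono ((DerivedCategory.quotientCompQhIso _).hom.app _)]
    have n1 := (DerivedCategory.quotientCompQhIso (ModuleCat.{u} A)).hom.naturality g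
    have n0 := (DerivedCategory.quotientCompQhIso (ModuleCat.{u} A)).hom.naturality (0 : P ⟶ L)
    refine n1.trans ((congrArg _ ?_).trans n0.symm)
    rw [h _ inferInstance (DerivedCategory.Q.map g), Functor.map_zero]
  have hc := (HomotopyCategory.homotopyOfEq _ _ hq).comm n
  set H := HomotopyCategory.homotopyOfEq _ _ hq
  rw [dNext_eq _ (show (ComplexShape.up ℤ).Rel n (n + 1) from rfl),
    prevD_eq _ (show (ComplexShape.up ℤ).Rel (n - 1) n from by simp),
    HomologicalComplex.zero_f, add_zero, HomologicalComplex.single_obj_d, comp_zero, add_zero,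
    HomologicalComplex.mkHomToSingle_f, Iso.comp_inv_eq, Category.assoc] at hc
  rw [HomologicalComplex.exactAt_iff' _ (n - 1) n (n + 1) (by simp) (by simp),
    ShortComplex.ShortExact.moduleCat_exact_iff_function_exact]
  intro y
  refine ⟨fun hy => ?_, ?_⟩
  · have hy' : (P.d n (n + 1)) y = 0 := hy
    have h1 : ι (pr y) = 0 := by
      have h2 := ConcreteCategory.congr_hom hc y
      simp only [ModuleCat.hom_comp, LinearMap.comp_apply] at h2
      rw [hy', map_zero, map_zero] at h2
      exact h2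
    exact (Submodule.Quotient.mk_eq_zero _).1
      ((ModuleCat.mono_iff_injective ι).1 inferInstance (h1.trans (map_zero _).symm))
  · rintro ⟨x, rfl⟩
    exact ConcreteCategory.congr_hom (P.d_comp_d (n - 1) n (n + 1)) x

lemma cls_surjective_proj {E : DRing.Cx A} {p : ℤ} {N : ModuleCat.{u} A} (b : ℤ)
    (hb : ∀ i, b < i → IsZero (E.X i)) (hE : ∀ i, Module.Projective A (E.X i)) :
    Function.Surjective (cls (E := E) (p := p) (N := N)) := by
  intro α
  obtain ⟨g, hg⟩ := exists_Q_map_eq (P := PR A) (PR.lift A) E hE b hb _ (α ≫ (singleShiftTarget p N).inv)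
  let k : E.X (-p) ⟶ N := g.f (-p) ≫ (HomologicalComplex.singleObjXSelf (ComplexShape.up ℤ) (-p) N).hom
  have hk : k.hom ∈ Cocyc E p N := by
    rw [mem_cocyc, ← ModuleCat.hom_comp, ← Category.assoc, ← g.comm (-p - 1) (-p),
      HomologicalComplex.single_obj_d, comp_zero, zero_comp]
    rfl
  have : cocycMap ⟨k.hom, hk⟩ = g := by
    apply HomologicalComplex.to_single_hom_ext
    rw [cocycMap_f]
    exact (Category.assoc _ _ _).trans (by rw [Iso.hom_inv_id, Category.comp_id])
  exact ⟨⟨k.hom, hk⟩, by rw [cls, this, hg, Category.assoc, Iso.inv_hom_id, Category.comp_id]⟩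

lemma exists_of_cls_eq_zero {E : DRing.Cx A} {p : ℤ} {N : ModuleCat.{u} A} (b : ℤ)
    (hb : ∀ i, b < i → IsZero (E.X i)) (hE : ∀ i, Module.Projective A (E.X i)) (h : Cocyc E p N)
    (h0 : cls h = 0) : ∃ g : E.X (-p + 1) →ₗ[A] N, g ∘ₗ (E.d (-p) (-p + 1)).hom = h.1 := by
  rw [cls, ← zero_comp (f := (singleShiftTarget p N).hom), cancel_mono] at h0
  obtain ⟨H⟩ := homotopy_of_Q_eq hE b hb (cocycMap h) 0 (by rw [h0, Functor.map_zero])
  have hc := H.comm (-p)
  rw [dNext_eq _ (show (ComplexShape.up ℤ).Rel (-p) (-p + 1) from rfl),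
    prevD_eq _ (show (ComplexShape.up ℤ).Rel (-p - 1) (-p) from by simp),
    HomologicalComplex.single_obj_d, comp_zero, add_zero, HomologicalComplex.zero_f, add_zero,
    cocycMap_f, Iso.comp_inv_eq, Category.assoc] at hc
  exact ⟨(H.hom (-p + 1) (-p) ≫
    (HomologicalComplex.singleObjXSelf (ComplexShape.up ℤ) (-p) N).hom).hom,
    by rw [← ModuleCat.hom_comp, ← Category.assoc]; exact (congrArg ModuleCat.Hom.hom hc).symm⟩

/-- If `Ext^p(E, -)` vanishes for `p = -j`, then `E^j / d → E^(j+1)` has a retraction. -/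
lemma exists_retraction {E : DRing.Cx A} (b : ℤ) (hb : ∀ i, b < i → IsZero (E.X i))
    (hE : ∀ i, Module.Projective A (E.X i)) (p j k : ℤ) (hj : j = -p) (hk : k = j + 1)
    (h : ∀ N : ModuleCat.{u} A, ∀ f : DerivedCategory.Q.obj E ⟶ (shiftFunctor (Dual.D A) p).obj
      ((DerivedCategory.singleFunctor _ 0).obj N), f = 0) :
    ∃ g : E.X k →ₗ[A] opcMod E j, g ∘ₗ (E.d j k).hom = (LinearMap.range (E.d (j - 1) j).hom).mkQ := by
  subst hj hk
  have hm : (LinearMap.range (E.d (-p - 1) (-p)).hom).mkQ ∈ Cocyc E p (opcMod E (-p)) :=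
    mem_cocyc.2 (LinearMap.ext fun x =>
      (Submodule.Quotient.mk_eq_zero (LinearMap.range (E.d (-p - 1) (-p)).hom)).2 ⟨x, rfl⟩)
  exact exists_of_cls_eq_zero b hb hE ⟨_, hm⟩ (h _ _)

lemma exactAt_of_retraction {E : DRing.Cx A} (j : ℤ)
    (h : ∃ g : E.X (j + 1) →ₗ[A] opcMod E j, g ∘ₗ (E.d j (j + 1)).hom = (LinearMap.range (E.d (j - 1) j).hom).mkQ) :
    E.ExactAt j := by
  obtain ⟨g, hg⟩ := h
  rw [HomologicalComplex.exactAt_iff' _ (j - 1) j (j + 1) (by simp) (by simp),
    ShortComplex.ShortExact.moduleCat_exact_iff_function_exact]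
  intro y
  refine ⟨fun hy => ?_, ?_⟩
  · have hy' : (E.d j (j + 1)).hom y = 0 := hy
    have h1 := LinearMap.congr_fun hg y
    rw [LinearMap.comp_apply, hy', map_zero] at h1
    exact (Submodule.Quotient.mk_eq_zero _).1 h1.symm
  · rintro ⟨x, rfl⟩
    exact ConcreteCategory.congr_hom (E.d_comp_d (j - 1) j (j + 1)) x

/-- The truncation of a projective complex whose cokernel splits off is projective. -/
lemma exists_bounded_proj {K : Dual.D A} {E : DRing.Cx A} (a b : ℤ) (hb : ∀ i, b < i → IsZero (E.X i))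
    (hE : ∀ i, Module.Projective A (E.X i)) (e : DerivedCategory.Q.obj E ≅ K)
    (hex : ∀ i, i < a → E.ExactAt i)
    (h : ∃ g : E.X a →ₗ[A] opcMod E (a - 1),
      g ∘ₗ (E.d (a - 1) a).hom = (LinearMap.range (E.d (a - 1 - 1) (a - 1)).hom).mkQ) :
    ∃ P : DRing.Cx A, DRing.VanishesOutside P a b ∧ (∀ i, Module.Projective A (P.X i)) ∧
      Nonempty (DerivedCategory.Q.obj P ≅ K) := by
  obtain ⟨g, hg⟩ := h
  have hop : PR A (opcMod E a) := by
    let ι := (LinearMap.range (E.d (a - 1 - 1) (a - 1)).hom).liftQ (E.d (a - 1) a).hom (by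
      rintro _ ⟨x, rfl⟩
      exact ConcreteCategory.congr_hom (E.d_comp_d (a - 1 - 1) (a - 1) a) x)
    have hsec : LinearMap.range (E.d (a - 1) a).hom ≤ LinearMap.ker (LinearMap.id - ι ∘ₗ g) := by
      rintro _ ⟨x, rfl⟩
      have h1 := LinearMap.congr_fun hg x
      rw [LinearMap.comp_apply] at h1
      rw [LinearMap.mem_ker, LinearMap.sub_apply, LinearMap.comp_apply, h1]
      exact sub_self _
    haveI : Module.Projective A (E.X a) := hE a
    refine Module.Projective.of_split ((LinearMap.range (E.d (a - 1) a).hom).liftQ _ hsec)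
      (LinearMap.range (E.d (a - 1) a).hom).mkQ (LinearMap.ext fun q => ?_)
    obtain ⟨x, rfl⟩ := Submodule.Quotient.mk_surjective _ q
    show Submodule.Quotient.mk (x - ι (g x)) = Submodule.Quotient.mk x
    rw [Submodule.Quotient.eq, sub_sub_cancel_left, neg_mem_iff]
    obtain ⟨y, hy⟩ := Submodule.Quotient.mk_surjective _ (g x)
    exact ⟨y, by rw [← hy]; rfl⟩
  haveI : E.IsGE a := (CochainComplex.isGE_iff _ _).2 fun i hi => hex i hi
  refine ⟨E.truncGE a, fun i hi => ?_, fun i => ?_,
    ⟨(asIso (DerivedCategory.Q.map (E.πTruncGE a))).symm ≪≫ e⟩⟩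
  · rcases lt_trichotomy i a with h | rfl | h
    · exact (E.truncGE a).isZero_of_isStrictlyGE a i h
    · exact (IsZero.of_epi (E.pOpcycles i) (hb i (by lia))).of_iso (E.truncGEXIsoOpcycles i)
    · exact (hb i (by lia)).of_iso (E.truncGEXIso a i h)
  · rcases lt_trichotomy i a with h | rfl | h
    · exact (PR A).prop_of_isZero ((E.truncGE a).isZero_of_isStrictlyGE a i h)
    · exact (PR A).prop_of_iso (opcModIso E i ≪≫ (E.truncGEXIsoOpcycles i).symm) hop
    · exact (PR A).prop_of_iso (E.truncGEXIso a i h).symm (hE i)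

end Groth.Agent.DRingPC
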