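import Groth.Agent.DRingPC.LBCProps
import Mathlib.RingTheory.IsTensorProduct

/-!
Tor amplitude over the base under base change along pushouts of rings.
-/

set_option autoImplicit false
set_option linter.style.haveILetI false
universe u

open CategoryTheory CategoryTheory.Limits CategoryTheory.MonoidalCategory
open CategoryTheory.Pretriangulated Groth.Agent.PCohLib

attribute [local instance] HasDerivedCategory.standard

namespace Groth.Agent.DRingPC

variable {R S A B : Type u} [CommRing R] [CommRing S] [CommRing A] [CommRing B]
  [Algebra R S] [Algebra R A] [Algebra A B] [Algebra S B] [Algebra R B]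
  [IsScalarTower R A B] [IsScalarTower R S B] [Algebra.IsPushout R S A B]

lemma flat_restrict [Module.Flat R A] {M : ModuleCat.{u} A} (h : Module.Flat A M) :
    Module.Flat R ((ModuleCat.restrictScalars.{u} (algebraMap R A)).obj M) := by
  letI : Module R M := Module.compHom M (algebraMap R A)
  haveI : IsScalarTower R A M := IsScalarTower.of_algebraMap_smul fun _ _ => rfl
  haveI := h
  exact (Module.Flat.trans R A M : Module.Flat R M)

/-- The restriction to `S` of a base change along a pushout. -/
noncomputable def pushoutEquiv (X : ModuleCat.{u} A) :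
    ((ModuleCat.restrictScalars.{u} (algebraMap S B)).obj
      ((ModuleCat.extendScalars.{u, u, u} (algebraMap A B)).obj X)) ≃ₗ[S]
      TensorProduct R S ((ModuleCat.restrictScalars.{u} (algebraMap R A)).obj X) :=
  letI : Module R X := Module.compHom X (algebraMap R A)
  haveI : IsScalarTower R A X := IsScalarTower.of_algebraMap_smul fun _ _ => rfl
  let g : ((ModuleCat.restrictScalars.{u} (algebraMap S B)).obj
      ((ModuleCat.extendScalars.{u, u, u} (algebraMap A B)).obj X)) ≃+
      TensorProduct R S ((ModuleCat.restrictScalars.{u} (algebraMap R A)).obj X) :=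
    (extendLEquiv A B X).symm.toAddEquiv.trans
      (Algebra.IsPushout.cancelBaseChange R S A B X).toAddEquiv
  g.toLinearEquiv fun s z => by
    show (Algebra.IsPushout.cancelBaseChange R S A B X)
        ((extendLEquiv A B X).symm ((algebraMap S B s) •
          (show ((ModuleCat.extendScalars.{u, u, u} (algebraMap A B)).obj X) from z))) = _
    rw [map_smul, algebraMap_smul, map_smul]
    rfl

lemma pushoutEquiv_natural {X Y : ModuleCat.{u} A} (f : X ⟶ Y)
    (t : TensorProduct R S ((ModuleCat.restrictScalars.{u} (algebraMap R A)).obj X)) :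
    ((ModuleCat.restrictScalars.{u} (algebraMap S B)).map
      ((ModuleCat.extendScalars.{u, u, u} (algebraMap A B)).map f)).hom ((pushoutEquiv X).symm t) =
      (pushoutEquiv Y).symm
        (((ModuleCat.restrictScalars.{u} (algebraMap R A)).map f).hom.baseChange S t) := by
  letI : Module R X := Module.compHom X (algebraMap R A)
  haveI : IsScalarTower R A X := IsScalarTower.of_algebraMap_smul fun _ _ => rfl
  letI : Module R Y := Module.compHom Y (algebraMap R A)
  haveI : IsScalarTower R A Y := IsScalarTower.of_algebraMap_smul fun _ _ => rfl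
  induction t using TensorProduct.induction_on with
  | zero => simp only [map_zero]
  | add x y hx hy => rw [map_add, map_add, map_add, map_add]; exact congrArg₂ (· + ·) hx hy
  | tmul s x =>
    show ((ModuleCat.extendScalars.{u, u, u} (algebraMap A B)).map f).hom
        (extendLEquiv A B X ((Algebra.IsPushout.cancelBaseChange R S A B X).symm (s ⊗ₜ (show X from x)))) =
      extendLEquiv A B Y ((Algebra.IsPushout.cancelBaseChange R S A B Y).symm (s ⊗ₜ f.hom (show X from x)))
    rw [Algebra.IsPushout.cancelBaseChange_symm_tmul, Algebra.IsPushout.cancelBaseChange_symm_tmul]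
    rfl

/-- Base change along a pushout, seen over the bases. -/
lemma exactAt_tensor_pushout (N : Type u) [AddCommGroup N] [Module R N] [Module S N]
    [IsScalarTower R S N] (E : DRing.Cx A) (i : ℤ) :
    ((tcx (ModuleCat.of S N)).obj (((ModuleCat.restrictScalars.{u} (algebraMap S B)).mapHomologicalComplex
      (ComplexShape.up ℤ)).obj ((LBC.ext (algebraMap A B)).obj E))).ExactAt i ↔
      ((tcx (ModuleCat.of R N)).obj (((ModuleCat.restrictScalars.{u} (algebraMap R A)).mapHomologicalComplex
        (ComplexShape.up ℤ)).obj E)).ExactAt i := by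
  set G := ((ModuleCat.restrictScalars.{u} (algebraMap S B)).mapHomologicalComplex
      (ComplexShape.up ℤ)).obj ((LBC.ext (algebraMap A B)).obj E) with hG
  set F := ((ModuleCat.restrictScalars.{u} (algebraMap R A)).mapHomologicalComplex
      (ComplexShape.up ℤ)).obj E with hF
  rw [HomologicalComplex.exactAt_iff' _ (i - 1) i (i + 1) (by simp) (by simp),
    HomologicalComplex.exactAt_iff' _ (i - 1) i (i + 1) (by simp) (by simp),
    ShortComplex.ShortExact.moduleCat_exact_iff_function_exact,
    ShortComplex.ShortExact.moduleCat_exact_iff_function_exact]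
  let e : ∀ j, TensorProduct S N (G.X j) ≃+ TensorProduct R N (F.X j) := fun j =>
    ((pushoutEquiv (R := R) (S := S) (E.X j)).lTensor N).toAddEquiv.trans
      (TensorProduct.AlgebraTensorModule.cancelBaseChange R S S N (F.X j)).toAddEquiv
  have hd : ∀ (j k : ℤ) (z : TensorProduct S N (G.X j)),
      (F.d j k).hom.lTensor N (e j z) = e k ((G.d j k).hom.lTensor N z) := fun j k z => by
    induction z using TensorProduct.induction_on with
    | zero => simp
    | add x y hx hy => simp only [map_add, hx, hy]
    | tmul l t =>
      obtain ⟨t, rfl⟩ := (pushoutEquiv (R := R) (S := S) (B := B) (E.X j)).symm.surjective t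
      show (F.d j k).hom.lTensor N (TensorProduct.AlgebraTensorModule.cancelBaseChange R S S N (F.X j)
          (l ⊗ₜ[S] pushoutEquiv (B := B) (E.X j) ((pushoutEquiv (B := B) (E.X j)).symm t))) =
        TensorProduct.AlgebraTensorModule.cancelBaseChange R S S N (F.X k) (l ⊗ₜ[S]
          pushoutEquiv (B := B) (E.X k) (((ModuleCat.restrictScalars.{u} (algebraMap S B)).map
            ((ModuleCat.extendScalars.{u, u, u} (algebraMap A B)).map (E.d j k))).hom
              ((pushoutEquiv (B := B) (E.X j)).symm t)))
      rw [pushoutEquiv_natural, LinearEquiv.apply_symm_apply, LinearEquiv.apply_symm_apply]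
      exact (cancelBaseChange_natural (F.d j k).hom (l ⊗ₜ[S] t)).symm
  exact (Function.Exact.iff_of_ladder_addEquiv (e _) (e _) (e _)
    (f₁₂ := ((G.d (i - 1) i).hom.lTensor N).toAddMonoidHom)
    (f₂₃ := ((G.d i (i + 1)).hom.lTensor N).toAddMonoidHom)
    (g₁₂ := ((F.d (i - 1) i).hom.lTensor N).toAddMonoidHom)
    (g₂₃ := ((F.d i (i + 1)).hom.lTensor N).toAddMonoidHom)
    (AddMonoidHom.ext (hd (i - 1) i)) (AddMonoidHom.ext (hd i (i + 1)))).symm

lemma isKFlat_restrict [Module.Flat R A] (E : DRing.Cx A) (b : ℤ)
    (hz : ∀ i, b < i → IsZero (E.X i)) (hE : ∀ i, Module.Flat A (E.X i)) :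
    DRing.IsKFlat R (((ModuleCat.restrictScalars.{u} (algebraMap R A)).mapHomologicalComplex
      (ComplexShape.up ℤ)).obj E) :=
  KFlat.isKFlat_of_boundedAbove b
    (fun i hi => (ModuleCat.restrictScalars.{u} _).map_isZero (hz i hi)) fun i => flat_restrict (hE i)

end Groth.Agent.DRingPC
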