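import Groth.Agent.ProjDim.Regular
import Groth.Agent.DRingPC.PolyTor
import Groth.Agent.DRingPC.Homology
import Groth.Agent.DRingPC.Rel
import Mathlib.RingTheory.RegularLocalRing.Polynomial

/-!
Perfect modules over regular rings.
-/

set_option autoImplicit false
set_option linter.style.haveILetI false
universe u

open CategoryTheory CategoryTheory.Limits Groth.Agent.PCohLib

attribute [local instance] HasDerivedCategory.standard

namespace Groth.Agent.DRingPC

variable {A : Type u} [CommRing A] [IsNoetherianRing A]

lemma isPCModule'_of_finite (M : Type u) [AddCommGroup M] [Module A M] [Module.Finite A M] :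
    DRing.IsPseudoCoherentModule' A M := by
  rw [isPCModule'_iff]
  intro j
  exact NPC_single_of_coh (FF.sum _) (FF.ql _) (fun X _ => precoh_of_noetherian X)
    ((coh_iff_finite (ModuleCat.of _ M)).2 inferInstance) j

/-- S6962. -/
lemma isPerfectModule_iff_finite_of_regular
    (hreg : ∀ p : PrimeSpectrum A, IsRegularLocalRing (Localization.AtPrime p.asIdeal))
    (M : Type u) [AddCommGroup M] [Module A M] :
    DRing.IsPerfectModule A M ↔ Module.Finite A M := by
  constructor
  · rintro ⟨E, a, b, hz, hE, ⟨e⟩⟩
    exact (NPC_zero_inD_iff (ModuleCat.of A M)).1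
      ((isPC_iff_NPC A 0 _).1 ((amplitude_rep_conv hz hE e).1 0))
  · intro hM
    obtain ⟨d, hd⟩ := ProjDim.exists_projDim_of_regular hreg M
    have h := (td_iff_amplitude d _).1 (td_of_projDim (ModuleCat.of A M) hd)
    obtain ⟨E, hz, hE, e⟩ := exists_amplitude_rep (by lia)
      ((isPC'_iff_isPC _ _).1 (isPCModule'_of_finite M) _) h
    exact ⟨E, _, _, hz, hE, e⟩

end Groth.Agent.DRingPC
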