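import Groth.Agent.DRingPC.Nilpotent
import Groth.Agent.DRingPC.LTensorValue

/-!
Descent of pseudo-coherence, boundedness and tor amplitude along finitely many surjections whose
kernels have product zero.
-/

set_option autoImplicit false
set_option linter.style.haveILetI false
universe u

open CategoryTheory CategoryTheory.Limits CategoryTheory.MonoidalCategory
open CategoryTheory.Pretriangulated Groth.Agent.PCohLib
open CochainComplex (mappingCone)

attribute [local instance] HasDerivedCategory.standard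

namespace Groth.Agent.DRingPC

variable {A : Type u} [CommRing A]

/-- Every ideal in the list is the kernel of a surjection `φ` satisfying `C φ`. -/
def Thickens (Is : List (Ideal A)) (C : ∀ (B : Type u) [CommRing B], (A →+* B) → Prop) : Prop :=
  ∀ I ∈ Is, ∃ (B : Type u) (_ : CommRing B) (φ : A →+* B),
    Function.Surjective φ ∧ RingHom.ker φ = I ∧ C B φ

lemma Thickens.imp {Is : List (Ideal A)} {C D : ∀ (B : Type u) [CommRing B], (A →+* B) → Prop}
    (h : Thickens Is C) (hCD : ∀ (B : Type u) [CommRing B] (φ : A →+* B), C B φ → D B φ) :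
    Thickens Is D := fun I hI => by
  obtain ⟨B, iB, φ, h₁, h₂, h₃⟩ := h I hI
  exact ⟨B, iB, φ, h₁, h₂, hCD B φ h₃⟩

/-- Modules killed by the kernel of a surjection are modules over the target. -/
lemma exists_module_of_surjective {B : Type u} [CommRing B] [Algebra A B]
    (hs : Function.Surjective (algebraMap A B)) (N : Type u) [AddCommGroup N] [Module A N]
    (h : Module.IsTorsionBySet A N (RingHom.ker (algebraMap A B))) :
    ∃ _ : Module B N, IsScalarTower A B N := by
  let e : B ≃+* A ⧸ RingHom.ker (algebraMap A B) := (RingHom.quotientKerEquivOfSurjective hs).symm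
  letI : Module (A ⧸ RingHom.ker (algebraMap A B)) N := h.module
  letI m : Module B N := Module.compHom N e.toRingHom
  refine ⟨m, IsScalarTower.of_algebraMap_smul fun a x => ?_⟩
  show e (algebraMap A B a) • x = a • x
  rw [show e (algebraMap A B a) = Ideal.Quotient.mk _ a from
    e.symm.injective (by rw [RingEquiv.symm_apply_apply]; rfl)]
  rfl

/-- Dévissage along a list of ideals with product killing the module. -/
lemma exactAt_tensor_of_prod (P : DRing.Cx A) (hfl : ∀ j, Module.Flat A (P.X j)) (i : ℤ) :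
    ∀ (Is : List (Ideal A)),
      (∀ I ∈ Is, ∀ N : ModuleCat.{u} A, Module.IsTorsionBySet A N I → ((tcx N).obj P).ExactAt i) →
      ∀ (N : ModuleCat.{u} A), Is.prod • (⊤ : Submodule A N) = ⊥ → ((tcx N).obj P).ExactAt i := by
  intro Is
  induction Is with
  | nil =>
    intro _ N hN
    rw [List.prod_nil, Ideal.one_eq_top, Submodule.top_smul] at hN
    haveI : Subsingleton N := by
      rw [← Submodule.subsingleton_iff A, ← subsingleton_iff_bot_eq_top]
      exact hN.symm
    exact ShortComplex.exact_of_isZero_X₂ _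
      (ModuleCat.isZero_of_subsingleton (ModuleCat.of A (TensorProduct A N (P.X i))))
  | cons I L ih =>
    intro h N hN
    let N' : Submodule A N := L.prod • ⊤
    have h' : ((tcx (ModuleCat.of A N')).obj P).ExactAt i := h I (List.mem_cons_self) _
      (fun x r => Subtype.ext (by
        have : (r : A) • (x : N) ∈ I • N' := Submodule.smul_mem_smul r.2 x.2
        rw [← Submodule.mul_smul, ← List.prod_cons, hN] at this
        exact this))
    have h'' : ((tcx (ModuleCat.of A (N ⧸ N'))).obj P).ExactAt i :=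
      ih (fun J hJ => h J (List.mem_cons_of_mem _ hJ)) _ (by
        show L.prod • (⊤ : Submodule A (N ⧸ N')) = ⊥
        rw [← Submodule.range_mkQ N', LinearMap.range_eq_map, ← Submodule.map_smul'']
        exact Submodule.mkQ_map_self N')
    rw [HomologicalComplex.exactAt_iff' _ (i - 1) i (i + 1) (by simp) (by simp),
      ShortComplex.ShortExact.moduleCat_exact_iff_function_exact] at h' h'' ⊢
    show Function.Exact ((P.d (i - 1) i).hom.lTensor N) ((P.d i (i + 1)).hom.lTensor N)
    change Function.Exact ((P.d (i - 1) i).hom.lTensor N') ((P.d i (i + 1)).hom.lTensor N') at h'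
    change Function.Exact ((P.d (i - 1) i).hom.lTensor (N ⧸ N'))
      ((P.d i (i + 1)).hom.lTensor (N ⧸ N')) at h''
    have hc : ∀ {M₁ M₂ : Type u} [AddCommGroup M₁] [Module A M₁] [AddCommGroup M₂] [Module A M₂]
        (g : M₁ →ₗ[A] M₂) (j l : ℤ) (x : TensorProduct A M₁ (P.X j)),
        g.rTensor (P.X l) ((P.d j l).hom.lTensor M₁ x) =
          (P.d j l).hom.lTensor M₂ (g.rTensor (P.X j) x) := fun g j l x =>
      LinearMap.congr_fun ((LinearMap.rTensor_comp_lTensor _ _ _).trans
        (LinearMap.lTensor_comp_rTensor _ _ _).symm) x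
    intro y
    refine ⟨fun hy => ?_, ?_⟩
    · obtain ⟨z', hz'⟩ := (h'' (N'.mkQ.rTensor (P.X i) y)).1 (by rw [← hc, hy, map_zero])
      obtain ⟨z, rfl⟩ := LinearMap.rTensor_surjective (P.X (i - 1)) N'.mkQ_surjective z'
      obtain ⟨w, hw⟩ := (rTensor_exact (P.X i) (LinearMap.exact_subtype_mkQ N') N'.mkQ_surjective
        (y - (P.d (i - 1) i).hom.lTensor N z)).1 (by rw [map_sub, hc, hz', sub_self])
      have hinj : Function.Injective (N'.subtype.rTensor (P.X (i + 1))) := by
        haveI := hfl (i + 1)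
        exact Module.Flat.rTensor_preserves_injective_linearMap _ N'.subtype_injective
      obtain ⟨v, hv⟩ := (h' w).1 (hinj (by
        rw [map_zero, hc, hw, map_sub, hy, zero_sub, neg_eq_zero, ← LinearMap.lTensor_comp_apply,
          ← ModuleCat.hom_comp, P.d_comp_d, ModuleCat.hom_zero, LinearMap.lTensor_zero,
          LinearMap.zero_apply]))
      refine ⟨z + N'.subtype.rTensor (P.X (i - 1)) v, ?_⟩
      rw [map_add, ← hc, hv, hw, add_sub_cancel]
    · rintro ⟨x, rfl⟩
      rw [← LinearMap.lTensor_comp_apply, ← ModuleCat.hom_comp, P.d_comp_d, ModuleCat.hom_zero,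
        LinearMap.lTensor_zero, LinearMap.zero_apply]

/-- Vanishing of all tensor complexes in degree `i` from the base changes. -/
lemma exactAt_tensor_of_thicken {Is : List (Ideal A)} (hIs : Is.prod = ⊥) (P : DRing.Cx A)
    (hfl : ∀ j, Module.Flat A (P.X j)) (i : ℤ)
    (h : Thickens Is fun B _ φ => ∀ N : ModuleCat.{u} B, ((tcx N).obj ((LBC.ext φ).obj P)).ExactAt i)
    (N : ModuleCat.{u} A) : ((tcx N).obj P).ExactAt i := by
  refine exactAt_tensor_of_prod P hfl i Is (fun I hI N' hN' => ?_) N
    (by rw [hIs, Submodule.bot_smul])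
  obtain ⟨B, _, φ, hs, rfl, hC⟩ := h I hI
  letI := φ.toAlgebra
  obtain ⟨m, htow⟩ := exists_module_of_surjective (B := B) hs N' hN'
  letI := m
  haveI := htow
  exact (exactAt_tensor_cancel (S := B) N' P i).1 (hC (ModuleCat.of B N'))

lemma torVanish_of_thicken {Is : List (Ideal A)} (hIs : Is.prod = ⊥) (P : DRing.Cx A)
    (hfl : ∀ j, Module.Flat A (P.X j)) (a b : ℤ)
    (h : Thickens Is fun B _ φ => TorVanish ((LBC.ext φ).obj P) a b) : TorVanish P a b :=
  fun N i hi => exactAt_tensor_of_thicken hIs P hfl i (h.imp fun _ _ _ hC N' => hC N' i hi) N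

/-- Boundedness above from the base changes. -/
lemma isLE_of_thicken {Is : List (Ideal A)} (hIs : Is.prod = ⊥) (P : DRing.Cx A)
    (hP : DRing.IsKFlat A P) (hfl : ∀ j, Module.Flat A (P.X j)) (b : ℤ)
    (h : Thickens Is fun B _ φ => (DRing.toD ((LBC.ext φ).obj P)).IsLE b) :
    (DRing.toD P).IsLE b := by
  refine (DerivedCategory.isLE_iff _ _).2 fun i hi => ?_
  refine IsZero.of_iso ?_ (homologyQIso P i)
  rw [← HomologicalComplex.exactAt_iff_isZero_homology]
  refine exactAt_of_tensor_unit P i (exactAt_tensor_of_thicken hIs P hfl i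
    (h.imp fun B _ φ hC N => ?_) _)
  haveI := hC
  obtain ⟨E, hE, hzE, ⟨eE⟩⟩ := exists_projective_rep B (DRing.toD ((LBC.ext φ).obj P)) b
  obtain ⟨f, hf⟩ := exists_Q_map_eq (P := PR B) (PR.lift B) E hE b hzE _ eE.hom
  haveI : QuasiIso f := by
    rw [← DerivedCategory.isIso_Q_map_iff_quasiIso, hf]; infer_instance
  exact (exactAt_tensor_of_quasiIso (KFlat.isKFlat_of_boundedAbove b hzE fun j => PR.toFL B (hE j))
    (KFlat.isKFlat_ext φ hP) f inferInstance _ i).1
    (ShortComplex.exact_of_isZero_X₂ _ ((tensorLeft N).map_isZero (hzE i hi)))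

lemma finite_of_thicken {M : Type u} [AddCommGroup M] [Module A M] {Is : List (Ideal A)}
    (hIs : Is.prod = ⊥) (h : ∀ I ∈ Is, Module.Finite A (M ⧸ I • (⊤ : Submodule A M))) :
    Module.Finite A M := by
  have key : ∀ L : List (Ideal A), (∀ I ∈ L, Module.Finite A (M ⧸ I • (⊤ : Submodule A M))) →
      ∃ W : Submodule A M, W.FG ∧ W ⊔ L.prod • ⊤ = ⊤ := by
    intro L
    induction L with
    | nil => exact fun _ => ⟨⊥, Submodule.fg_bot, by simp [Ideal.one_eq_top, Submodule.top_smul]⟩
    | cons I L ih =>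
      intro hL
      obtain ⟨W, hW, hWL⟩ := ih fun J hJ => hL J (List.mem_cons_of_mem _ hJ)
      obtain ⟨s, hs⟩ := (hL I (List.mem_cons_self)).fg_top
      choose f hf using Submodule.mkQ_surjective (I • (⊤ : Submodule A M))
      let V : Submodule A M := Submodule.span A (f '' s)
      have hV : V ⊔ I • ⊤ = ⊤ := by
        have hmap : V.map (I • (⊤ : Submodule A M)).mkQ = ⊤ := by
          rw [Submodule.map_span, ← Set.image_comp]
          simp [hf, hs]
        have := Submodule.comap_map_mkQ (I • (⊤ : Submodule A M)) V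
        rw [hmap, Submodule.comap_top, sup_comm] at this
        exact this.symm
      refine ⟨V ⊔ W, Submodule.FG.sup (Submodule.fg_span (s.finite_toSet.image f)) hW,
        eq_top_iff.2 ?_⟩
      refine hV.ge.trans (sup_le (le_sup_left.trans le_sup_left) ?_)
      calc I • (⊤ : Submodule A M) = I • (W ⊔ L.prod • ⊤) := by rw [hWL]
        _ = I • W ⊔ I • L.prod • ⊤ := Submodule.smul_sup _ _ _
        _ ≤ V ⊔ W ⊔ (I :: L).prod • ⊤ := by
          rw [← Submodule.mul_smul, List.prod_cons]
          exact sup_le_sup_right (Submodule.smul_le_right.trans le_sup_right) _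
  obtain ⟨W, hW, hW'⟩ := key Is h
  rw [hIs, Submodule.bot_smul, sup_bot_eq] at hW'
  exact ⟨hW' ▸ hW⟩

/-- The top homology of a bounded above complex is finite from its base changes. -/
lemma finite_opcMod_of_thicken {Is : List (Ideal A)} (hIs : Is.prod = ⊥) (E : DRing.Cx A) (b : ℤ)
    (hz : ∀ i, b < i → IsZero (E.X i))
    (h : Thickens Is fun B _ φ => ∀ m, NPC (FF B) m (DRing.toD ((LBC.ext φ).obj E))) :
    Module.Finite A (opcMod E b) := by
  refine finite_of_thicken hIs fun I hI => ?_
  obtain ⟨B, _, φ, hs, rfl, hPC⟩ := h I hI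
  letI := φ.toAlgebra
  let G := (LBC.ext (algebraMap A B)).obj E
  have hG : ∀ i, b < i → IsZero (G.X i) := fun i hi =>
    (ModuleCat.extendScalars.{u, u, u} (algebraMap A B)).map_isZero (hz i hi)
  haveI hle : (DRing.toD G).IsLE (b - 1 + 1) := by
    rw [DerivedCategory.isLE_iff]
    intro i hi
    refine IsZero.of_iso ?_ (homologyQIso G i)
    rw [← HomologicalComplex.exactAt_iff_isZero_homology]
    exact ShortComplex.exact_of_isZero_X₂ _ (hG i (by lia))
  have h1 := finitePresentation_top (hPC (b - 1))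
  rw [show b - 1 + 1 = b by lia] at h1
  haveI : Module.Finite B (opcMod G b) :=
    haveI := h1
    Module.Finite.equiv (((homologyQIso G b) ≪≫
      G.isoHomologyι b (b + 1) (by simp) ((hG _ (by lia)).eq_of_tgt _ _) ≪≫
        (opcModIso G b).symm).toLinearEquiv)
  let g : opcMod G b →ₗ[B] TensorProduct A B (opcMod E b) :=
    (LinearMap.range (G.d (b - 1) b).hom).liftQ
      (((LinearMap.range (E.d (b - 1) b).hom).mkQ.baseChange B).comp
        (extendLEquiv A B (E.X b)).symm.toLinearMap) (by
      rintro _ ⟨x, rfl⟩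
      obtain ⟨x, rfl⟩ := (extendLEquiv A B (E.X (b - 1))).surjective x
      show (LinearMap.range (E.d (b - 1) b).hom).mkQ.baseChange B
        ((extendLEquiv A B (E.X b)).symm
          ((((LBC.ext (algebraMap A B)).obj E).d (b - 1) b).hom
            (extendLEquiv A B (E.X (b - 1)) x))) = 0
      rw [ext_d_extendLEquiv, LinearEquiv.symm_apply_apply, ← LinearMap.comp_apply,
        ← LinearMap.baseChange_comp,
        LinearMap.range_mkQ_comp, LinearMap.baseChange_zero, LinearMap.zero_apply])
  have hg : Function.Surjective g := fun z => by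
    obtain ⟨w, rfl⟩ := LinearMap.lTensor_surjective B (Submodule.mkQ_surjective _) z
    refine ⟨Submodule.Quotient.mk (extendLEquiv A B (E.X b) w), ?_⟩
    exact congrArg _ ((extendLEquiv A B (E.X b)).symm_apply_apply w)
  haveI : Module.Finite B (TensorProduct A B (opcMod E b)) := Module.Finite.of_surjective g hg
  haveI : Module.Finite A B := Module.Finite.of_surjective (Algebra.linearMap A B) hs
  haveI : Module.Finite A (TensorProduct A B (opcMod E b)) := Module.Finite.trans B _
  exact Module.Finite.equiv (TensorProduct.congr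
    (Ideal.quotientKerAlgEquivOfSurjective (f := Algebra.ofId A B) hs).toLinearEquiv.symm
    (LinearEquiv.refl A (opcMod E b)) ≪≫ₗ TensorProduct.quotTensorEquivQuotSMul (opcMod E b) _)

lemma NPC_of_thicken {Is : List (Ideal A)} (hIs : Is.prod = ⊥) :
    ∀ (k : ℕ) (b : ℤ) (E : DRing.Cx A), (∀ i, Module.Projective A (E.X i)) →
      (∀ i, b < i → IsZero (E.X i)) →
      (Thickens Is fun B _ φ => ∀ m, NPC (FF B) m (DRing.toD ((LBC.ext φ).obj E))) →
      NPC (FF A) (b + 1 - k) (DRing.toD E) := by
  intro k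
  induction k with
  | zero =>
    intro b E _ hz _
    haveI : (DRing.toD E).IsLE b := (DerivedCategory.isLE_iff _ _).2 fun i hi => by
      refine IsZero.of_iso ?_ (homologyQIso E i)
      rw [← HomologicalComplex.exactAt_iff_isZero_homology]
      exact ShortComplex.exact_of_isZero_X₂ _ (hz i hi)
    exact NPC_of_homology' (b := b) fun i hi hib => absurd hi (by lia)
  | succ k ih =>
    intro b E hE hz hp
    haveI := finite_opcMod_of_thicken hIs E b hz hp
    obtain ⟨n, q, hq⟩ := Module.Finite.exists_fin' A (opcMod E b)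
    obtain ⟨l, hl⟩ := Module.projective_lifting_property (LinearMap.range (E.d (b - 1) b).hom).mkQ q
      (Submodule.mkQ_surjective _)
    have hd : E.d b (b + 1) = 0 := (hz _ (by lia)).eq_of_tgt _ _
    let X := ModuleCat.of A (Fin n → A)
    have hX : FF A X := ⟨inferInstance, inferInstance⟩
    let γ : X ⟶ E.cycles b := E.liftCycles (ModuleCat.ofHom l) (b + 1) (by simp) (by rw [hd, comp_zero])
    haveI : Epi (γ ≫ E.homologyπ b) := by
      have h1 : (γ ≫ E.homologyπ b) ≫ E.homologyι b =
          ModuleCat.ofHom q ≫ (opcModIso E b).hom := by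
        rw [Category.assoc, HomologicalComplex.homology_π_ι, HomologicalComplex.liftCycles_i_assoc,
          ← hl, ModuleCat.ofHom_comp, Category.assoc]
        congr 1
        rw [opcModIso, Iso.trans_hom, Iso.symm_hom, ← Category.assoc]
        have h3 : ModuleCat.ofHom (LinearMap.range (E.d (b - 1) b).hom).mkQ ≫
            (ModuleCat.cokernelIsoRangeQuotient (E.d (b - 1) b)).inv = cokernel.π (E.d (b - 1) b) :=
          ModuleCat.range_mkQ_cokernelIsoRangeQuotient_inv _
        rw [h3]
        exact (IsColimit.comp_coconePointUniqueUpToIso_hom (colimit.isColimit _)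
          (E.opcyclesIsCokernel (b - 1) b (by simp)) WalkingParallelPair.one).symm
      haveI := E.isIso_homologyι b (b + 1) (by simp) hd
      haveI : Epi (ModuleCat.ofHom q) := (ModuleCat.epi_iff_surjective _).2 hq
      haveI : Epi ((γ ≫ E.homologyπ b) ≫ E.homologyι b) := by rw [h1]; infer_instance
      have := epi_comp ((γ ≫ E.homologyπ b) ≫ E.homologyι b) (inv (E.homologyι b))
      rwa [Category.assoc, IsIso.hom_inv_id, Category.comp_id] at this
    have hEx : ExactFrom (b + 1) E := fun i hi =>
      ShortComplex.exact_of_isZero_X₂ _ (hz i (by lia))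
    have hτ := NQ_mkHomFromSingle γ hEx
    set τ := HomologicalComplex.mkHomFromSingle (c := ComplexShape.up ℤ) (γ ≫ E.iCycles b)
      (fun k _ => by simp) with hτdef
    let T : DRing.Cx A := (HomologicalComplex.single _ (ComplexShape.up ℤ) b).obj X
    have hT : ∀ i, FF A (T.X i) := fun i => by
      by_cases hi : i = b
      · subst hi
        exact (FF A).prop_of_iso (HomologicalComplex.singleObjXSelf (ComplexShape.up ℤ) i X).symm hX
      · exact (FF A).prop_of_isZero (HomologicalComplex.isZero_single_obj_X _ _ _ _ hi)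
    have hzT : ∀ i, (i < b ∨ b < i) → IsZero (T.X i) := fun i hi =>
      HomologicalComplex.isZero_single_obj_X _ _ _ _ (by lia)
    let C := mappingCone τ
    have hC : ∀ i, Module.Projective A (C.X i) := fun i => by
      haveI : Module.Projective A (T.X (i + 1)) := (FF.toFPj A (hT (i + 1))).2
      haveI := hE i
      exact (PR A).prop_of_iso ((ModuleCat.biprodIsoProd (T.X (i + 1)) (E.X i)).symm ≪≫
        (HomologicalComplex.homotopyCofiber.XIsoBiprod τ i (i + 1) rfl).symm)
        (inferInstance : Module.Projective A (T.X (i + 1) × E.X i))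
    haveI : (DRing.toD C).IsLE (b - 1) := (DerivedCategory.isLE_iff _ _).2 fun i hi => by
      refine IsZero.of_iso ?_ (homologyQIso C i)
      rw [← HomologicalComplex.exactAt_iff_isZero_homology]
      exact hτ.exactFrom i (by lia)
    obtain ⟨C', hC', hzC', ⟨eC⟩⟩ := exists_projective_rep A (DRing.toD C) (b - 1)
    obtain ⟨f, hf⟩ := exists_Q_map_eq (P := PR A) (PR.lift A) C' hC' (b - 1) hzC' C eC.hom
    haveI : QuasiIso f := by
      rw [← DerivedCategory.isIso_Q_map_iff_quasiIso, hf]; infer_instance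
    have hkC' : DRing.IsKFlat A C' :=
      KFlat.isKFlat_of_boundedAbove (b - 1) hzC' (fun i => PR.toFL A (hC' i))
    have hkC : DRing.IsKFlat A C :=
      KFlat.isKFlat_of_boundedAbove b (fun i hi => (CochainComplex.mappingCone.isZero_X_iff τ i).2
        ⟨hzT (i + 1) (by lia), hz i hi⟩)
        (fun i => PR.toFL A (hC i))
    have hpC : Thickens Is fun B _ φ => ∀ m, NPC (FF B) m (DRing.toD ((LBC.ext φ).obj C')) := by
      refine hp.imp fun B _ φ hφ m => ?_
      haveI : QuasiIso ((LBC.ext φ).map f) := LBC.quasiIso_ext_of_kFlat _ hkC' hkC f inferInstance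
      haveI : IsIso (DerivedCategory.Q.map ((LBC.ext φ).map f)) := by
        rw [DerivedCategory.isIso_Q_map_iff_quasiIso]; infer_instance
      refine NPC.of_iso ?_ (asIso (DerivedCategory.Q.map ((LBC.ext φ).map f))).symm
      refine NPC.of_iso ?_ (DerivedCategory.Q.mapIso
        (CochainComplex.mappingCone.mapHomologicalComplexIso τ
          (ModuleCat.extendScalars.{u, u, u} φ))).symm
      refine NPC.of_triangle₃ (FF.sum B) (FF.qs B) (FF.ql B) ((DerivedCategory.mem_distTriang_iff _).2
        ⟨_, _, (LBC.ext φ).map τ, ⟨Iso.refl _⟩⟩) ?_ (hφ m)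
      exact NPC.mk (E := (LBC.ext φ).obj T) ⟨⟨b,
        fun i hi => (ModuleCat.extendScalars.{u, u, u} _).map_isZero (hzT i (Or.inr hi))⟩,
        fun i _ => FF_extend _ (hT i)⟩ (Iso.refl _)
    have h3 : NPC (FF A) (b - k) (DRing.toD C) := by
      have := (ih (b - 1) C' hC' hzC' hpC).of_iso eC
      rwa [show b - 1 + 1 - (k : ℤ) = b - k by lia] at this
    rw [show b + 1 - ((k + 1 : ℕ) : ℤ) = b - k by push_cast; ring]
    exact NPC.of_triangle₂ (FF.sum A) (FF.qs A) (FF.ql A)
      ((DerivedCategory.mem_distTriang_iff _).2 ⟨_, _, τ, ⟨Iso.refl _⟩⟩)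
      (NPC.mk (E := T) ⟨⟨b, fun i hi => hzT i (Or.inr hi)⟩, fun i _ => hT i⟩ (Iso.refl _)) h3

/-- Pseudo-coherence from the base changes. -/
lemma isPC'_of_thicken {Is : List (Ideal A)} (hIs : Is.prod = ⊥) (P : DRing.Cx A)
    (hP : DRing.IsKFlat A P) (hfl : ∀ j, Module.Flat A (P.X j)) (b : ℤ)
    (hle : Thickens Is fun B _ φ => (DRing.toD ((LBC.ext φ).obj P)).IsLE b)
    (h : Thickens Is fun B _ φ => ∀ m, NPC (FF B) m (DRing.toD ((LBC.ext φ).obj P))) :
    DRing.IsPseudoCoherent' A (DRing.toD P) := by
  haveI := isLE_of_thicken hIs P hP hfl b hle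
  obtain ⟨E, hE, hzE, ⟨eE⟩⟩ := exists_projective_rep A (DRing.toD P) b
  obtain ⟨f, hf⟩ := exists_Q_map_eq (P := PR A) (PR.lift A) E hE b hzE P eE.hom
  haveI : QuasiIso f := by
    rw [← DerivedCategory.isIso_Q_map_iff_quasiIso, hf]; infer_instance
  rw [isPC'_iff]
  intro m
  refine ((NPC_of_thicken hIs (b + 1 - m).toNat b E hE hzE (h.imp fun B _ φ hφ j => ?_)).of_iso
    eE).mono (by lia)
  haveI : IsIso (DerivedCategory.Q.map ((LBC.ext φ).map f)) := by
    rw [DerivedCategory.isIso_Q_map_iff_quasiIso]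
    exact LBC.quasiIso_ext_of_kFlat _
      (KFlat.isKFlat_of_boundedAbove b hzE fun i => PR.toFL A (hE i)) hP f inferInstance
  exact (hφ j).of_iso (asIso (DerivedCategory.Q.map ((LBC.ext φ).map f))).symm

/-- Perfectness from the base changes. -/
lemma isPerfect_of_thicken {Is : List (Ideal A)} (hIs : Is.prod = ⊥) (P : DRing.Cx A)
    (hP : DRing.IsKFlat A P) (hfl : ∀ j, Module.Flat A (P.X j)) (a b : ℤ)
    (h : Thickens Is fun B _ φ => TorVanish ((LBC.ext φ).obj P) a b ∧
      ∀ m, NPC (FF B) m (DRing.toD ((LBC.ext φ).obj P))) :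
    DRing.IsPerfect A (DRing.toD P) ∧ DRing.HasTorAmplitudeIn A a b (DRing.toD P) := by
  have hv := torVanish_of_thicken hIs P hfl a b (h.imp fun _ _ _ hh => hh.1)
  have hle : Thickens Is fun B _ φ => (DRing.toD ((LBC.ext φ).obj P)).IsLE b :=
    h.imp fun B _ φ hh => (DerivedCategory.isLE_iff _ _).2 fun i hi => by
      refine IsZero.of_iso ?_ (homologyQIso _ i)
      rw [← HomologicalComplex.exactAt_iff_isZero_homology]
      exact exactAt_of_tensor_unit _ i (hh.1 _ i (Or.inr hi))
  refine exists_rep_of_fibres (isPC'_of_thicken hIs P hP hfl b hle (h.imp fun _ _ _ hh => hh.2))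
    a b fun E b' hE hz he i hi m _ => ?_
  obtain ⟨e⟩ := he
  obtain ⟨g, hg⟩ := exists_Q_map_eq (P := FPj A) (FPj.lift A) E (fun j => FF.toFPj A (hE j)) b' hz
    P e.hom
  haveI : QuasiIso g := by
    rw [← DerivedCategory.isIso_Q_map_iff_quasiIso, hg]; infer_instance
  exact (exactAt_tensor_of_quasiIso (KFlat.isKFlat_of_boundedAbove b' hz
    (fun j => flat_of_FPj (FF.toFPj A (hE j)))) hP g inferInstance _ i).2 (hv _ i hi)

lemma prod_replicate_eq_bot {I : Ideal A} (h : IsNilpotent I) :
    ∃ n : ℕ, (List.replicate n I).prod = ⊥ := by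
  obtain ⟨n, hn⟩ := h
  exact ⟨n, by rw [List.prod_replicate]; exact hn⟩

lemma thickens_replicate {B : Type u} [CommRing B] (φ : A →+* B) (hφ : Function.Surjective φ)
    (n : ℕ) {C : ∀ (B : Type u) [CommRing B], (A →+* B) → Prop} (h : C B φ) :
    Thickens (List.replicate n (RingHom.ker φ)) C := fun I hI => by
  obtain rfl := (List.mem_replicate.1 hI).2
  exact ⟨B, inferInstance, φ, hφ, rfl, h⟩

end Groth.Agent.DRingPC
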