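import Groth.Agent.DRingPC.LBCProps
import Groth.Agent.DRingPC.Descent

/-!
Tor amplitude is local for flat covers.
-/

set_option autoImplicit false
set_option linter.style.haveILetI false
universe u

open CategoryTheory CategoryTheory.Limits CategoryTheory.MonoidalCategory
open CategoryTheory.Pretriangulated Groth.Agent.PCohLib

attribute [local instance] HasDerivedCategory.standard

namespace Groth.Agent.DRingPC

variable {A : Type u} [CommRing A]

lemma exactAt_ext_tcx {S : Type u} [CommRing S] [Algebra A S] (N : ModuleCat.{u} A) (P : DRing.Cx A)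
    (i : ℤ) (h : ((tcx (ModuleCat.of A (TensorProduct A S N))).obj P).ExactAt i) :
    ((LBC.ext (algebraMap A S)).obj ((tcx N).obj P)).ExactAt i := by
  rw [HomologicalComplex.exactAt_iff' _ (i - 1) i (i + 1) (by simp) (by simp),
    ShortComplex.ShortExact.moduleCat_exact_iff_function_exact] at h ⊢
  change Function.Exact ((P.d (i - 1) i).hom.lTensor (TensorProduct A S N))
    ((P.d i (i + 1)).hom.lTensor (TensorProduct A S N)) at h
  let e : ∀ j, TensorProduct A (TensorProduct A S N) (P.X j) ≃+
      ((LBC.ext (algebraMap A S)).obj ((tcx N).obj P)).X j := fun j =>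
    (TensorProduct.assoc A S N (P.X j)).toAddEquiv.trans
      (extendLEquiv A S (((tcx N).obj P).X j)).toAddEquiv
  have hd : ∀ (j k : ℤ) (z : TensorProduct A (TensorProduct A S N) (P.X j)),
      ((((LBC.ext (algebraMap A S)).obj ((tcx N).obj P)).d j k).hom) (e j z) =
        e k ((P.d j k).hom.lTensor (TensorProduct A S N) z) := fun j k z => by
    refine (ext_d_extendLEquiv ((tcx N).obj P) j k _).trans
      (congrArg (extendLEquiv A S (((tcx N).obj P).X k)) ?_)
    have : (((((tcx N).obj P).d j k).hom.baseChange S).restrictScalars A) ∘ₗ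
        (TensorProduct.assoc A S N (P.X j)).toLinearMap =
        (TensorProduct.assoc A S N (P.X k)).toLinearMap ∘ₗ
          (P.d j k).hom.lTensor (TensorProduct A S N) :=
      TensorProduct.ext_threefold fun c n p => rfl
    exact LinearMap.congr_fun this z
  exact (Function.Exact.iff_of_ladder_addEquiv (e _) (e _) (e _)
    (f₁₂ := ((P.d (i - 1) i).hom.lTensor (TensorProduct A S N)).toAddMonoidHom)
    (f₂₃ := ((P.d i (i + 1)).hom.lTensor (TensorProduct A S N)).toAddMonoidHom)
    (g₁₂ := (((LBC.ext (algebraMap A S)).obj ((tcx N).obj P)).d (i - 1) i).hom.toAddMonoidHom)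
    (g₂₃ := (((LBC.ext (algebraMap A S)).obj ((tcx N).obj P)).d i (i + 1)).hom.toAddMonoidHom)
    (AddMonoidHom.ext (hd (i - 1) i)) (AddMonoidHom.ext (hd i (i + 1)))).2 h

variable {ι : Type} {B : ι → Type u} [∀ j, CommRing (B j)] [∀ j, Algebra A (B j)]
  [∀ j, Module.Flat A (B j)]

lemma torAmp_of_cover (hB : IsCover (A := A) B) (K : DRing.Cx A) (a b : ℤ)
    (h : ∀ j, DRing.HasTorAmplitudeIn (B j) a b
      (DRing.toD ((extCx (algebraMap A (B j))).obj K))) :
    DRing.HasTorAmplitudeIn A a b (DRing.toD K) := by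
  obtain ⟨P, q, hP, -, hq, -⟩ := KFlat.exists_surjective_resolution A K
  haveI := KFlat.isIso_Q_map q hq
  refine (torAmp_iff_kFlat hP (asIso (DerivedCategory.Q.map q)) a b).2 fun N i hi =>
    exact_of_cover hB _ i fun j => exactAt_ext_tcx N P i ?_
  haveI := ModuleCat.preservesFiniteLimits_extendScalars_of_flat.{u}
    (RingHom.flat_algebraMap_iff.2 (inferInstance : Module.Flat A (B j)))
  haveI : QuasiIso ((extCx (algebraMap A (B j))).map q) := inferInstance
  haveI : IsIso (DerivedCategory.Q.map ((extCx (algebraMap A (B j))).map q)) := by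
    rw [DerivedCategory.isIso_Q_map_iff_quasiIso]; infer_instance
  exact (exactAt_tensor_cancel (S := B j) (TensorProduct A (B j) N) P i).1
    ((torAmp_iff_kFlat (KFlat.isKFlat_ext _ hP)
      (asIso (DerivedCategory.Q.map ((extCx (algebraMap A (B j))).map q))) a b).1 (h j) _ i hi)

end Groth.Agent.DRingPC
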