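import Groth.Agent.DRingPC.LTensorCxValue
import Groth.Agent.KFlat.RingFlat

/-!
Tor amplitude `[a, ∞)` through K-flat representatives vanishing below `a`.
-/

set_option autoImplicit false
set_option linter.style.haveILetI false
universe u

open CategoryTheory CategoryTheory.Limits CategoryTheory.MonoidalCategory
open CategoryTheory.Pretriangulated Groth.Agent.PCohLib HomologicalComplex

attribute [local instance] HasDerivedCategory.standard

namespace Groth.Agent.DRingPC

variable {A : Type u} [CommRing A]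

/-- Isomorphic objects of `D(A)` have a common K-flat resolution. -/
lemma exists_common_kFlat {X Y : DRing.Cx A} (e : DerivedCategory.Q.obj X ≅ DerivedCategory.Q.obj Y) :
    ∃ (Z : DRing.Cx A) (s : Z ⟶ X) (g : Z ⟶ Y), DRing.IsKFlat A Z ∧ QuasiIso s ∧ QuasiIso g := by
  obtain ⟨Z₀, s₀, hs₀, g₀, hg₀⟩ := DerivedCategory.right_fac e.hom
  obtain ⟨Z, q, hZ, hq⟩ := KFlat.exists_kFlat_resolution A Z₀
  haveI := hq
  haveI : QuasiIso s₀ := (DerivedCategory.isIso_Q_map_iff_quasiIso (C := ModuleCat.{u} A) s₀).1 hs₀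
  haveI : QuasiIso g₀ := by
    rw [← DerivedCategory.isIso_Q_map_iff_quasiIso,
      show DerivedCategory.Q.map g₀ = DerivedCategory.Q.map s₀ ≫ e.hom by simp [hg₀]]
    infer_instance
  exact ⟨Z, q ≫ s₀, q ≫ g₀, hZ, inferInstance, inferInstance⟩

/-- `LTensorCx` of a module in degree zero, read off a K-flat representative of the complex. -/
lemma subsingleton_LTensorCx_single_iff (L : DRing.Cx A) [DRing.HasLTensorCx A L] {P : DRing.Cx A}
    (hP : DRing.IsKFlat A P) (e : DerivedCategory.Q.obj P ≅ DerivedCategory.Q.obj L)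
    (M : ModuleCat.{u} A) (i : ℤ) :
    Subsingleton (Dual.HD A ((DRing.LTensorCx A L).obj
      (DRing.toD ((CochainComplex.singleFunctor (ModuleCat.{u} A) 0).obj M))) i) ↔
      ((tcx M).obj P).ExactAt i := by
  let S₀ := (HomologicalComplex.single (ModuleCat.{u} A) (ComplexShape.up ℤ) 0).obj M
  obtain ⟨R₀, q, hR₀, hq⟩ := KFlat.exists_kFlat_resolution A S₀
  obtain ⟨Z, s, g, -, hs, hg⟩ := exists_common_kFlat e
  haveI := KFlat.isIso_Q_map q hq
  haveI := KFlat.isIso_Q_map _ (KFlat.quasiIso_whiskerLeft hR₀ g hg)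
  haveI := KFlat.isIso_Q_map _ (KFlat.quasiIso_whiskerLeft hR₀ s hs)
  haveI := KFlat.isIso_Q_map _ (KFlat.quasiIso_whiskerRight hP q hq)
  let eL : (DRing.LTensorCx A L).obj (DRing.toD S₀) ≅ DerivedCategory.Q.obj ((tcx M).obj P) :=
    (DRing.LTensorCx A L).mapIso (asIso (DerivedCategory.Q.map q)).symm ≪≫
      ltensorCxValueIso L R₀ hR₀ ≪≫ (asIso (DerivedCategory.Q.map (R₀ ◁ g))).symm ≪≫
        asIso (DerivedCategory.Q.map (R₀ ◁ s)) ≪≫ asIso (DerivedCategory.Q.map (q ▷ P)) ≪≫
          DerivedCategory.Q.mapIso (tcxSingleIso M P).symm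
  rw [subsingleton_iff_isZero, exactAt_iff_isZero_homology]
  exact ((DerivedCategory.homologyFunctor _ i).mapIso eL ≪≫ homologyQIso _ i).isZero_iff

/-- K-flat representatives vanishing below `a`. -/
lemma exists_kFlat_vanishingBelow (P : DRing.Cx A) (hP : DRing.IsKFlat A P)
    (hfl : ∀ i, Module.Flat A (P.X i)) (a : ℤ)
    (h : ∀ (M : ModuleCat.{u} A) (i : ℤ), i < a → ((tcx M).obj P).ExactAt i) :
    ∃ E : DRing.Cx A, DRing.IsKFlat A E ∧ DRing.TermwiseFlat E ∧ (∀ i, i < a → IsZero (E.X i)) ∧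
      Nonempty (DRing.toD E ≅ DRing.toD P) := by
  have hex : ∀ i, i < a → P.ExactAt i := fun i hi => exactAt_of_tensor_unit P i (h _ i hi)
  haveI : P.IsGE a := (CochainComplex.isGE_iff _ _).2 hex
  let E := P.truncGE a
  let π : P ⟶ E := P.πTruncGE a
  have hop : Module.Flat A (opcMod P a) :=
    flat_quotient (opcSC_shortExact P (a - 1) a (by lia) (hex _ (by lia))) (hfl a)
      fun N => (exactAt_tensor_iff P N (a - 1) a (by lia)).1 (h N _ (by lia))
  have hEfl : ∀ i, FL A (E.X i) := fun i => by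
    rcases lt_trichotomy i a with hi | rfl | hi
    · exact (FL A).prop_of_isZero (E.isZero_of_isStrictlyGE a i hi)
    · exact (FL A).prop_of_iso (opcModIso P i ≪≫ (P.truncGEXIsoOpcycles i).symm) hop
    · exact (FL A).prop_of_iso (P.truncGEXIso a i hi).symm (hfl i)
  let S := ShortComplex.mk (kernel.ι π) π (kernel.condition π)
  haveI : ∀ i, Epi (π.f i) := fun i =>
    inferInstanceAs (Epi ((HomologicalComplex.πTruncGE P (ComplexShape.embeddingUpIntGE a)).f i))
  haveI : Epi π := epi_of_epi_f _ fun _ => inferInstance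
  have hS : S.ShortExact :=
    { exact := ShortComplex.exact_of_f_is_kernel S (kernelIsKernel π) }
  have hG : ∀ i, Module.Flat A (S.X₁.X i) := fun i => by
    have hi := hS.map_of_exact (HomologicalComplex.eval (ModuleCat.{u} A) (ComplexShape.up ℤ) i)
    haveI : Module.Flat A (S.map (eval (ModuleCat.{u} A) (ComplexShape.up ℤ) i)).X₃ := hEfl i
    haveI : Module.Flat A (S.map (eval (ModuleCat.{u} A) (ComplexShape.up ℤ) i)).X₂ := hfl i
    exact TFun.flat_left ((ModuleCat.mono_iff_injective _).1 hi.mono_f)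
      ((ShortComplex.ShortExact.moduleCat_exact_iff_function_exact _).1 hi.exact)
      ((ModuleCat.epi_iff_surjective _).1 hi.epi_g)
  have hGz : ∀ i, a < i → IsZero (S.X₁.X i) := fun i hi => by
    haveI : IsIso (π.f i) := by
      have he : (ComplexShape.embeddingUpIntGE a).f (i - a).natAbs = i := by
        rw [ComplexShape.embeddingUpIntGE_f]
        lia
      change IsIso (((ComplexShape.embeddingUpIntGE a).liftExtend
        (P.restrictionToTruncGE' (ComplexShape.embeddingUpIntGE a))
        (P.restrictionToTruncGE'_hasLift _)).f i)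
      rw [(ComplexShape.embeddingUpIntGE a).isIso_liftExtend_f_iff _ _ he]
      refine P.isIso_restrictionToTruncGE' _ _ ?_
      rw [ComplexShape.boundaryGE_embeddingUpIntGE_iff]
      lia
    haveI := (hS.map_of_exact (HomologicalComplex.eval (ModuleCat.{u} A) (ComplexShape.up ℤ) i)).mono_f
    refine IsZero.of_mono_eq_zero ((kernel.ι π).f i) ?_
    rw [← cancel_mono (π.f i), ← comp_f, kernel.condition]
    simp
  exact ⟨E, (KFlat.two_of_three hS hEfl).1 (KFlat.isKFlat_of_boundedAbove a hGz hG) hP, hEfl,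
    fun i hi => E.isZero_of_isStrictlyGE a i hi, ⟨(asIso (DerivedCategory.Q.map π)).symm⟩⟩

end Groth.Agent.DRingPC
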